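import Mathlib
import Cfsg.Prelude.Def_GeometricClasses
import Cfsg.Agent.Lib.Aschbacher.FieldNorm
import Cfsg.Agent.Lib.Elusive.Dims

/-!
A field subalgebra `K` of degree `k` of the matrix algebra and its normaliser: dimensions of `K`-invariant
subspaces, and the rank of `g - 1` for `g` semilinear over `K`.
-/

set_option autoImplicit false
set_option linter.unusedSectionVars false
set_option linter.style.haveILetI false

open scoped Matrix MatrixGroups

namespace Cfsg.Agent.Elusive.ExtField

open Module (finrank)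

variable {ι : Type} [Fintype ι] [DecidableEq ι] {F : Type*} [Field F] [Fintype F]
  {K : Subalgebra F (Matrix ι ι F)} {k : ℕ}

local notation "𝕍" => ι → F
local notation "𝕄" => Matrix ι ι F

/-- Invariance under `K`. -/
abbrev KInv (K : Subalgebra F (Matrix ι ι F)) (W : Submodule F (ι → F)) : Prop :=
  ∀ a ∈ K, ∀ v ∈ W, a *ᵥ v ∈ W

theorem isField (hK : Geo.IsFieldSubalgebra k K) (hk : 0 < k) : IsField K where
  exists_pair_ne := by
    haveI : Nontrivial K := Module.nontrivial_of_finrank_pos (R := F) (by rw [hK.finrank_eq]; exact hk)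
    exact exists_pair_ne K
  mul_comm a b := Subtype.ext (hK.comm _ a.2 _ b.2)
  mul_inv_cancel {a} ha := by
    obtain ⟨b, hb, hab⟩ := hK.inv _ a.2 fun h => ha (Subtype.ext h)
    exact ⟨⟨b, hb⟩, Subtype.ext hab⟩

/-- A non-zero `K`-invariant subspace has dimension at least `k`. -/
theorem le_finrank_of_kinv (hK : Geo.IsFieldSubalgebra k K) {W : Submodule F 𝕍} (hW : KInv K W)
    (hne : W ≠ ⊥) : k ≤ finrank F W := by
  obtain ⟨v, hv, hv0⟩ := Submodule.exists_mem_ne_zero_of_ne_bot hne
  rw [← hK.finrank_eq]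
  refine LinearMap.finrank_le_finrank_of_injective
    (f := (Aschbacher.evalAt K v).codRestrict W fun a => hW a a.2 v hv) ?_
  exact fun a b h => Aschbacher.evalAt_injective hK hv0 (congrArg Subtype.val h)

/-- The range of a matrix commuting with `K` is `K`-invariant. -/
theorem kinv_range {M : 𝕄} (h : ∀ a ∈ K, M * a = a * M) : KInv K (LinearMap.range (Matrix.toLin' M)) := by
  rintro a ha _ ⟨v, rfl⟩
  exact ⟨a *ᵥ v, by rw [Matrix.toLin'_apply, Matrix.toLin'_apply, Matrix.mulVec_mulVec, Matrix.mulVec_mulVec, h a ha]⟩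

theorem rank_eq_finrank (M : 𝕄) : M.rank = finrank F (LinearMap.range (Matrix.toLin' M)) := rfl

/-- Conjugation by an invertible matrix. -/
def conjA (u : GL ι F) : 𝕄 ≃ₐ[F] 𝕄 where
  toFun M := u.1 * M * (u⁻¹ : GL ι F).1
  invFun M := (u⁻¹ : GL ι F).1 * M * u.1
  left_inv M := by
    show (u⁻¹ : GL ι F).1 * (u.1 * M * (u⁻¹ : GL ι F).1) * u.1 = M
    simp [mul_assoc]
  right_inv M := by
    show u.1 * ((u⁻¹ : GL ι F).1 * M * u.1) * (u⁻¹ : GL ι F).1 = M
    simp [mul_assoc]
  map_mul' A B := by simp [mul_assoc]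
  map_add' A B := by simp [Matrix.mul_add, Matrix.add_mul]
  commutes' c := by simp [Algebra.algebraMap_eq_smul_one]

/-- The automorphism of `K` induced by an element of the normaliser. -/
def autK (g : GL ι F) (hg : g ∈ Geo.subalgebraNormalizer K) : K ≃ₐ[F] K where
  toFun a := ⟨g.1 * a.1 * (g⁻¹ : GL ι F).1, (hg a.1).1 a.2⟩
  invFun a := ⟨(g⁻¹ : GL ι F).1 * a.1 * g.1, (hg _).2 (by simpa [mul_assoc] using a.2)⟩
  left_inv a := Subtype.ext ((conjA g).left_inv a.1)
  right_inv a := Subtype.ext ((conjA g).right_inv a.1)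
  map_mul' a b := Subtype.ext (map_mul (conjA g) a.1 b.1)
  map_add' a b := Subtype.ext (map_add (conjA g) a.1 b.1)
  commutes' c := Subtype.ext ((conjA g).commutes c)

theorem autK_val (g : GL ι F) (hg : g ∈ Geo.subalgebraNormalizer K) (a : K) :
    (autK g hg a : 𝕄) * g.1 = g.1 * a := by
  show g.1 * a.1 * (g⁻¹ : GL ι F).1 * g.1 = _
  simp [mul_assoc]

theorem commute_of_autK_one (g : GL ι F) (hg : g ∈ Geo.subalgebraNormalizer K)
    (h : autK g hg = 1) : ∀ a ∈ K, g.1 * a = a * g.1 := by
  intro a ha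
  have := autK_val g hg ⟨a, ha⟩
  rw [h] at this
  exact this.symm

theorem card_aut (hK : Geo.IsFieldSubalgebra k K) (hk : 0 < k) : Nat.card (K ≃ₐ[F] K) = k := by
  letI : Field K := (isField hK hk).toField
  haveI : Finite K := Module.finite_of_finite F
  rw [← hK.finrank_eq]
  exact IsGalois.card_aut_eq_finrank F K

/-- An element of prime order of the normaliser commutes with `K` unless its order is the degree. -/
theorem commute_or_eq (hK : Geo.IsFieldSubalgebra k K) (hk : k.Prime) {r : ℕ} [hr : Fact r.Prime]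
    (g : GL ι F) (hg : g ∈ Geo.subalgebraNormalizer K) (hgr : g ^ r = 1) :
    (∀ a ∈ K, g.1 * a = a * g.1) ∨ r = k := by
  by_cases h1 : autK g hg = 1
  · exact Or.inl (commute_of_autK_one g hg h1)
  refine Or.inr ?_
  have hpow : ∀ (j : ℕ) (a : K), (((autK g hg) ^ j) a : 𝕄) * g.1 ^ j = g.1 ^ j * a := by
    intro j
    induction j with
    | zero => intro a; simp
    | succ j ih =>
      intro a
      rw [pow_succ, AlgEquiv.mul_apply, pow_succ, ← mul_assoc, ih, mul_assoc, autK_val, mul_assoc]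
  have hr1 : autK g hg ^ r = 1 := AlgEquiv.ext fun a => Subtype.ext (by
    have h := hpow r a
    rw [← Units.val_pow_eq_pow_val, hgr, Units.val_one, mul_one, one_mul] at h
    simpa using h)
  have hord : orderOf (autK g hg) = r := orderOf_eq_prime hr1 h1
  have := orderOf_dvd_natCard (autK g hg)
  rw [hord, card_aut hK hk.pos] at this
  exact (Nat.prime_dvd_prime_iff_eq hr.out hk).1 this

/-- An element of the normaliser not commuting with `K` has a fixed space of dimension at most `N / k`. -/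
theorem mul_ker_le (hK : Geo.IsFieldSubalgebra k K) (hk : k.Prime) (g : GL ι F)
    (hg : g ∈ Geo.subalgebraNormalizer K) (hnc : ¬ ∀ a ∈ K, g.1 * a = a * g.1) :
    k * finrank F (LinearMap.ker (Matrix.toLin' (g.1 - 1))) ≤ Fintype.card ι := by
  classical
  letI : Field K := (isField hK hk.pos).toField
  haveI : Finite K := Module.finite_of_finite F
  haveI : Fact k.Prime := ⟨hk⟩
  set σ := autK g hg with hσ
  have hσ1 : σ ≠ 1 := fun h => hnc (commute_of_autK_one g hg h)
  have hgen : Subgroup.zpowers σ = ⊤ := zpowers_eq_top_of_prime_card (card_aut hK hk.pos) hσ1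
  have hfix : ∀ a : K, σ a = a → a ∈ Set.range (algebraMap F K) := by
    intro a ha
    rw [IsGalois.mem_range_algebraMap_iff_fixed]
    intro f
    have hf : f ∈ Subgroup.zpowers σ := hgen ▸ Subgroup.mem_top f
    obtain ⟨j, rfl⟩ := (Submonoid.mem_powers_iff _ _).1 (mem_powers_iff_mem_zpowers.2 hf)
    induction j with
    | zero => simp
    | succ j ih => rw [pow_succ, AlgEquiv.mul_apply, ha]; exact ih (pow_mem (Subgroup.mem_zpowers σ) j)
  set U := LinearMap.ker (Matrix.toLin' (g.1 - 1)) with hU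
  have hgu : ∀ u ∈ U, g.1 *ᵥ u = u := fun u hu => by
    rw [hU, LinearMap.mem_ker, Matrix.toLin'_apply, Matrix.sub_mulVec, Matrix.one_mulVec, sub_eq_zero] at hu
    exact hu
  let b := Module.finBasis F U
  set u : Fin (finrank F U) → 𝕍 := fun j => (b j : 𝕍) with hu
  have huli : LinearIndependent F u := b.linearIndependent.map' U.subtype U.ker_subtype
  have key : ∀ (n : ℕ) (S : Finset (Fin (finrank F U))) (c : Fin (finrank F U) → K), S.card = n →
      ∑ j ∈ S, (c j : 𝕄) *ᵥ u j = 0 → ∀ j ∈ S, c j = 0 := by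
    intro n
    induction n using Nat.strong_induction_on with
    | _ n ih =>
    intro S c hS hsum j₀ hj₀
    by_contra hc0
    have hlt : (S.erase j₀).card < n := hS ▸ Finset.card_erase_lt_of_mem hj₀
    -- scale the relation
    set d : Fin (finrank F U) → K := fun j => (c j₀)⁻¹ * c j with hd
    have hd0 : d j₀ = 1 := inv_mul_cancel₀ hc0
    have hsumd : ∑ j ∈ S, (d j : 𝕄) *ᵥ u j = 0 := by
      have := congrArg (fun w => (((c j₀)⁻¹ : K) : 𝕄) *ᵥ w) hsum
      simp only [Matrix.mulVec_zero, Matrix.mulVec_sum, Matrix.mulVec_mulVec] at this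
      exact this
    have hsums : ∑ j ∈ S, (σ (d j) : 𝕄) *ᵥ u j = 0 := by
      have := congrArg (fun w => g.1 *ᵥ w) hsumd
      simp only [Matrix.mulVec_zero, Matrix.mulVec_sum, Matrix.mulVec_mulVec, ← autK_val g hg] at this
      simp only [← Matrix.mulVec_mulVec, show ∀ j, g.1 *ᵥ u j = u j from fun j => hgu _ (b j).2] at this
      exact this
    have hdiff : ∑ j ∈ S.erase j₀, ((σ (d j) - d j : K) : 𝕄) *ᵥ u j = 0 := by
      have hz : ((σ (d j₀) - d j₀ : K) : 𝕄) *ᵥ u j₀ = 0 := by rw [hd0, map_one, sub_self]; simp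
      have h0 : ∑ j ∈ S, ((σ (d j) - d j : K) : 𝕄) *ᵥ u j = 0 := by
        simp only [AddSubgroupClass.coe_sub, Matrix.sub_mulVec, Finset.sum_sub_distrib, hsums, hsumd, sub_zero]
      rw [← Finset.add_sum_erase S _ hj₀, hz, zero_add] at h0
      exact h0
    have hall : ∀ j ∈ S, d j ∈ Set.range (algebraMap F K) := fun j hj => by
      by_cases hjj : j = j₀
      · exact ⟨1, by rw [map_one, hjj, hd0]⟩
      · exact hfix _ (sub_eq_zero.1 (ih _ hlt _ _ rfl hdiff j (Finset.mem_erase.2 ⟨hjj, hj⟩)))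
    choose! a ha using hall
    have hrel : ∑ j ∈ S, a j • u j = 0 := by
      rw [← hsumd]
      refine Finset.sum_congr rfl fun j hj => ?_
      rw [← ha j hj, Subalgebra.coe_algebraMap, Algebra.algebraMap_eq_smul_one, Matrix.smul_mulVec,
        Matrix.one_mulVec]
    have := linearIndependent_iff'.1 huli S a hrel j₀ hj₀
    have h1 := ha j₀ hj₀
    rw [this, map_zero, hd0] at h1
    exact zero_ne_one h1
  let Φ : (Fin (finrank F U) → K) →ₗ[F] 𝕍 :=
    ∑ j, (Aschbacher.evalAt K (u j)).comp (LinearMap.proj j)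
  have hΦ : Function.Injective Φ := by
    rw [injective_iff_map_eq_zero]
    intro c hc
    refine funext fun j => key _ Finset.univ c rfl ?_ j (Finset.mem_univ j)
    simp only [Φ, LinearMap.sum_apply, LinearMap.comp_apply, LinearMap.proj_apply] at hc
    exact hc
  have := LinearMap.finrank_le_finrank_of_injective hΦ
  rw [Module.finrank_pi_fintype, Finset.sum_const, Finset.card_univ, Fintype.card_fin, smul_eq_mul,
    Module.finrank_fintype_fun_eq_card] at this
  rw [mul_comm]
  simpa [hK.finrank_eq] using this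

/-- Rank bound for semilinear elements. -/
theorem rank_semilinear (hK : Geo.IsFieldSubalgebra k K) (hk : k.Prime) (g : GL ι F)
    (hg : g ∈ Geo.subalgebraNormalizer K) (hnc : ¬ ∀ a ∈ K, g.1 * a = a * g.1) :
    k * Fintype.card ι ≤ Fintype.card ι + k * (g.1 - 1).rank := by
  have h1 := mul_ker_le hK hk g hg hnc
  have h2 := LinearMap.finrank_range_add_finrank_ker (Matrix.toLin' (g.1 - 1))
  rw [Module.finrank_fintype_fun_eq_card, ← rank_eq_finrank] at h2
  rw [← h2, mul_add]
  omega

/-- The rank of `x - 1` is invariant under conjugation. -/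
theorem rank_conj (g x : GL ι F) : ((g⁻¹ * x * g : GL ι F).1 - 1).rank = (x.1 - 1).rank := by
  have hd : ∀ u : GL ι F, IsUnit u.1.det := fun u =>
    (Matrix.isUnit_iff_isUnit_det _).1 u.isUnit
  have e : (g⁻¹ * x * g : GL ι F).1 - 1 = (g⁻¹ : GL ι F).1 * (x.1 - 1) * g.1 := by
    simp [Matrix.mul_sub, Matrix.sub_mul]
  rw [e, Matrix.rank_mul_eq_left_of_isUnit_det _ _ (hd g), Matrix.rank_mul_eq_right_of_isUnit_det _ _ (hd g⁻¹)]

/-- An element of the normaliser is determined by its action on a generator. -/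
theorem mem_normalizer_of_conj (g : GL ι F) (h : ∀ a ∈ K, g.1 * a * (g⁻¹ : GL ι F).1 ∈ K)
    (h' : ∀ a ∈ K, (g⁻¹ : GL ι F).1 * a * g.1 ∈ K) : g ∈ Geo.subalgebraNormalizer K :=
  fun a => ⟨h a, fun ha => by simpa [mul_assoc] using h' _ ha⟩

theorem mem_normalizer_of_commute (g : GL ι F) (h : ∀ a ∈ K, g.1 * a = a * g.1) :
    g ∈ Geo.subalgebraNormalizer K := by
  refine mem_normalizer_of_conj g (fun a ha => ?_) (fun a ha => ?_)
  · rw [h a ha, mul_assoc, Units.mul_inv, mul_one]; exact ha
  · rw [mul_assoc, ← h a ha, ← mul_assoc, Units.inv_mul, one_mul]; exact ha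

end Cfsg.Agent.Elusive.ExtField
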