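import Cfsg.Agent.Lib.Elusive.ExtField.Basic

/-!
Hyperbolic frames over a field subalgebra `K` of self-adjoint elements of an alternating form, with respect
to a fixed non-zero functional `θ` on `K`.
-/

set_option autoImplicit false
set_option linter.unusedSectionVars false
set_option linter.style.haveILetI false

open scoped Matrix MatrixGroups

namespace Cfsg.Agent.Elusive.ExtField

open Module (finrank)

variable {ι : Type} [Fintype ι] [DecidableEq ι] {F : Type*} [Field F] [Fintype F]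
  {K : Subalgebra F (Matrix ι ι F)} {k : ℕ} (B : LinearMap.BilinForm F (ι → F))

local notation "𝕍" => ι → F

/-- `K` consists of self-adjoint elements `a` with `B (a v) v = 0`. -/
structure SelfAlt (K : Subalgebra F (Matrix ι ι F)) : Prop where
  alt : ∀ v : 𝕍, B v v = 0
  self : ∀ a ∈ K, ∀ u v : 𝕍, B (a *ᵥ u) v = B u (a *ᵥ v)
  kalt : ∀ a ∈ K, ∀ v : 𝕍, B (a *ᵥ v) v = 0

variable {B}

theorem SelfAlt.swap (h : SelfAlt B K) (x y : 𝕍) : B y x = -B x y := by
  have e := h.alt (x + y)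
  simp only [map_add, LinearMap.add_apply, h.alt, zero_add, add_zero] at e
  exact eq_neg_of_add_eq_zero_left (by rw [add_comm] at e ⊢; exact e)

theorem SelfAlt.swapK (h : SelfAlt B K) {c : Matrix ι ι F} (hc : c ∈ K) (x y : 𝕍) :
    B (c *ᵥ y) x = -B (c *ᵥ x) y := by
  rw [h.self c hc y x, h.swap (c *ᵥ x) y]

/-- Orthogonal `K`-hyperbolic pairs. -/
structure KFrame (B : LinearMap.BilinForm F (ι → F)) (θ : K →ₗ[F] F) {l : ℕ} (u v : Fin l → (ι → F)) : Prop where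
  uu : ∀ (a : K) i j, B ((a : Matrix ι ι F) *ᵥ u i) (u j) = 0
  vv : ∀ (a : K) i j, B ((a : Matrix ι ι F) *ᵥ v i) (v j) = 0
  uv : ∀ (a : K) i j, B ((a : Matrix ι ι F) *ᵥ u i) (v j) = if i = j then θ a else 0

/-- `x ↦ (a ↦ B (a u) x)`. -/
noncomputable def pairMap (B : LinearMap.BilinForm F (ι → F)) (u : 𝕍) : 𝕍 →ₗ[F] (K →ₗ[F] F) :=
  (LinearMap.lcomp F F (Aschbacher.evalAt K u)).comp B.flip

theorem pairMap_apply (u x : 𝕍) (a : K) : pairMap B u x a = B ((a : Matrix ι ι F) *ᵥ u) x := rfl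

theorem exists_mul_eq_one (hK : Geo.IsFieldSubalgebra k K) {a : K} (ha : a ≠ 0) : ∃ b : K, b * a = 1 := by
  obtain ⟨b, hb, hab⟩ := hK.inv _ a.2 fun h => ha (Subtype.ext h)
  exact ⟨⟨b, hb⟩, Subtype.ext ((hK.comm _ hb _ a.2).trans hab)⟩

theorem mulVec_pair (hB : SelfAlt B K) (a c : K) (x y : 𝕍) :
    B ((a : Matrix ι ι F) *ᵥ x) ((c : Matrix ι ι F) *ᵥ y) = B (((c * a : K) : Matrix ι ι F) *ᵥ x) y := by
  rw [← hB.self _ c.2, Matrix.mulVec_mulVec, Subalgebra.coe_mul]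

/-- A vector paired with `u` through `θ`. -/
theorem exists_partner (hK : Geo.IsFieldSubalgebra k K) (hB : SelfAlt B K) (θ : K →ₗ[F] F)
    {W : Submodule F 𝕍} (hW : KInv K W) {u w : 𝕍} (hw : w ∈ W) (hne : B u w ≠ 0) :
    ∃ v ∈ W, ∀ a : K, B ((a : Matrix ι ι F) *ᵥ u) v = θ a := by
  let ψ : K →ₗ[F] (K →ₗ[F] F) := (pairMap B u).comp (Aschbacher.evalAt K w)
  have hψ : Function.Injective ψ := by
    rw [injective_iff_map_eq_zero]
    intro c hc
    by_contra hc0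
    obtain ⟨b, hb⟩ := exists_mul_eq_one hK hc0
    have h : B ((b : Matrix ι ι F) *ᵥ u) ((c : Matrix ι ι F) *ᵥ w) = 0 := LinearMap.congr_fun hc b
    rw [mulVec_pair hB, show c * b = 1 from (Subtype.ext (hK.comm _ c.2 _ b.2) : c * b = b * c).trans hb,
      Subalgebra.coe_one, Matrix.one_mulVec] at h
    exact hne h
  obtain ⟨c, hc⟩ := (LinearMap.injective_iff_surjective_of_finrank_eq_finrank
    (Subspace.dual_finrank_eq (K := F) (V := K)).symm).1 hψ θ
  exact ⟨(c : Matrix ι ι F) *ᵥ w, hW _ c.2 _ hw, fun a => LinearMap.congr_fun hc a⟩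

/-- Every pair of functionals is attained on the plane spanned over `K` by a pair. -/
theorem pair_surjective (hK : Geo.IsFieldSubalgebra k K) (hB : SelfAlt B K) (θ : K →ₗ[F] F) (hθ : θ ≠ 0)
    {u v : 𝕍} (huv : ∀ a : K, B ((a : Matrix ι ι F) *ᵥ u) v = θ a) (z : (K →ₗ[F] F) × (K →ₗ[F] F)) :
    ∃ c e : K, pairMap B u ((c : Matrix ι ι F) *ᵥ u + (e : Matrix ι ι F) *ᵥ v) = z.1 ∧
      pairMap B v ((c : Matrix ι ι F) *ᵥ u + (e : Matrix ι ι F) *ᵥ v) = z.2 := by
  have hvu : ∀ a : K, B ((a : Matrix ι ι F) *ᵥ v) u = -θ a := fun a => by rw [hB.swapK a.2 u v, huv]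
  have hθnd : ∀ e : K, (∀ a : K, θ (a * e) = 0) → e = 0 := fun e he => by
    by_contra he0
    obtain ⟨b, hb⟩ := exists_mul_eq_one hK he0
    refine hθ (LinearMap.ext fun a => ?_)
    have := he (a * b)
    rwa [mul_assoc, hb, mul_one] at this
  let L : K × K →ₗ[F] 𝕍 := (Aschbacher.evalAt K u).coprod (Aschbacher.evalAt K v)
  let Λ : K × K →ₗ[F] (K →ₗ[F] F) × (K →ₗ[F] F) := ((pairMap B u).comp L).prod ((pairMap B v).comp L)
  have hinj : Function.Injective Λ := by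
    rw [injective_iff_map_eq_zero]
    rintro ⟨c, e⟩ hce
    have h1 : ∀ a : K, B ((a : Matrix ι ι F) *ᵥ u) ((c : Matrix ι ι F) *ᵥ u + (e : Matrix ι ι F) *ᵥ v) = 0 :=
      fun a => LinearMap.congr_fun (congrArg Prod.fst hce) a
    have h2 : ∀ a : K, B ((a : Matrix ι ι F) *ᵥ v) ((c : Matrix ι ι F) *ᵥ u + (e : Matrix ι ι F) *ᵥ v) = 0 :=
      fun a => LinearMap.congr_fun (congrArg Prod.snd hce) a
    refine Prod.ext (hθnd c fun a => ?_) (hθnd e fun a => ?_)
    · have := h2 a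
      rwa [map_add, mulVec_pair hB, mulVec_pair hB, hvu, hB.kalt _ (e * a).2, add_zero, neg_eq_zero,
        show c * a = a * c from Subtype.ext (hK.comm _ c.2 _ a.2)] at this
    · have := h1 a
      rwa [map_add, mulVec_pair hB, mulVec_pair hB, huv, hB.kalt _ (c * a).2, zero_add,
        show e * a = a * e from Subtype.ext (hK.comm _ e.2 _ a.2)] at this
  obtain ⟨⟨c, e⟩, hce⟩ := (LinearMap.injective_iff_surjective_of_finrank_eq_finrank (by
    rw [Module.finrank_prod, Module.finrank_prod, Subspace.dual_finrank_eq (K := F) (V := K)])).1 hinj z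
  exact ⟨c, e, congrArg Prod.fst hce, congrArg Prod.snd hce⟩

/-- A non-degenerate `K`-invariant subspace carries a full frame; its dimension is a multiple of `2 k`. -/
theorem exists_kframe (hK : Geo.IsFieldSubalgebra k K) (hk : 0 < k) (hB : SelfAlt B K) (θ : K →ₗ[F] F)
    (hθ : θ ≠ 0) : ∀ (W : Submodule F 𝕍), KInv K W → (∀ x ∈ W, (∀ y ∈ W, B x y = 0) → x = 0) →
      ∃ (l : ℕ) (u v : Fin l → 𝕍), finrank F W = 2 * k * l ∧ (∀ i, u i ∈ W ∧ v i ∈ W) ∧ KFrame B θ u v := by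
  intro W
  generalize hn : finrank F W = n
  induction n using Nat.strong_induction_on generalizing W with
  | _ n ih =>
  intro hW hN
  by_cases hbot : W = ⊥
  · subst hbot
    exact ⟨0, Fin.elim0, Fin.elim0, by rw [← hn]; simp, fun i => i.elim0,
      ⟨fun _ i => i.elim0, fun _ i => i.elim0, fun _ i => i.elim0⟩⟩
  obtain ⟨u₀, hu₀, hu0⟩ := Submodule.exists_mem_ne_zero_of_ne_bot hbot
  obtain ⟨w₁, hw₁, hne⟩ : ∃ w ∈ W, B u₀ w ≠ 0 := by
    by_contra h
    push Not at h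
    exact hu0 (hN u₀ hu₀ h)
  obtain ⟨v₀, hv₀, huv⟩ := exists_partner hK hB θ hW hw₁ hne
  let Ψ : 𝕍 →ₗ[F] (K →ₗ[F] F) × (K →ₗ[F] F) := (pairMap B u₀).prod (pairMap B v₀)
  have hsurj : ∀ z, ∃ y ∈ W, Ψ y = z ∧ ∀ x, (∀ a : K, B ((a : Matrix ι ι F) *ᵥ u₀) x = 0) →
      (∀ a : K, B ((a : Matrix ι ι F) *ᵥ v₀) x = 0) → B x y = 0 := fun z => by
    obtain ⟨c, e, h1, h2⟩ := pair_surjective hK hB θ hθ huv z
    refine ⟨(c : Matrix ι ι F) *ᵥ u₀ + (e : Matrix ι ι F) *ᵥ v₀,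
      W.add_mem (hW _ c.2 _ hu₀) (hW _ e.2 _ hv₀), Prod.ext h1 h2, fun x hx1 hx2 => ?_⟩
    rw [map_add, hB.swap _ x, hB.swap _ x, hx1, hx2, neg_zero, add_zero]
  have hsurjW : LinearMap.range (Ψ.comp W.subtype) = ⊤ := LinearMap.range_eq_top.2 fun z =>
    let ⟨y, hy, hyz, _⟩ := hsurj z; ⟨⟨y, hy⟩, hyz⟩
  let W' : Submodule F 𝕍 := LinearMap.ker Ψ ⊓ W
  have hmem : ∀ x, x ∈ W' ↔ (∀ a : K, B ((a : Matrix ι ι F) *ᵥ u₀) x = 0) ∧
      (∀ a : K, B ((a : Matrix ι ι F) *ᵥ v₀) x = 0) ∧ x ∈ W := fun x => by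
    simp only [W', Ψ, Submodule.mem_inf, LinearMap.mem_ker, LinearMap.prod_apply, Function.prod_apply,
      Prod.mk_eq_zero, LinearMap.ext_iff, pairMap_apply, LinearMap.zero_apply, and_assoc]
  have hdim : finrank F W = 2 * k + finrank F W' := by
    have h := LinearMap.finrank_range_add_finrank_ker (Ψ.comp W.subtype)
    have hr : finrank F (LinearMap.range (Ψ.comp W.subtype)) = 2 * k := by
      rw [hsurjW, finrank_top, Module.finrank_prod, Subspace.dual_finrank_eq (K := F) (V := K), hK.finrank_eq]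
      ring
    have hk' : finrank F (LinearMap.ker (Ψ.comp W.subtype)) = finrank F W' := by
      rw [LinearMap.ker_comp, LinearEquiv.finrank_eq (Submodule.equivMapOfInjective W.subtype W.injective_subtype
        (Submodule.comap W.subtype (LinearMap.ker Ψ))), Submodule.map_comap_subtype, inf_comm]
    omega
  have hW' : KInv K W' := by
    intro c hc x hx
    obtain ⟨h1, h2, h3⟩ := (hmem x).1 hx
    refine (hmem _).2 ⟨fun a => ?_, fun a => ?_, hW c hc x h3⟩
    · exact (mulVec_pair hB a ⟨c, hc⟩ u₀ x).trans (h1 _)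
    · exact (mulVec_pair hB a ⟨c, hc⟩ v₀ x).trans (h2 _)
  have hN' : ∀ x ∈ W', (∀ y ∈ W', B x y = 0) → x = 0 := by
    intro x hx hxy
    obtain ⟨h1, h2, h3⟩ := (hmem x).1 hx
    refine hN x h3 fun y hy => ?_
    obtain ⟨p, hp, hpy, hperp⟩ := hsurj (Ψ y)
    have h' : y - p ∈ W' := Submodule.mem_inf.2
      ⟨by rw [LinearMap.mem_ker, map_sub, hpy, sub_self], W.sub_mem hy hp⟩
    have := hxy _ h'
    rwa [map_sub, hperp x h1 h2, sub_zero] at this
  obtain ⟨l, u, v, hl, huvW, hf⟩ := ih (finrank F W') (by omega) W' rfl hW' hN'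
  have hperp : ∀ (a : K) (x : 𝕍), x ∈ W' → B ((a : Matrix ι ι F) *ᵥ x) u₀ = 0 ∧
      B ((a : Matrix ι ι F) *ᵥ x) v₀ = 0 := fun a x hx => by
    obtain ⟨h1, h2, -⟩ := (hmem x).1 hx
    exact ⟨by rw [hB.swapK a.2, h1, neg_zero], by rw [hB.swapK a.2, h2, neg_zero]⟩
  refine ⟨l + 1, Fin.cons u₀ u, Fin.cons v₀ v, by rw [← hn, hdim, hl]; ring, fun i => ?_, ?_, ?_, ?_⟩
  · induction i using Fin.cases with
    | zero => exact ⟨hu₀, hv₀⟩
    | succ i => exact ⟨(Submodule.mem_inf.1 (huvW i).1).2, (Submodule.mem_inf.1 (huvW i).2).2⟩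
  · intro a i j
    induction i using Fin.cases <;> induction j using Fin.cases <;> simp only [Fin.cons_zero, Fin.cons_succ]
    exacts [hB.kalt _ a.2 _, ((hmem _).1 (huvW _).1).1 a, (hperp a _ (huvW _).1).1, hf.uu a _ _]
  · intro a i j
    induction i using Fin.cases <;> induction j using Fin.cases <;> simp only [Fin.cons_zero, Fin.cons_succ]
    exacts [hB.kalt _ a.2 _, ((hmem _).1 (huvW _).2).2.1 a, (hperp a _ (huvW _).2).2, hf.vv a _ _]
  · intro a i j
    induction i using Fin.cases <;> induction j using Fin.cases <;>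
      simp only [Fin.cons_zero, Fin.cons_succ, Fin.succ_ne_zero, (Fin.succ_ne_zero _).symm, if_true, if_false,
        Fin.succ_inj]
    exacts [huv a, ((hmem _).1 (huvW _).2).1 a, (hperp a _ (huvW _).1).2, hf.uv a _ _]

/-- The dimension of a non-degenerate `K`-invariant subspace is a multiple of `2 k`. -/
theorem two_mul_dvd (hK : Geo.IsFieldSubalgebra k K) (hk : 0 < k) (hB : SelfAlt B K) {W : Submodule F 𝕍}
    (hW : KInv K W) (hN : ∀ x ∈ W, (∀ y ∈ W, B x y = 0) → x = 0) : 2 * k ∣ finrank F W := by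
  haveI : Nontrivial K := Module.nontrivial_of_finrank_pos (R := F) (by rw [hK.finrank_eq]; exact hk)
  obtain ⟨θ, hθ⟩ := exists_ne (0 : K →ₗ[F] F)
  obtain ⟨l, u, v, hl, -⟩ := exists_kframe hK hk hB θ hθ W hW hN
  exact ⟨l, hl⟩

end Cfsg.Agent.Elusive.ExtField
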