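import Cfsg.Agent.Lib.Elusive.ExtField.SympSelf
import Cfsg.Agent.Lib.Elusive.Involution
import Cfsg.Agent.Lib.Forms.Herm

/-!
A quadratic subfield of anti-self-adjoint type for `sympForm`: adapted frames and the unitary group in the normaliser.
-/

set_option autoImplicit false
set_option linter.unusedSectionVars false
set_option linter.style.haveILetI false

open scoped Matrix MatrixGroups

namespace Cfsg.Agent.Elusive.ExtField

open Module (finrank)
open Forms.SympInvolution (IsFrame proj)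

section Frame

variable {F V : Type*} [Field F] [Fintype F] [AddCommGroup V] [Module F V] [FiniteDimensional F V]
  {B : LinearMap.BilinForm F V} {m : ℕ} (hV : finrank F V = 2 * m) (hA : B.IsAlt) (hN : B.Nondegenerate)
  (h2 : (2 : F) ≠ 0) (f : V →ₗ[F] V) {δ : F} (hδ : δ ≠ 0) (hanti : ∀ a b, B (f a) b = -B a (f b))
  (hff : ∀ a, f (f a) = δ • a)

include hV hA hN h2 hδ hanti hff in
/-- An anti-self-adjoint map with square `δ ≠ 0` has a frame `u, f u`. -/
theorem exists_frame_anti : ∀ k, k ≤ m →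
    ∃ (u v : Fin k → V), IsFrame B u v ∧ ∀ i, f (u i) = v i ∧ f (v i) = δ • u i := by
  intro k
  induction k with
  | zero =>
    exact fun _ => ⟨Fin.elim0, Fin.elim0, ⟨fun i => i.elim0, fun i => i.elim0, fun i => i.elim0⟩,
      fun i => i.elim0⟩
  | succ k ih =>
    intro hk
    obtain ⟨u, v, hf, hs⟩ := ih (Nat.le_of_succ_le hk)
    obtain ⟨w, hw⟩ := IsFrame.exists_proj_ne_zero (B := B) hV hk u v
    have hu : ∀ (i : Fin k) (a : V), B (f a) (u i) = -B a (v i) := by
      intro i a; rw [hanti, (hs i).1]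
    have hv : ∀ (i : Fin k) (a : V), B (f a) (v i) = -δ * B a (u i) := by
      intro i a; rw [hanti, (hs i).2, map_smul, smul_eq_mul, neg_mul]
    have hcomm : ∀ a, f (proj B u v a) = proj B u v (f a) := by
      intro a
      simp only [proj, map_add, map_sub, map_sum, map_smul, hu, hv, fun i => (hs i).1,
        fun i => (hs i).2, smul_smul, neg_smul, neg_mul, Finset.sum_neg_distrib, mul_comm δ]
      abel
    have hsymm : ∀ a b, B b (f a) = B a (f b) := fun a b => by
      rw [Forms.SympInvolution.alt_swap hA (f a) b, hanti, neg_neg]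
    have hpx : ∀ a, (∀ i, B a (u i) = 0 ∧ B a (v i) = 0) →
        ∀ i, B (f a) (u i) = 0 ∧ B (f a) (v i) = 0 := fun a ha i =>
      ⟨by rw [hu, (ha i).2, neg_zero], by rw [hv, (ha i).1, mul_zero]⟩
    obtain ⟨e, he, hperp⟩ : ∃ e, B e (f e) ≠ 0 ∧ ∀ i, B e (u i) = 0 ∧ B e (v i) = 0 := by
      set p := proj B u v w with hp
      obtain ⟨z, hz⟩ : ∃ z, B p z ≠ 0 := by
        by_contra h0; push Not at h0; exact hw (hN.1 p h0)
      have hp1 : ∀ i, B p (u i) = 0 ∧ B p (v i) = 0 := hf.proj_perp hA w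
      set r := proj B u v (δ⁻¹ • f z) with hr
      have hpr : B p (f r) ≠ 0 := by
        have h3 : ∀ a, B p (proj B u v a) = B p a := fun a => by
          simp [proj, fun i => (hp1 i).1, fun i => (hp1 i).2]
        rw [hr, hcomm, h3, map_smul, hff, smul_smul, inv_mul_cancel₀ hδ, one_smul]
        exact hz
      by_cases h1 : B p (f p) = 0
      · by_cases h3 : B r (f r) = 0
        · refine ⟨p + r, ?_, fun i => ?_⟩
          · simp only [map_add, LinearMap.map_add₂, LinearMap.add_apply, h1, h3, hsymm p r, zero_add, add_zero]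
            intro hh
            exact mul_ne_zero h2 hpr (by linear_combination hh)
          · simp [LinearMap.map_add₂, hp, hr, hf.proj_perp hA]
        · exact ⟨r, h3, fun i => hf.proj_perp hA _ i⟩
      · exact ⟨p, h1, fun i => hf.proj_perp hA _ i⟩
    set d := B e (f e) with hd
    obtain ⟨α, β, hαβ⟩ := exists_norm_value δ d⁻¹ hδ
    set e' := α • e + β • f e with he'
    have hperp' : ∀ i, B e' (u i) = 0 ∧ B e' (v i) = 0 := fun i => by
      simp [he', LinearMap.map_add₂, hperp i, hpx e hperp i]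
    have hval : B e' (f e') = 1 := by
      have h5 : B (f e) e = -d := Forms.SympInvolution.alt_swap hA e (f e)
      simp only [he', map_add, map_smul, hff, LinearMap.map_add₂, LinearMap.add_apply, LinearMap.smul_apply,
        hA.self_eq_zero, ← hd, h5, smul_eq_mul]
      have : d * (α * α - β * (β * δ)) = 1 := by rw [hαβ, mul_inv_cancel₀ he]
      linear_combination this
    refine ⟨Fin.cons e' u, Fin.cons (f e') v, hf.cons hA hval hperp' (hpx e' hperp'), fun i => ?_⟩
    induction i using Fin.cases with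
    | zero => simp [hff]
    | succ i => simpa using hs i

end Frame

variable {F : Type*} [Field F] [Fintype F] {d : ℕ}
  {K : Subalgebra F (Matrix (Fin d ⊕ Fin d) (Fin d ⊕ Fin d) F)}

local notation "𝕍" => Fin d ⊕ Fin d → F
local notation "𝕄" => Matrix (Fin d ⊕ Fin d) (Fin d ⊕ Fin d) F

/-- Generators of `K`: `ε² = δ` a non-square, `ε` anti-self-adjoint. -/
structure AntiGen (K : Subalgebra F 𝕄) (ε : 𝕄) (δ : F) : Prop where
  mem : ε ∈ K
  sq : ε * ε = δ • (1 : 𝕄)
  nonsq : ∀ w : F, w * w ≠ δ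
  anti : ∀ a b : 𝕍, Forms.sympB d F (ε *ᵥ a) b = -Forms.sympB d F a (ε *ᵥ b)
  span : ∀ a ∈ K, ∃ s t : F, a = s • (1 : 𝕄) + t • ε

theorem AntiGen.delta_ne {ε : 𝕄} {δ : F} (h : AntiGen K ε δ) : δ ≠ 0 :=
  fun h0 => h.nonsq 0 (by rw [h0, mul_zero])

theorem AntiGen.pow_half {ε : 𝕄} {δ : F} (h : AntiGen K ε δ) (h2 : (2 : F) ≠ 0) :
    δ ^ (Fintype.card F / 2) = -1 := by
  have hchar : ringChar F ≠ 2 := fun hc => h2 (by
    have := ringChar.Nat.cast_ringChar (R := F); rw [hc] at this; exact_mod_cast this)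
  exact ((FiniteField.pow_dichotomy hchar h.delta_ne).resolve_left fun h1 => by
    obtain ⟨w, hw⟩ := (FiniteField.isSquare_iff hchar h.delta_ne).2 h1
    exact h.nonsq w hw.symm)

theorem AntiGen.eps_pow {ε : 𝕄} {δ : F} (h : AntiGen K ε δ) (h2 : (2 : F) ≠ 0) :
    ε ^ Fintype.card F = -ε := by
  have hodd : Fintype.card F % 2 = 1 := FiniteField.odd_card_of_char_ne_two fun hc => h2 (by
    have := ringChar.Nat.cast_ringChar (R := F); rw [hc] at this; exact_mod_cast this)
  conv_lhs => rw [show Fintype.card F = 2 * (Fintype.card F / 2) + 1 by omega]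
  rw [pow_succ, pow_mul, pow_two, h.sq, smul_pow, one_pow, h.pow_half h2, neg_one_smul, neg_mul, one_mul]

theorem exists_antiGen (hd : 1 ≤ d) (h2 : (2 : F) ≠ 0) (hK : Geo.IsFieldSubalgebra 2 K)
    (hKf : Geo.IsAdjointClosedFor (sympForm d F) K) (hKns : ¬ Geo.IsSelfAdjointFor (sympForm d F) K) :
    ∃ ε δ, AntiGen K ε δ := by
  classical
  haveI : Nonempty (Fin d ⊕ Fin d) := ⟨Sum.inl ⟨0, hd⟩⟩
  simp only [Geo.IsSelfAdjointFor, not_forall] at hKns
  obtain ⟨a, ha, u₀, v₀, hne⟩ := hKns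
  obtain ⟨a', ha', had⟩ := hKf a ha
  have had' : ∀ u v, Forms.sympB d F (a *ᵥ u) v = Forms.sympB d F u (a' *ᵥ v) := fun u v => by
    rw [Forms.sympB_apply, Forms.sympB_apply]; exact had u v
  have had'' : ∀ u v, Forms.sympB d F (a' *ᵥ u) v = Forms.sympB d F u (a *ᵥ v) := fun u v => by
    have hA := Forms.sympB_isAlt (F := F) d
    rw [Forms.SympInvolution.alt_swap hA v (a' *ᵥ u), ← had',
      Forms.SympInvolution.alt_swap hA u (a *ᵥ v), neg_neg]
  set ε := a - a' with hε
  have hanti : ∀ u v, Forms.sympB d F (ε *ᵥ u) v = -Forms.sympB d F u (ε *ᵥ v) := fun u v => by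
    simp only [hε, Matrix.sub_mulVec, map_sub, LinearMap.sub_apply, had', had'']
    ring
  have hεK : ε ∈ K := K.sub_mem ha ha'
  have hε0 : ε ≠ 0 := fun h => hne (by
    rw [← Forms.sympB_apply, ← Forms.sympB_apply, had', sub_eq_zero.1 h])
  have hscal : ∀ s : F, ε ≠ s • (1 : 𝕄) := fun s hs => by
    by_cases hs0 : s = 0
    · exact hε0 (by rw [hs, hs0, zero_smul])
    have h := hanti
    simp only [hs, Matrix.smul_mulVec, Matrix.one_mulVec, map_smul, LinearMap.smul_apply, smul_eq_mul] at h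
    obtain ⟨u, hu⟩ : ∃ u : 𝕍, u ≠ 0 := exists_ne 0
    refine hu ((Forms.sympB_nondegenerate d).1 u fun v => ?_)
    have := h u v
    exact (mul_eq_zero.1 (by linear_combination this : (2 * s) * Forms.sympB d F u v = 0)).resolve_left
      (mul_ne_zero h2 hs0)
  let L : (F × F) →ₗ[F] K := (LinearMap.toSpanSingleton F K 1).coprod (LinearMap.toSpanSingleton F K ⟨ε, hεK⟩)
  have hL : ∀ s t : F, (L (s, t) : 𝕄) = s • (1 : 𝕄) + t • ε := fun s t => by simp [L]
  have hinj : Function.Injective L := by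
    rw [injective_iff_map_eq_zero]
    rintro ⟨s, t⟩ hst
    have h0 : s • (1 : 𝕄) + t • ε = 0 := by rw [← hL, hst]; rfl
    by_cases ht : t = 0
    · rw [ht, zero_smul, add_zero, smul_eq_zero] at h0
      exact Prod.ext (h0.resolve_right one_ne_zero) ht
    · refine absurd ?_ (hscal (-(s / t)))
      have h1 : t • ε = -(s • (1 : 𝕄)) := eq_neg_of_add_eq_zero_right h0
      calc ε = t⁻¹ • (t • ε) := by rw [smul_smul, inv_mul_cancel₀ ht, one_smul]
        _ = _ := by rw [h1, smul_neg, smul_smul, neg_smul, inv_mul_eq_div]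
  have hsurj : Function.Surjective L := (LinearMap.injective_iff_surjective_of_finrank_eq_finrank (by
    rw [Module.finrank_prod, Module.finrank_self, hK.finrank_eq])).1 hinj
  have hspan : ∀ b ∈ K, ∃ s t : F, b = s • (1 : 𝕄) + t • ε := fun b hb => by
    obtain ⟨⟨s, t⟩, hst⟩ := hsurj ⟨b, hb⟩
    exact ⟨s, t, by rw [← hL, hst]⟩
  obtain ⟨s, t, hst⟩ := hspan _ (K.mul_mem hεK hεK)
  have ht : t = 0 := by
    -- `ε²` is self-adjoint
    have h : ∀ u v, Forms.sympB d F ((ε * ε) *ᵥ u) v = Forms.sympB d F u ((ε * ε) *ᵥ v) := fun u v => by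
      rw [← Matrix.mulVec_mulVec, ← Matrix.mulVec_mulVec, hanti, hanti, neg_neg]
    simp only [hst, Matrix.add_mulVec, Matrix.smul_mulVec, Matrix.one_mulVec, map_add, map_smul,
      LinearMap.add_apply, LinearMap.smul_apply, hanti, smul_eq_mul, smul_neg] at h
    by_contra ht
    refine hε0 (Matrix.toLin'.injective (LinearMap.ext fun v => ?_))
    rw [map_zero, LinearMap.zero_apply, Matrix.toLin'_apply]
    refine (Forms.sympB_nondegenerate d).2 _ fun u => ?_
    have := h u v
    exact (mul_eq_zero.1 (by linear_combination -this : (2 * t) * Forms.sympB d F u (ε *ᵥ v) = 0)).resolve_left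
      (mul_ne_zero h2 ht)
  rw [ht, zero_smul, add_zero] at hst
  refine ⟨ε, s, hεK, hst, fun w hw => ?_, hanti, hspan⟩
  letI : Field K := (isField hK two_pos).toField
  set e : K := ⟨ε, hεK⟩
  have hfac : (e - w • (1 : K)) * (e + w • (1 : K)) = 0 := by
    refine Subtype.ext ?_
    show (ε - w • (1 : 𝕄)) * (ε + w • (1 : 𝕄)) = 0
    simp only [sub_mul, mul_add, hst, ← hw, Algebra.mul_smul_comm, Algebra.smul_mul_assoc, mul_one, one_mul,
      smul_add, smul_sub, smul_smul]
    abel
  rcases mul_eq_zero.1 hfac with h | h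
  · refine hscal w ?_
    rw [sub_eq_zero] at h
    exact congrArg Subtype.val h
  · refine hscal (-w) ?_
    rw [add_eq_zero_iff_eq_neg] at h
    rw [neg_smul]
    exact congrArg Subtype.val h

/-- A frame `u, ε u`. -/
theorem AntiGen.exists_frame {ε : 𝕄} {δ : F} (h : AntiGen K ε δ) (h2 : (2 : F) ≠ 0) :
    ∃ u v : Fin d → 𝕍, IsFrame (Forms.sympB d F) u v ∧ ∀ i, ε *ᵥ u i = v i ∧ ε *ᵥ v i = δ • u i := by
  obtain ⟨u, v, hf, hs⟩ := exists_frame_anti (m := d) (by simp [two_mul]) (Forms.sympB_isAlt d)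
    (Forms.sympB_nondegenerate d) h2 (Matrix.toLin' ε) h.delta_ne
    (fun a b => by simpa using h.anti a b) (fun a => by
      simp only [Matrix.toLin'_apply, Matrix.mulVec_mulVec, h.sq, Matrix.smul_mulVec, Matrix.one_mulVec])
    d le_rfl
  exact ⟨u, v, hf, fun i => ⟨by simpa using (hs i).1, by simpa using (hs i).2⟩⟩

/-- An element commuting or anticommuting with `ε` normalises `K`. -/
theorem AntiGen.mem_normalizer {ε : 𝕄} {δ : F} (h : AntiGen K ε δ) (g : GL (Fin d ⊕ Fin d) F) (σ : F)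
    (hσ : σ = 1 ∨ σ = -1) (hg : g.1 * ε = σ • (ε * g.1)) : g ∈ Geo.subalgebraNormalizer K := by
  have hconj : g.1 * ε * (g⁻¹ : GL (Fin d ⊕ Fin d) F).1 = σ • ε := by
    rw [hg, Algebra.smul_mul_assoc, mul_assoc, Units.mul_inv, mul_one]
  have hconj' : (g⁻¹ : GL (Fin d ⊕ Fin d) F).1 * ε * g.1 = σ • ε := by
    have hσ2 : σ * σ = 1 := by rcases hσ with rfl | rfl <;> simp
    have e : ε * g.1 = σ • (g.1 * ε) := by rw [hg, smul_smul, hσ2, one_smul]
    rw [mul_assoc, e, Algebra.mul_smul_comm, ← mul_assoc, Units.inv_mul, one_mul]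
  refine mem_normalizer_of_conj g (fun a ha => ?_) (fun a ha => ?_)
  · obtain ⟨s, t, rfl⟩ := h.span a ha
    simp only [mul_add, add_mul, Algebra.mul_smul_comm, Algebra.smul_mul_assoc, mul_one, hconj, Units.mul_inv]
    exact K.add_mem (K.smul_mem K.one_mem s) (K.smul_mem (K.smul_mem h.mem σ) t)
  · obtain ⟨s, t, rfl⟩ := h.span a ha
    simp only [mul_add, add_mul, Algebra.mul_smul_comm, Algebra.smul_mul_assoc, mul_one, hconj', Units.inv_mul]
    exact K.add_mem (K.smul_mem K.one_mem s) (K.smul_mem (K.smul_mem h.mem σ) t)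

set_option maxHeartbeats 1000000 in
/-- The order of the unitary group divides that of the normaliser. -/
theorem AntiGen.card_dvd {ε : 𝕄} {δ : F} (h : AntiGen K ε δ) (h2 : (2 : F) ≠ 0) (hd : 1 ≤ d)
    (hK : Geo.IsFieldSubalgebra 2 K) :
    Fintype.card F ^ (d * (d - 1) / 2) *
        ∏ i ∈ Finset.range d, (if Even i then Fintype.card F ^ (i + 1) + 1 else Fintype.card F ^ (i + 1) - 1) ∣
      Nat.card ((Geo.subalgebraNormalizer K).subgroupOf (spGL d F)) := by
  classical
  obtain ⟨u, v, hf, hs⟩ := h.exists_frame h2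
  letI : Field K := (isField hK two_pos).toField
  haveI : Finite K := Module.finite_of_finite F
  letI : Fintype K := Fintype.ofFinite K
  set q := Fintype.card F with hq
  have hcardK : Fintype.card K = q ^ 2 := by
    rw [hq, Module.card_eq_pow_finrank (K := F) (V := K), hK.finrank_eq]
  rw [← Forms.card_GU hcardK d]
  set e : K := ⟨ε, h.mem⟩ with he
  have hspan : ∀ a : K, ∃ s t : F, a = s • (1 : K) + t • e := fun a => by
    obtain ⟨s, t, hst⟩ := h.span a a.2
    exact ⟨s, t, Subtype.ext hst⟩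
  have hfrob : ∀ s t : F, ((s • (1 : K) + t • e) ^ q : K) = s • (1 : K) + (-t) • e := fun s t => by
    rw [hq, ← FiniteField.frobeniusAlgHom_apply (K := F) (R := K), map_add, map_smul, map_smul, map_one,
      FiniteField.frobeniusAlgHom_apply]
    have : e ^ Fintype.card F = -e := Subtype.ext (h.eps_pow h2)
    rw [this, smul_neg, neg_smul]
  have hpow : ∀ (a : K) (x y : 𝕍), Forms.sympB d F ((a : 𝕄) *ᵥ x) y =
      Forms.sympB d F x (((a ^ q : K) : 𝕄) *ᵥ y) := fun a x y => by
    obtain ⟨s, t, rfl⟩ := hspan a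
    rw [hfrob]
    show Forms.sympB d F ((s • (1 : 𝕄) + t • ε) *ᵥ x) y = Forms.sympB d F x ((s • (1 : 𝕄) + (-t) • ε) *ᵥ y)
    simp only [Matrix.add_mulVec, Matrix.smul_mulVec, Matrix.one_mulVec, map_add, map_smul, LinearMap.add_apply,
      LinearMap.smul_apply, h.anti, smul_eq_mul, neg_mul, mul_neg]
  let θ : K →ₗ[F] F := ((Forms.sympB d F (u ⟨0, hd⟩)).comp (Aschbacher.evalAt K (u ⟨0, hd⟩)))
  have hθ : ∀ (a : K) (i j : Fin d), Forms.sympB d F (u i) ((a : 𝕄) *ᵥ u j) = if i = j then θ a else 0 := by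
    intro a i j
    obtain ⟨s, t, rfl⟩ := hspan a
    have key : ∀ i j : Fin d, Forms.sympB d F (u i) ((s • (1 : 𝕄) + t • ε) *ᵥ u j) = if i = j then t else 0 := by
      intro i j
      simp [Matrix.add_mulVec, Matrix.smul_mulVec, (hs j).1, hf.uu, hf.uv]
    refine (key i j).trans ?_
    rw [show θ (s • (1 : K) + t • e) = t from (key ⟨0, hd⟩ ⟨0, hd⟩).trans (if_pos rfl)]
  let E₀ : (Fin d → K) →ₗ[F] 𝕍 := ∑ i, (Aschbacher.evalAt K (u i)).comp (LinearMap.proj i)
  have hE₀ : ∀ z, E₀ z = ∑ i, (z i : 𝕄) *ᵥ u i := fun z => by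
    simp only [E₀, LinearMap.sum_apply, LinearMap.comp_apply, LinearMap.proj_apply]; rfl
  have hform : ∀ z z', sympForm d F (E₀ z) (E₀ z') = θ (hermForm d K q z' z) := fun z z' => by
    rw [← Forms.sympB_apply, hE₀, hE₀]
    simp only [map_sum, LinearMap.sum_apply, hpow, Matrix.mulVec_mulVec, ← Subalgebra.coe_mul, hθ]
    simp [hermForm, mul_comm]
  have hθne : ∀ c : K, (∀ a : K, θ (a * c) = 0) → c = 0 := fun c hc => by
    by_contra hc0
    have := hc (e * c⁻¹)
    rw [mul_assoc, inv_mul_cancel₀ hc0, mul_one] at this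
    have h1 : θ e = 1 := by
      show Forms.sympB d F (u _) (ε *ᵥ u _) = 1
      rw [(hs _).1, hf.uv, if_pos rfl]
    rw [h1] at this
    exact one_ne_zero this
  have hinj : Function.Injective E₀ := by
    rw [injective_iff_map_eq_zero]
    intro z hz
    refine funext fun i => hθne _ fun a => ?_
    have h1 := hform (Pi.single i (a ^ q)) z
    rw [hz, ← Forms.sympB_apply, map_zero, hermForm] at h1
    simp only [Pi.single_apply, ite_pow, zero_pow (Fintype.card_ne_zero : Fintype.card F ≠ 0), mul_ite, mul_zero,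
      Finset.sum_ite_eq', Finset.mem_univ, if_true, hq, ← pow_mul,
      show Fintype.card F * Fintype.card F = Fintype.card K by rw [hcardK, hq, pow_two], FiniteField.pow_card] at h1
    rw [mul_comm]; exact h1.symm
  let E := LinearEquiv.ofBijective E₀ ⟨hinj, (LinearMap.injective_iff_surjective_of_finrank_eq_finrank (by
    rw [Module.finrank_pi_fintype, Finset.sum_const, Finset.card_univ, hK.finrank_eq,
      Module.finrank_fintype_fun_eq_card, Fintype.card_sum, Fintype.card_fin, smul_eq_mul]; ring)).1 hinj⟩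
  let φ₀ : GU d K q →* 𝕄 :=
    { toFun := fun A => LinearMap.toMatrix' (E.toLinearMap ∘ₗ
        (Matrix.mulVecLin (A.1 : Matrix (Fin d) (Fin d) K)).restrictScalars F ∘ₗ E.symm.toLinearMap)
      map_one' := by
        rw [← LinearMap.toMatrix'_id]; congr 1; exact LinearMap.ext fun x => by simp
      map_mul' := fun A A' => by
        rw [← LinearMap.toMatrix'_mul]; congr 1
        exact LinearMap.ext fun x => by simp [Matrix.mulVec_mulVec] }
  have hact : ∀ A z, φ₀ A *ᵥ E₀ z = E₀ ((A.1 : Matrix (Fin d) (Fin d) K) *ᵥ z) := fun A z => by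
    show LinearMap.toMatrix' _ *ᵥ E z = E _
    rw [LinearMap.toMatrix'_mulVec]; simp
  let φ : GU d K q →* GL (Fin d ⊕ Fin d) F := φ₀.toHomUnits
  have hφ1 : ∀ A, φ A ∈ spGL d F := fun A x y => by
    show sympForm d F (φ₀ A *ᵥ x) (φ₀ A *ᵥ y) = sympForm d F x y
    obtain ⟨z, rfl⟩ := E.surjective x
    obtain ⟨z', rfl⟩ := E.surjective y
    show sympForm d F (φ₀ A *ᵥ E₀ z) (φ₀ A *ᵥ E₀ z') = sympForm d F (E₀ z) (E₀ z')
    rw [hact, hact, hform, hform]
    exact congrArg θ (A.2 z' z)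
  have hφ2 : ∀ A, φ A ∈ Geo.subalgebraNormalizer K := fun A => by
    refine h.mem_normalizer (φ A) 1 (Or.inl rfl) ?_
    rw [one_smul]
    refine Matrix.toLin'.injective (LinearMap.ext fun x => ?_)
    obtain ⟨z, rfl⟩ := E.surjective x
    simp only [Matrix.toLin'_apply, ← Matrix.mulVec_mulVec]
    show φ₀ A *ᵥ (ε *ᵥ E₀ z) = ε *ᵥ (φ₀ A *ᵥ E₀ z)
    have hc : ∀ z, ε *ᵥ E₀ z = E₀ (e • z) := fun z => by
      simp only [hE₀, Matrix.mulVec_sum, Matrix.mulVec_mulVec, Pi.smul_apply, smul_eq_mul, Subalgebra.coe_mul]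
      rfl
    rw [hact, hc, hc, hact, Matrix.mulVec_smul]
  let ψ : GU d K q →* (Geo.subalgebraNormalizer K).subgroupOf (spGL d F) :=
    (φ.codRestrict _ hφ1).codRestrict _ hφ2
  refine Subgroup.card_dvd_of_injective ψ fun A A' hAA => Subtype.ext (Units.ext ?_)
  have h' : φ₀ A = φ₀ A' := congrArg (fun g => g.1.1.1) hAA
  refine Matrix.toLin'.injective (LinearMap.ext fun z => ?_)
  have := congrArg (fun M => M *ᵥ E₀ z) h'
  simp only [hact] at this
  simp only [Matrix.toLin'_apply]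
  exact hinj this

end Cfsg.Agent.Elusive.ExtField
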