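import Cfsg.Agent.Lib.Elusive.ExtField.HermFrame

/-!
Elements of prime order and the normaliser of a quadratic field of anti-self-adjoint type.
-/

set_option autoImplicit false
set_option linter.unusedSectionVars false
set_option linter.style.haveILetI false

open scoped Matrix MatrixGroups

namespace Cfsg.Agent.Elusive.ExtField

open Module (finrank)
open Polynomial (aeval X C expand)
open Forms.SympInvolution (IsFrame)

variable {F : Type*} [Field F] [Fintype F] {d : ℕ}
  {K : Subalgebra F (Matrix (Fin d ⊕ Fin d) (Fin d ⊕ Fin d) F)}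

local notation "𝕍" => Fin d ⊕ Fin d → F
local notation "𝕄" => Matrix (Fin d ⊕ Fin d) (Fin d ⊕ Fin d) F

/-- An isometry of odd order of a non-degenerate bilinear form in odd dimension fixes a vector. -/
theorem exists_fixed_of_form {V : Type*} [AddCommGroup V] [Module F V] [FiniteDimensional F V]
    (h2 : (2 : F) ≠ 0) (M : LinearMap.BilinForm F V) (hM : M.Nondegenerate) (hodd : Odd (finrank F V))
    (g : Module.End F V) (hg : ∀ a b, M (g a) (g b) = M a b) {r : ℕ} (hr : Odd r) (hgr : g ^ r = 1) :
    ∃ u, u ≠ 0 ∧ g u = u := by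
  classical
  set b := Module.finBasis F V
  set G := LinearMap.BilinForm.toMatrix b M with hG
  set A := LinearMap.toMatrix b b g with hA
  have hGA : Aᵀ * G * A = G := by
    rw [hA, hG, ← LinearMap.BilinForm.toMatrix_comp b b M g g]
    congr 1
    exact LinearMap.ext₂ hg
  have hGdet : G.det ≠ 0 := (LinearMap.BilinForm.nondegenerate_iff_det_ne_zero b).1 hM
  have hAr : A.det ^ r = 1 := by
    rw [hA, LinearMap.det_toMatrix, ← map_pow, hgr, map_one]
  have hD : (A - 1).det = 0 := by
    by_contra hD
    have e : Aᵀ * G * (A - 1) = -((A - 1)ᵀ * G) := by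
      rw [Matrix.mul_sub, mul_one, hGA, Matrix.transpose_sub, Matrix.transpose_one, Matrix.sub_mul, one_mul,
        neg_sub]
    have h := congrArg Matrix.det e
    rw [Matrix.det_mul, Matrix.det_mul, Matrix.det_neg, Matrix.det_mul, Matrix.det_transpose, Matrix.det_transpose,
      Fintype.card_fin, hodd.neg_one_pow] at h
    have h1 : A.det = -1 := mul_right_cancel₀ (mul_ne_zero hGdet hD) (by linear_combination h)
    rw [h1, hr.neg_one_pow] at hAr
    exact h2 (by linear_combination -hAr)
  obtain ⟨w, hw, hw0⟩ := Matrix.exists_mulVec_eq_zero_iff.2 hD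
  refine ⟨b.equivFun.symm w, fun h => hw (by have := congrArg b.equivFun h; rwa [LinearEquiv.apply_symm_apply, map_zero] at this), b.equivFun.injective ?_⟩
  rw [LinearEquiv.apply_symm_apply]
  rw [Matrix.sub_mulVec, Matrix.one_mulVec, sub_eq_zero] at hw0
  refine Eq.trans ?_ hw0
  have := LinearMap.toMatrix_mulVec_repr b b g (b.equivFun.symm w)
  rw [show ⇑(b.repr (b.equivFun.symm w)) = w from b.equivFun.apply_symm_apply w] at this
  exact this.symm

/-- Frobenius powers of a polynomial in a matrix. -/
theorem aeval_pow_card (P : Polynomial F) (x : 𝕄) :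
    ∀ n, aeval (x ^ Fintype.card F ^ n) P = aeval x P ^ Fintype.card F ^ n := by
  intro n
  induction n with
  | zero => simp
  | succ n ih =>
    rw [pow_succ, pow_mul, pow_mul, ← Polynomial.expand_aeval, FiniteField.expand_card, map_pow, ih]

variable {ε : Matrix (Fin d ⊕ Fin d) (Fin d ⊕ Fin d) F} {δ : F}

theorem AntiGen.eps_pow_iter (h : AntiGen K ε δ) (h2 : (2 : F) ≠ 0) :
    ∀ n, ε ^ Fintype.card F ^ n = (-1 : F) ^ n • ε := by
  intro n
  induction n with
  | zero => simp
  | succ n ih =>
    rw [pow_succ, pow_mul, ih, smul_pow, h.eps_pow h2, smul_neg, ← neg_smul, ← pow_mul, mul_comm n, pow_mul,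
      FiniteField.pow_card, pow_succ, mul_neg_one]

set_option maxHeartbeats 800000 in
/-- No element commuting with `ε` has the least moved dimension unless `i ≡ 2 (mod 4)`. -/
theorem AntiGen.no_commute (h : AntiGen K ε δ) (h2 : (2 : F) ≠ 0) (p : ℕ) [Fact p.Prime] [CharP F p] {r : ℕ}
    [hr : Fact r.Prime] (hne : r ≠ p) (hr2 : r ≠ 2) (hbad : ¬ orderOf (Fintype.card F : ZMod r) % 4 = 2)
    {y : GL (Fin d ⊕ Fin d) F} (hy : y ∈ spGL d F) (hyr : y ^ r = 1)
    (hc : (y.1 - 1).rank = if Even (orderOf (Fintype.card F : ZMod r)) then orderOf (Fintype.card F : ZMod r)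
      else 2 * orderOf (Fintype.card F : ZMod r))
    (hcomm : y.1 * ε = ε * y.1) : False := by
  classical
  set q := Fintype.card F with hq
  set i := orderOf (q : ZMod r) with hi
  have hi0 : 0 < i := order_pos p hne
  have hr0 : (r : F) ≠ 0 := cast_ne_zero_of_ne p hr.out hne
  have hrodd : Odd r := hr.out.odd_of_ne_two hr2
  have hxr : y.1 ^ r = 1 := by rw [← Units.val_pow_eq_pow_val, hyr, Units.val_one]
  set W := moved y.1 with hW
  have hWd : finrank F W = if Even i then i else 2 * i := hc
  set f : Module.End F 𝕍 := Matrix.toLin' y.1 with hfdef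
  have hWinv : Elusive.Inv f W := moved_inv _
  have hεW : ∀ w ∈ W, ε *ᵥ w ∈ W := by
    rintro _ ⟨w, rfl⟩
    refine ⟨ε *ᵥ w, ?_⟩
    simp only [Matrix.toLin'_apply, Matrix.mulVec_mulVec, Matrix.sub_mul, Matrix.mul_sub, one_mul, mul_one, hcomm]
  have hB : ∀ a b, Forms.sympB d F (y.1 *ᵥ a) (y.1 *ᵥ b) = Forms.sympB d F a b := fun a b => by
    rw [Forms.sympB_apply, Forms.sympB_apply]; exact hy a b
  have hnd := moved_nondeg hr0 (Forms.sympB d F) (Forms.sympB_nondegenerate d).1 hxr hB
  have hε0 : ∀ b, ε *ᵥ b = 0 → b = 0 := fun b hb => by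
    have : δ • b = 0 := by rw [← Matrix.one_mulVec b, ← Matrix.smul_mulVec, ← h.sq, ← Matrix.mulVec_mulVec, hb, Matrix.mulVec_zero]
    exact (smul_eq_zero.1 this).resolve_left h.delta_ne
  have hWne : W ≠ ⊥ := fun e => by
    rw [e, finrank_bot] at hWd; split at hWd <;> omega
  have hdvd : ∀ S : Submodule F 𝕍, Elusive.Inv f S → S ≤ W → i ∣ finrank F S :=
    fun S hS hle => dvd_of_le_moved hr0 hxr hS hle
  by_cases hev : Even i
  · -- `ε` is a polynomial in `y` on `W`, hence self-adjoint there
    rw [if_pos hev] at hWd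
    obtain ⟨n, hn⟩ := hev
    have hneven : Even n := by rw [Nat.even_iff]; omega
    obtain ⟨v, hvW, hv0⟩ := Submodule.exists_mem_ne_zero_of_ne_bot hWne
    let φ : Polynomial F →ₗ[F] 𝕍 :=
      { toFun := fun P => aeval y.1 P *ᵥ v
        map_add' := fun a b => by rw [map_add, Matrix.add_mulVec]
        map_smul' := fun c a => by rw [map_smul, Matrix.smul_mulVec, RingHom.id_apply] }
    have hSinv : Elusive.Inv f (LinearMap.range φ) := by
      rintro _ ⟨P, rfl⟩
      refine ⟨X * P, ?_⟩
      show aeval y.1 (X * P) *ᵥ v = Matrix.toLin' y.1 (aeval y.1 P *ᵥ v)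
      rw [map_mul, Polynomial.aeval_X, Matrix.toLin'_apply, Matrix.mulVec_mulVec]
    have hpolyW : ∀ (P : Polynomial F), ∀ w ∈ W, aeval y.1 P *ᵥ w ∈ W := by
      intro P w hw
      have := hWinv.aeval_mem P w hw
      rwa [hfdef, show aeval (Matrix.toLin' y.1 : Module.End F 𝕍) P = Matrix.toLin' (aeval y.1 P) from
        (Polynomial.aeval_algHom_apply (Matrix.toLinAlgEquiv' : 𝕄 ≃ₐ[F] Module.End F 𝕍).toAlgHom y.1 P),
        Matrix.toLin'_apply] at this
    have hSW : LinearMap.range φ = W := by
      refine Submodule.eq_of_le_of_finrank_le ?_ ?_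
      · rintro _ ⟨P, rfl⟩; exact hpolyW P v hvW
      · have hpos : 0 < finrank F (LinearMap.range φ) := Nat.pos_of_ne_zero fun h0 => hv0 (by
          have hmem : φ 1 ∈ LinearMap.range φ := ⟨1, rfl⟩
          rw [Submodule.finrank_eq_zero.1 h0, Submodule.mem_bot] at hmem
          simpa [φ] using hmem)
        rw [hWd]
        exact Nat.le_of_dvd hpos (hdvd _ hSinv (by rintro _ ⟨P, rfl⟩; exact hpolyW P v hvW))
    obtain ⟨P, hP⟩ : ε *ᵥ v ∈ LinearMap.range φ := hSW ▸ hεW v hvW
    replace hP : aeval y.1 P *ᵥ v = ε *ᵥ v := hP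
    have hεP : ∀ w ∈ W, ε *ᵥ w = aeval y.1 P *ᵥ w := fun w hw => by
      obtain ⟨Q, rfl⟩ : w ∈ LinearMap.range φ := hSW.symm ▸ hw
      show ε *ᵥ (aeval y.1 Q *ᵥ v) = aeval y.1 P *ᵥ (aeval y.1 Q *ᵥ v)
      have hc1 : ε * aeval y.1 Q = aeval y.1 Q * ε :=
        (Algebra.commute_of_mem_adjoin_singleton_of_commute (Polynomial.aeval_mem_adjoin_singleton F y.1)
          (show Commute ε y.1 from hcomm.symm)).eq
      rw [Matrix.mulVec_mulVec, hc1, ← Matrix.mulVec_mulVec, ← hP, Matrix.mulVec_mulVec, Matrix.mulVec_mulVec,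
        ← map_mul, ← map_mul, mul_comm]
    -- the adjoint of a polynomial in `y`
    set z := y.1 ^ q ^ n with hz
    have hrn : r ∣ q ^ n + 1 := by
      have h1 : ((q : ZMod r) ^ n) * ((q : ZMod r) ^ n) = 1 := by rw [← pow_add, ← hn, hi, pow_orderOf_eq_one]
      rcases mul_self_eq_one_iff.1 h1 with h1 | h1
      · exact absurd (Nat.le_of_dvd (by omega) (orderOf_dvd_of_pow_eq_one h1)) (by omega)
      · rw [← ZMod.natCast_eq_zero_iff, Nat.cast_add, Nat.cast_pow, h1, Nat.cast_one, neg_add_cancel]
    have hyz : y.1 * z = 1 := by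
      obtain ⟨t, ht⟩ := hrn
      rw [hz, ← pow_succ', ht, pow_mul, hxr, one_pow]
    have hzadj : ∀ a b, Forms.sympB d F (y.1 *ᵥ a) b = Forms.sympB d F a (z *ᵥ b) := fun a b => by
      conv_lhs => arg 2; rw [← Matrix.one_mulVec b, ← hyz, ← Matrix.mulVec_mulVec]
      rw [hB]
    have hPadj : ∀ (P : Polynomial F) a b,
        Forms.sympB d F (aeval y.1 P *ᵥ a) b = Forms.sympB d F a (aeval z P *ᵥ b) := by
      intro P
      induction P using Polynomial.induction_on' with
      | add P Q ihP ihQ => intro a b; simp only [map_add, Matrix.add_mulVec, LinearMap.add_apply, ihP, ihQ]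
      | monomial m c =>
        intro a b
        rw [Polynomial.aeval_monomial, Polynomial.aeval_monomial, Algebra.algebraMap_eq_smul_one, smul_mul_assoc,
          smul_mul_assoc, one_mul, one_mul, Matrix.smul_mulVec, Matrix.smul_mulVec, map_smul, LinearMap.smul_apply,
          map_smul]
        congr 1
        induction m generalizing b with
        | zero => simp
        | succ m ih =>
          rw [pow_succ', pow_succ, ← Matrix.mulVec_mulVec, hzadj, ih, Matrix.mulVec_mulVec]
    have hpowW : ∀ (m : ℕ), ∀ w ∈ W, aeval y.1 P ^ m *ᵥ w = ε ^ m *ᵥ w ∧ ε ^ m *ᵥ w ∈ W := by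
      intro m
      induction m with
      | zero => intro w hw; simpa using hw
      | succ m ih =>
        intro w hw
        have h1 := ih (ε *ᵥ w) (hεW w hw)
        rw [pow_succ, pow_succ, ← Matrix.mulVec_mulVec, ← Matrix.mulVec_mulVec, ← hεP w hw]
        exact h1
    have hself : ∀ a ∈ W, ∀ b ∈ W, Forms.sympB d F (ε *ᵥ a) b = Forms.sympB d F a (ε *ᵥ b) := fun a ha b hb => by
      rw [hεP a ha, hPadj, hz, hq, aeval_pow_card, (hpowW _ b hb).1, h.eps_pow_iter h2, hneven.neg_one_pow, one_smul]
    refine hv0 (hε0 v (hnd _ (hεW v hvW) fun b hb => ?_))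
    have h1 := hself v hvW b hb
    have h3 := h.anti v b
    have h4 : (2 : F) * Forms.sympB d F (ε *ᵥ v) b = 0 := by linear_combination h1 + h3
    exact (mul_eq_zero.1 h4).resolve_left h2
  · -- an odd dimensional block
    rw [if_neg hev] at hWd
    have hiodd : Odd i := Nat.not_even_iff_odd.1 hev
    obtain ⟨U, hUW, hUinv, hUd⟩ := Elusive.exists_block (Elusive.factorDeg_geom hr0) hWinv
      (fun v hv => moved_ann hxr v hv) hWne
    replace hUd : finrank F U = i := hUd
    set εl : 𝕍 →ₗ[F] 𝕍 := Matrix.toLin' ε with hεl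
    set U' := U.map εl with hU'
    have hεinj : Function.Injective εl := (injective_iff_map_eq_zero _).2 fun b hb =>
      hε0 b (by simpa [hεl] using hb)
    have hU'inv : Elusive.Inv f U' := by
      rintro _ ⟨w, hw, rfl⟩
      refine ⟨f w, hUinv w hw, ?_⟩
      simp only [hεl, hfdef, Matrix.toLin'_apply, Matrix.mulVec_mulVec, hcomm]
    have hU'W : U' ≤ W := by
      rintro _ ⟨w, hw, rfl⟩
      rw [hεl, Matrix.toLin'_apply]
      exact hεW w (hUW hw)
    have hU'd : finrank F U' = i := by
      rw [hU', ← (Submodule.equivMapOfInjective εl hεinj U).finrank_eq, hUd]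
    haveI : Nontrivial U := Module.nontrivial_of_finrank_pos (R := F) (by rw [hUd]; exact hi0)
    by_cases hUU : U' = U
    · -- `ε` is a square root of `δ` in odd dimension
      have hmem : ∀ w ∈ U, εl w ∈ U := fun w hw => by
        have : εl w ∈ U' := Submodule.mem_map_of_mem hw
        rwa [hUU] at this
      set e : Module.End F U := εl.restrict hmem with he
      have hee : e * e = δ • 1 := LinearMap.ext fun w => Subtype.ext (by
        show εl (εl w.1) = δ • w.1
        rw [hεl, Matrix.toLin'_apply, Matrix.toLin'_apply, Matrix.mulVec_mulVec, h.sq, Matrix.smul_mulVec,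
          Matrix.one_mulVec])
      have hdet := congrArg LinearMap.det hee
      rw [map_mul, LinearMap.det_smul, map_one, mul_one, hUd] at hdet
      obtain ⟨m, hm⟩ := hiodd
      refine h.nonsq (LinearMap.det e / δ ^ m) ?_
      rw [div_mul_div_comm, hdet, hm, ← pow_add, ← two_mul, div_eq_iff (pow_ne_zero _ h.delta_ne), ← pow_succ']
    · have hinf : U ⊓ U' = ⊥ := by
        by_contra hne'
        have hd1 := hdvd _ (hUinv.inf hU'inv) (inf_le_left.trans hUW)
        have hle := Submodule.finrank_mono (inf_le_left : U ⊓ U' ≤ U)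
        have hpos : 0 < finrank F ↥(U ⊓ U') :=
          Nat.pos_of_ne_zero fun h0 => hne' (Submodule.finrank_eq_zero.1 h0)
        have heq := Submodule.eq_of_le_of_finrank_eq (inf_le_left : U ⊓ U' ≤ U)
          (le_antisymm hle (hUd ▸ Nat.le_of_dvd hpos hd1))
        exact hUU (Submodule.eq_of_le_of_finrank_eq (inf_eq_left.1 heq) (hUd.trans hU'd.symm)).symm
      have hsup : U ⊔ U' = W := by
        refine Submodule.eq_of_le_of_finrank_eq (sup_le hUW hU'W) ?_
        have := Submodule.finrank_sup_add_finrank_inf_eq U U'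
        rw [hinf, finrank_bot, hUd, hU'd] at this
        show _ = finrank F W
        omega
      -- some invariant non-degenerate form on `U`
      let gU : Module.End F U := f.restrict hUinv
      have hgr : gU ^ r = 1 := by
        rw [Module.End.pow_restrict]
        refine LinearMap.ext fun w => Subtype.ext ?_
        show (f ^ r) w.1 = w.1
        rw [hfdef, ← Matrix.toLin'_pow, hxr, Matrix.toLin'_one]; rfl
      have hnofix : ∀ u, gU u = u → u = 0 := fun u hu => by
        let S : Submodule F 𝕍 := Submodule.span F {u.1}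
        have huf : f u.1 = u.1 := congrArg Subtype.val hu
        by_contra hu0
        have hann := moved_ann hxr u.1 (hUW u.2)
        have hev' : ∀ m : ℕ, (f ^ m) u.1 = u.1 := fun m => by
          induction m with
          | zero => simp
          | succ m ih => rw [pow_succ, Module.End.mul_apply, huf, ih]
        rw [map_sum, LinearMap.sum_apply] at hann
        simp only [map_pow, Polynomial.aeval_X, hev', ← hfdef, Finset.sum_const, Finset.card_range,
          ← Nat.cast_smul_eq_nsmul F] at hann
        exact hu0 (Subtype.ext ((smul_eq_zero.1 hann).resolve_left hr0))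
      have hrad : ∀ M : LinearMap.BilinForm F U, (∀ a b, M (gU a) (gU b) = M a b) → M = 0 := by
        intro M hM
        by_contra hM0
        -- the left radical is invariant, so trivial
        let R : Submodule F 𝕍 := (LinearMap.ker M).map U.subtype
        have hRU : R ≤ U := Submodule.map_subtype_le _ _
        have hgsurj : Function.Surjective gU := fun w =>
          ⟨(gU ^ (r - 1)) w, by rw [← Module.End.mul_apply, ← pow_succ', Nat.sub_add_cancel hr.out.one_le, hgr]; rfl⟩
        have hRinv : Elusive.Inv f R := by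
          rintro _ ⟨w, hw, rfl⟩
          refine ⟨gU w, LinearMap.mem_ker.2 (LinearMap.ext fun b => ?_), rfl⟩
          obtain ⟨b, rfl⟩ := hgsurj b
          rw [hM, LinearMap.mem_ker.1 hw]; rfl
        have hd1 := hdvd R hRinv (hRU.trans hUW)
        by_cases hR0 : finrank F R = 0
        · have hker : LinearMap.ker M = ⊥ :=
            Submodule.map_injective_of_injective U.injective_subtype
              ((Submodule.finrank_eq_zero.1 hR0).trans (Submodule.map_bot _).symm)
          have hnd' : M.Nondegenerate := by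
            rw [LinearMap.BilinForm.nondegenerate_iff_ker_eq_bot]; exact hker
          obtain ⟨u, hu0, hu⟩ := exists_fixed_of_form h2 M hnd' (by rw [hUd]; exact hiodd) gU hM hrodd hgr
          exact hu0 (hnofix u hu)
        · have hle := Submodule.finrank_mono hRU
          have heq := Submodule.eq_of_le_of_finrank_eq hRU
            (le_antisymm hle (hUd ▸ Nat.le_of_dvd (Nat.pos_of_ne_zero hR0) hd1))
          refine hM0 (LinearMap.ext fun w => ?_)
          obtain ⟨w', hw', e⟩ : (w : 𝕍) ∈ R := heq.symm ▸ w.2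
          rw [← U.injective_subtype e, LinearMap.mem_ker.1 hw']; rfl
      have hf1 : ∀ w : U, ((gU w : U) : 𝕍) = y.1 *ᵥ w.1 := fun w => rfl
      have hiso := hrad ((Forms.sympB d F).compl₁₂ U.subtype U.subtype) fun a b => by
        simp only [LinearMap.compl₁₂_apply, Submodule.subtype_apply, hf1, hB]
      have hsym := hrad ((Forms.sympB d F).compl₁₂ U.subtype (εl.comp U.subtype)) fun a b => by
        simp only [LinearMap.compl₁₂_apply, LinearMap.comp_apply, Submodule.subtype_apply, hf1, hεl,
          Matrix.toLin'_apply]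
        rw [Matrix.mulVec_mulVec, ← hcomm, ← Matrix.mulVec_mulVec, hB]
      obtain ⟨u, hu⟩ := exists_ne (0 : U)
      refine hu (Subtype.ext (hnd u.1 (hUW u.2) fun b hb => ?_))
      replace hb : b ∈ U ⊔ U' := by rw [hsup]; exact hb
      obtain ⟨b₁, hb₁, _, ⟨b₂, hb₂, rfl⟩, rfl⟩ := Submodule.mem_sup.1 hb
      rw [map_add]
      have e1 : Forms.sympB d F u.1 b₁ = 0 := LinearMap.congr_fun (LinearMap.congr_fun hiso u) ⟨b₁, hb₁⟩
      have e2 : Forms.sympB d F u.1 (εl b₂) = 0 := LinearMap.congr_fun (LinearMap.congr_fun hsym u) ⟨b₂, hb₂⟩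
      rw [e1, e2, add_zero]

end Cfsg.Agent.Elusive.ExtField
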