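import Cfsg.Agent.Lib.Elusive.ExtField.HermSelf

/-!
The index of the normaliser of a quadratic field of anti-self-adjoint type, and elements of order two.
-/

set_option autoImplicit false
set_option linter.unusedSectionVars false
set_option linter.style.haveILetI false

open scoped Matrix MatrixGroups

namespace Cfsg.Agent.Elusive.ExtField

open Module (finrank)
open Forms.SympInvolution (IsFrame)

variable {F : Type*} [Field F] [Fintype F] {d : ℕ}
  {K : Subalgebra F (Matrix (Fin d ⊕ Fin d) (Fin d ⊕ Fin d) F)}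
  {ε : Matrix (Fin d ⊕ Fin d) (Fin d ⊕ Fin d) F} {δ : F}

local notation "𝕍" => Fin d ⊕ Fin d → F
local notation "𝕄" => Matrix (Fin d ⊕ Fin d) (Fin d ⊕ Fin d) F

/-- If `i ≡ 2 (mod 4)` the index is prime to `r`. -/
theorem AntiGen.not_dvd_index (h : AntiGen K ε δ) (hK : Geo.IsFieldSubalgebra 2 K) (h2 : (2 : F) ≠ 0) (hd : 1 ≤ d)
    (p : ℕ) [Fact p.Prime] [CharP F p] {r : ℕ} [hr : Fact r.Prime] (hne : r ≠ p) (hr2 : r ≠ 2)
    (hi : orderOf (Fintype.card F : ZMod r) % 4 = 2) :
    ¬ r ∣ (Geo.subalgebraNormalizer K).relIndex (spGL d F) := by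
  classical
  intro hdvd
  obtain ⟨t, ht⟩ := h.card_dvd h2 hd hK
  set q := Fintype.card F with hq
  set i := orderOf (q : ZMod r) with hidef
  set N := (Geo.subalgebraNormalizer K).subgroupOf (spGL d F) with hN
  set gu : ℕ → ℕ := fun l => if Even l then q ^ (l + 1) + 1 else q ^ (l + 1) - 1 with hgu
  set oth : ℕ → ℕ := fun l => if Even l then q ^ (l + 1) - 1 else q ^ (l + 1) + 1 with hoth
  have hsplit : ∀ l, q ^ (2 * (l + 1)) - 1 = gu l * oth l := fun l => by
    have e : q ^ (2 * (l + 1)) - 1 = (q ^ (l + 1) + 1) * (q ^ (l + 1) - 1) := by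
      have := Nat.sq_sub_sq (q ^ (l + 1)) 1
      rw [one_pow, ← pow_mul, mul_comm (l + 1)] at this
      exact this
    simp only [hgu, hoth]
    split
    · exact e
    · rw [e, mul_comm]
  have hgpos : ∀ l, 0 < gu l := fun l => by
    have : 1 < q ^ (l + 1) := Nat.one_lt_pow (by omega) Fintype.one_lt_card
    simp only [hgu]; split <;> omega
  have hcard : N.index * Nat.card N = q ^ d ^ 2 * ((∏ l ∈ Finset.range d, gu l) * ∏ l ∈ Finset.range d, oth l) := by
    rw [N.index_mul_card, Forms.card_spGL, ← Finset.prod_mul_distrib]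
    exact congrArg _ (Finset.prod_congr rfl fun l _ => hsplit l)
  rw [ht] at hcard
  have hit : N.index * (q ^ (d * (d - 1) / 2) * t) = q ^ d ^ 2 * ∏ l ∈ Finset.range d, oth l :=
    Nat.eq_of_mul_eq_mul_left (Finset.prod_pos (s := Finset.range d) fun l _ => hgpos l) (by linear_combination hcard)
  have hrd : r ∣ q ^ d ^ 2 * ∏ l ∈ Finset.range d, oth l := hit ▸ Dvd.dvd.mul_right hdvd _
  rcases hr.out.dvd_mul.1 hrd with h1 | h1
  · exact q_ne_zero_mod (F := F) p hne ((ZMod.natCast_eq_zero_iff _ _).2 (hr.out.dvd_of_dvd_pow h1))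
  · obtain ⟨l, -, hl⟩ := (hr.out.prime.dvd_finsetProd_iff _).1 h1
    obtain ⟨n, hn⟩ : ∃ n, i = 2 * n := ⟨i / 2, by omega⟩
    have hnodd : Odd n := by rw [Nat.odd_iff]; omega
    have hqn : (q : ZMod r) ^ n = -1 := by
      have h1 : (q : ZMod r) ^ n * (q : ZMod r) ^ n = 1 := by
        rw [← pow_add, ← two_mul, ← hn, hidef, pow_orderOf_eq_one]
      refine (mul_self_eq_one_iff.1 h1).resolve_left fun h1 => ?_
      have := Nat.le_of_dvd (by omega) (orderOf_dvd_of_pow_eq_one h1)
      omega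
    have hdiv : i ∣ 2 * (l + 1) := by
      rw [hidef, ← dvd_pow_sub_one_iff Fintype.card_pos, hsplit]
      exact dvd_mul_of_dvd_right hl _
    rw [hn, Nat.mul_dvd_mul_iff_left two_pos] at hdiv
    obtain ⟨s, hs⟩ := hdiv
    have hpar : (q : ZMod r) ^ (l + 1) = (-1) ^ (l + 1) := by
      rw [hs, pow_mul, hqn, pow_mul, hnodd.neg_one_pow]
    have h2r : (2 : ZMod r) ≠ 0 := fun h0 => hr2
      ((Nat.prime_dvd_prime_iff_eq hr.out Nat.prime_two).1 ((ZMod.natCast_eq_zero_iff 2 r).1 h0))
    simp only [hoth] at hl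
    split at hl
    · rename_i he
      rw [← ZMod.natCast_eq_zero_iff, Nat.cast_sub (Nat.one_le_pow _ _ Fintype.card_pos), Nat.cast_pow, hpar,
        (he.add_one).neg_one_pow, Nat.cast_one] at hl
      exact h2r (by linear_combination -hl)
    · rename_i he
      rw [← ZMod.natCast_eq_zero_iff, Nat.cast_add, Nat.cast_pow, hpar,
        ((Nat.not_even_iff_odd.1 he).add_one).neg_one_pow, Nat.cast_one] at hl
      exact h2r (by linear_combination hl)

set_option maxHeartbeats 800000 in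
/-- Every element of order two modulo scalars is conjugate into the normaliser. -/
theorem AntiGen.conj_of_two (h : AntiGen K ε δ) (h2 : (2 : F) ≠ 0) (hd : 1 ≤ d)
    {x : GL (Fin d ⊕ Fin d) F} (hx : x ∈ spGL d F) {z : F}
    (hz : ((x ^ 2 : GL (Fin d ⊕ Fin d) F) : 𝕄) = z • 1) :
    ∃ g ∈ spGL d F, g⁻¹ * x * g ∈ Geo.subalgebraNormalizer K := by
  classical
  obtain ⟨u₀, v₀, hf₀, hs₀⟩ := h.exists_frame h2
  set f := Forms.glEquiv (Fin d ⊕ Fin d) F with hfdef
  have hVd : finrank F 𝕍 = 2 * d := by simp [two_mul]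
  have hA := Forms.sympB_isAlt (F := F) d
  have hN := Forms.sympB_nondegenerate (F := F) d
  have hx' : ∀ a b, Forms.sympB d F (f x a) (f x b) = Forms.sympB d F a b := fun a b => by
    rw [hfdef, Forms.glEquiv_apply, Forms.glEquiv_apply, Forms.sympB_apply, Forms.sympB_apply]; exact hx a b
  set b := hf₀.basis hA hVd (by omega) with hb
  have hbr : ∀ i, b i = Sum.elim u₀ v₀ i := fun i => hf₀.basis_apply hVd hA (by omega) i
  -- a map agreeing with `ε` up to sign on the frame normalises `K`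
  have hfin : ∀ (y : 𝕍 ≃ₗ[F] 𝕍) (σ : F), (σ = 1 ∨ σ = -1) →
      (∀ i, y (v₀ i) = σ • (ε *ᵥ y (u₀ i)) ∧ δ • y (u₀ i) = σ • (ε *ᵥ y (v₀ i))) →
      (∃ g : 𝕍 ≃ₗ[F] 𝕍, (∀ a b, Forms.sympB d F (g a) (g b) = Forms.sympB d F a b) ∧ ∀ a, g (y a) = f x (g a)) →
      ∃ g ∈ spGL d F, g⁻¹ * x * g ∈ Geo.subalgebraNormalizer K := by
    rintro y σ hσ hy ⟨g, hgB, hgx⟩
    obtain ⟨Y, rfl⟩ := f.surjective y
    obtain ⟨G, rfl⟩ := f.surjective g
    refine ⟨G, fun a b => ?_, ?_⟩
    · have := hgB a b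
      rw [hfdef, Forms.glEquiv_apply, Forms.glEquiv_apply, Forms.sympB_apply, Forms.sympB_apply] at this
      exact this
    · have hGy : G * Y = x * G := Units.ext (Matrix.toLin'.injective (LinearMap.ext fun a => by
        have := hgx a
        simp only [hfdef, Forms.glEquiv_apply, Matrix.mulVec_mulVec] at this
        simpa using this))
      rw [mul_assoc, ← hGy, inv_mul_cancel_left]
      refine h.mem_normalizer Y σ hσ (Matrix.toLin'.injective (b.ext fun i => ?_))
      simp only [hfdef, Forms.glEquiv_apply] at hy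
      rw [map_smul, hbr, LinearMap.smul_apply, Matrix.toLin'_apply, Matrix.toLin'_apply, ← Matrix.mulVec_mulVec,
        ← Matrix.mulVec_mulVec]
      rcases i with i | i
      · rw [Sum.elim_inl, (hs₀ i).1]; exact (hy i).1
      · rw [Sum.elim_inr, (hs₀ i).2, Matrix.mulVec_smul]; exact (hy i).2
  have hz' : ∀ a, f x (f x a) = z • a := fun a => by
    rw [hfdef, Forms.glEquiv_apply, Forms.glEquiv_apply, Matrix.mulVec_mulVec, ← Units.val_mul, ← pow_two, hz,
      Matrix.smul_mulVec, Matrix.one_mulVec]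
  have hzz : z * z = 1 := GL.symp_scalar_sq (n := d) (by omega) (c := z) (fun a b => by
    rw [← hz]; exact (pow_mem hx 2 : x ^ 2 ∈ spGL d F) a b)
  rcases mul_self_eq_one_iff.1 hzz with rfl | rfl
  · obtain ⟨u₂, v₂, s, hf₂, hs₂⟩ := Forms.SympInvolution.exists_frame_involution hVd hA hN h2 (f x) hx'
      (fun a => by rw [hz', one_smul]) d le_rfl
    let c : Fin d → F := fun i => if s i then 1 else -1
    have hc : ∀ j : Fin d ⊕ Fin d, c (Sum.elim id id j) * c (Sum.elim id id j) = 1 := fun j => by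
      simp only [c]; split <;> simp
    let L : 𝕍 →ₗ[F] 𝕍 := b.constr F fun j => c (Sum.elim id id j) • b j
    have hL : ∀ j, L (b j) = c (Sum.elim id id j) • b j := fun j => b.constr_basis F _ j
    have hLL : L.comp L = LinearMap.id := b.ext fun j => by
      rw [LinearMap.comp_apply, hL, map_smul, hL, smul_smul, hc, one_smul, LinearMap.id_apply]
    let y : 𝕍 ≃ₗ[F] 𝕍 := LinearEquiv.ofLinear L L hLL hLL
    have hyu : ∀ i, y (u₀ i) = c i • u₀ i ∧ y (v₀ i) = c i • v₀ i := fun i => by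
      have h1 := hL (Sum.inl i); have h3 := hL (Sum.inr i)
      rw [hbr] at h1 h3
      exact ⟨h1, h3⟩
    refine hfin y 1 (Or.inl rfl) (fun i => ?_)
      (Forms.SympInvolution.exists_conj_of_frames hVd hA (by omega) y (f x) hf₀ hf₂ hyu hs₂ rfl)
    rw [(hyu i).1, (hyu i).2, one_smul, one_smul, Matrix.mulVec_smul, Matrix.mulVec_smul, (hs₀ i).1, (hs₀ i).2,
      smul_comm]
    exact ⟨rfl, rfl⟩
  · have hxx : ∀ a, f x (f x a) = -a := fun a => by rw [hz', neg_one_smul]
    have hconj : ∀ y : 𝕍 ≃ₗ[F] 𝕍, (∀ a b, Forms.sympB d F (y a) (y b) = Forms.sympB d F a b) → (∀ a, y (y a) = -a) →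
        ∃ g : 𝕍 ≃ₗ[F] 𝕍, (∀ a b, Forms.sympB d F (g a) (g b) = Forms.sympB d F a b) ∧ ∀ a, g (y a) = f x (g a) :=
      fun y hy hyy => Forms.SympInvolution.exists_conj_of_sq_eq_neg hVd hA hN h2 (by omega) y (f x) hy hx' hyy hxx
    by_cases hsq : ∃ ω : F, ω * ω = -1
    · obtain ⟨ω, hω⟩ := hsq
      let c : Fin d ⊕ Fin d → F := Sum.elim (fun _ => ω) (fun _ => -ω)
      let L : 𝕍 →ₗ[F] 𝕍 := b.constr F fun j => c j • b j
      have hL : ∀ j, L (b j) = c j • b j := fun j => b.constr_basis F _ j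
      have hcc : ∀ j, c j * c j = -1 := fun j => by rcases j with j | j <;> simp [c, hω]
      have hLL : L.comp L = -LinearMap.id := b.ext fun j => by
        rw [LinearMap.comp_apply, hL, map_smul, hL, smul_smul, hcc, neg_one_smul, LinearMap.neg_apply,
          LinearMap.id_apply]
      let y : 𝕍 ≃ₗ[F] 𝕍 := LinearEquiv.ofLinear L (-L) (by rw [LinearMap.comp_neg, hLL, neg_neg])
        (by rw [LinearMap.neg_comp, hLL, neg_neg])
      have hyu : ∀ i, y (u₀ i) = ω • u₀ i ∧ y (v₀ i) = (-ω) • v₀ i := fun i => by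
        have h1 := hL (Sum.inl i); have h3 := hL (Sum.inr i)
        rw [hbr] at h1 h3
        exact ⟨h1, h3⟩
      refine hfin y (-1) (Or.inr rfl) (fun i => ?_) (hconj y ?_ fun a => LinearMap.congr_fun hLL a)
      · rw [(hyu i).1, (hyu i).2, Matrix.mulVec_smul, Matrix.mulVec_smul, (hs₀ i).1, (hs₀ i).2, smul_smul,
          smul_smul, smul_smul, smul_smul]
        exact ⟨by ring_nf, by ring_nf⟩
      · intro a a'
        have : (Forms.sympB d F).compl₁₂ L L = Forms.sympB d F := by
          refine b.ext fun i => b.ext fun j => ?_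
          simp only [LinearMap.compl₁₂_apply, hL, map_smul, LinearMap.smul_apply, smul_eq_mul]
          simp only [hbr]
          rcases i with i | i <;> rcases j with j | j <;>
            simp only [Sum.elim_inl, Sum.elim_inr, hf₀.uu, hf₀.vv, hf₀.uv, hf₀.vu hA, c, mul_zero] <;>
            split_ifs <;> simp [hω]
        exact LinearMap.congr_fun (LinearMap.congr_fun this a) a'
    · -- `-1` is a non-square, so `-δ` is a square
      push Not at hsq
      have hchar : ringChar F ≠ 2 := fun hc => h2 (by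
        have := ringChar.Nat.cast_ringChar (R := F); rw [hc] at this; exact_mod_cast this)
      obtain ⟨w, hw⟩ : ∃ w : F, w * w = -δ := by
        have h1 : (-1 : F) ^ (Fintype.card F / 2) = -1 :=
          (FiniteField.pow_dichotomy hchar (neg_ne_zero.2 one_ne_zero)).resolve_left fun h1 => by
            obtain ⟨ω, hω⟩ := (FiniteField.isSquare_iff hchar (neg_ne_zero.2 one_ne_zero)).2 h1
            exact hsq ω hω.symm
        obtain ⟨w, hw⟩ := (FiniteField.isSquare_iff hchar (neg_ne_zero.2 h.delta_ne)).2 (by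
          rw [neg_eq_neg_one_mul, mul_pow, h1, h.pow_half h2]; norm_num)
        exact ⟨w, hw.symm⟩
      have hw0 : w ≠ 0 := fun h0 => h.delta_ne (by rw [h0, mul_zero] at hw; linear_combination hw)
      have hcoef : w⁻¹ * (w⁻¹ * δ) = -1 := by field_simp; linear_combination hw
      let L : 𝕍 →ₗ[F] 𝕍 := w⁻¹ • Matrix.toLin' ε
      have hLa : ∀ a, L a = w⁻¹ • (ε *ᵥ a) := fun a => rfl
      have hεε : ∀ a, ε *ᵥ (ε *ᵥ a) = δ • a := fun a => by
        rw [Matrix.mulVec_mulVec, h.sq, Matrix.smul_mulVec, Matrix.one_mulVec]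
      have hLL : L.comp L = -LinearMap.id := LinearMap.ext fun a => by
        rw [LinearMap.comp_apply, hLa, hLa, Matrix.mulVec_smul, hεε, smul_smul, smul_smul, mul_assoc, hcoef,
          neg_one_smul, LinearMap.neg_apply, LinearMap.id_apply]
      let y : 𝕍 ≃ₗ[F] 𝕍 := LinearEquiv.ofLinear L (-L) (by rw [LinearMap.comp_neg, hLL, neg_neg])
        (by rw [LinearMap.neg_comp, hLL, neg_neg])
      have hyL : ∀ a, y a = w⁻¹ • (ε *ᵥ a) := fun a => rfl
      refine hfin y 1 (Or.inl rfl) (fun i => ?_) (hconj y (fun a a' => ?_) fun a => LinearMap.congr_fun hLL a)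
      · rw [hyL, hyL, one_smul, one_smul, Matrix.mulVec_smul, Matrix.mulVec_smul, hεε, hεε, (hs₀ i).1, (hs₀ i).2,
          smul_comm]
        exact ⟨rfl, smul_comm _ _ _⟩
      · simp only [hyL, map_smul, LinearMap.smul_apply, h.anti, hεε, smul_eq_mul]
        linear_combination (-(Forms.sympB d F a a')) * hcoef

end Cfsg.Agent.Elusive.ExtField
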