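import Cfsg.Agent.Lib.LocalBalance.OrthInvol
import Cfsg.Agent.Lib.Forms.Classify
import Cfsg.Agent.Lib.Forms.QuadOrder
import Cfsg.Agent.Lib.QForm.Diag
import Cfsg.Agent.Lib.QForm.Std

/-!
Self-adjoint maps with non-square scalar square: coordinates over the quadratic extension, the discriminant, their
conjugacy, and the orders of the orthogonal groups over the extension.
-/

set_option autoImplicit false
set_option linter.unusedSectionVars false
set_option linter.style.haveILetI false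

namespace Cfsg.Agent.Elusive.ExtField.Orth

open Module (finrank)
open scoped Matrix

variable {F : Type*} [Field F] [Fintype F] {δ : F}

/-- `F(√δ)`. -/
abbrev QE (δ : F) := QuadraticAlgebra F δ 0

/-- The square root of `δ`. -/
def om (δ : F) : QE δ := ⟨0, 1⟩

theorem fact_of_nonsq (hns : ¬ IsSquare δ) : Fact (∀ r : F, r ^ 2 ≠ δ + 0 * r) :=
  ⟨fun r hr => hns ⟨r, by linear_combination -hr⟩⟩

/-- A diagonal form in coordinates. -/
noncomputable def kval {m : ℕ} (w x y : Fin m → QE δ) : QE δ := ∑ i, w i * (x i * y i)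

/-- Coefficients `(1, …, 1, c)`. -/
def wv {n : ℕ} (c : QE δ) : Fin (n + 1) → QE δ := fun i => if i = Fin.last n then c else 1

theorem prod_wv {n : ℕ} (c : QE δ) : ∏ i, wv (n := n) c i = c := by
  rw [Fin.prod_univ_castSucc, Finset.prod_eq_one, one_mul]
  · simp [wv]
  · intro i _
    simp [wv, Fin.castSucc_ne_last]

variable {V : Type*} [AddCommGroup V] [Module F V]

/-- `T` diagonalises the form over the extension. -/
structure Coords (Q : QuadraticForm F V) (G : V →ₗ[F] V) {m : ℕ} (w : Fin m → QE δ)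
    (T : V ≃ₗ[F] (Fin m → QE δ)) : Prop where
  comm : ∀ v, T (G v) = om δ • T v
  im : ∀ x y, QuadraticMap.polarBilin Q x y = (kval w (T x) (T y)).im

variable [FiniteDimensional F V] {Q : QuadraticForm F V} {G : V →ₗ[F] V}

theorem exists_coords (hns : ¬ IsSquare δ) (h2 : (2 : F) ≠ 0) (hQ : (QuadraticMap.polarBilin Q).Nondegenerate)
    (hG : ∀ v, G (G v) = δ • v)
    (hadj : ∀ x y, QuadraticMap.polarBilin Q (G x) y = QuadraticMap.polarBilin Q x (G y))
    {α : QE δ} (hα : ¬ IsSquare α) {n : ℕ} (hd : finrank F V = 2 * (n + 1)) :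
    ∃ c : QE δ, (c = 1 ∨ c = α) ∧ ∃ T : V ≃ₗ[F] (Fin (n + 1) → QE δ), Coords Q G (wv c) T := by
  classical
  haveI := fact_of_nonsq hns
  let φ : QE δ →ₐ[F] Module.End F V :=
    QuadraticAlgebra.lift ⟨G, LinearMap.ext fun v => by simpa using hG v⟩
  letI : Module (QE δ) V := Module.compHom V φ.toRingHom
  haveI : IsScalarTower F (QE δ) V := ⟨fun r z v => by
    show φ (r • z) v = r • φ z v
    rw [map_smul]; rfl⟩
  haveI : Finite (QE δ) := Module.finite_of_finite F
  letI : Fintype (QE δ) := Fintype.ofFinite (QE δ)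
  haveI : Finite V := Module.finite_of_finite F
  haveI : Module.Finite (QE δ) V := Module.Finite.of_finite
  have hθv : ∀ v : V, (om δ) • v = G v := fun v => by
    show φ (om δ) v = G v
    simp [φ, QuadraticAlgebra.lift, om]
  have hsc : ∀ (c : F) (v : V), algebraMap F (QE δ) c • v = c • v := fun c v => algebraMap_smul (QE δ) c v
  have hθ : om δ * om δ = algebraMap F (QE δ) δ := by ext <;> simp [om]
  have hgen : ∀ e : QE δ, ∃ x y : F, e = algebraMap F (QE δ) x + algebraMap F (QE δ) y * om δ := fun e =>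
    ⟨e.re, e.im, by ext <;> simp [om]⟩
  have hθf : ∀ x : F, algebraMap F (QE δ) x ≠ om δ := fun x h => by
    simpa [om] using congrArg QuadraticAlgebra.im h
  have hs : ∀ x y, QuadraticMap.polarBilin Q x y = QuadraticMap.polarBilin Q y x := fun x y =>
    QuadraticMap.polar_comm _ _ _
  obtain ⟨H, hH⟩ := LocalBalance.exists_formE (QuadraticMap.polarBilin Q) G hG hadj (algebraMap F (QE δ)) (om δ)
    hθ hsc hθv hgen
  obtain ⟨hHn, hHs⟩ := LocalBalance.formE_facts (QuadraticMap.polarBilin Q) hQ hs G hG hadj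
    (algebraMap F (QE δ)) (om δ) hθ hsc hθv hgen hθf hH
  have h2E : (2 : QE δ) ≠ 0 := by
    rw [← map_ofNat (algebraMap F (QE δ)) 2]; exact (map_ne_zero _).2 h2
  have hdim : finrank (QE δ) V = n + 1 := by
    have h := Module.finrank_mul_finrank F (QE δ) V
    rw [QuadraticAlgebra.finrank_eq_two, hd] at h
    omega
  obtain ⟨e, c, hc, he⟩ := Forms.exists_symm_coords h2E hHs hHn.1 hdim hα
  refine ⟨c, hc, e.restrictScalars F, fun v => ?_, fun x y => ?_⟩
  · show e (G v) = om δ • e v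
    rw [← hθv, map_smul]
  · have h1 : (H x y).im = QuadraticMap.polarBilin Q x y := by rw [hH]; simp [om]
    rw [← h1, he]
    rfl

/-- The discriminant in coordinates. -/
theorem coords_gram {m : ℕ} {w : Fin m → QE δ} {T : V ≃ₗ[F] (Fin m → QE δ)} (hT : Coords Q G w T)
    {κ : Type*} [Fintype κ] [DecidableEq κ] (b : Module.Basis κ F V) :
    ∃ u : F, u ≠ 0 ∧ (QForm.gram ⇑Q ⇑b).det = u ^ 2 * ((-1) ^ m * QuadraticAlgebra.norm (∏ i, w i)) := by
  classical
  let b₀ : Module.Basis (Fin 2 × Fin m) F (Fin m → QE δ) :=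
    (QuadraticAlgebra.basis δ 0).smulTower (Pi.basisFun (QE δ) (Fin m))
  obtain ⟨u, hu, h⟩ := QForm.det_gram_change Q (b₀.map T.symm) b
  refine ⟨u, hu, h.trans ?_⟩
  congr 1
  have hM : QForm.gram ⇑Q ⇑(b₀.map T.symm) =
      Matrix.blockDiagonal fun j : Fin m => !![(w j).im, (w j).re; (w j).re, δ * (w j).im] := by
    ext ⟨s, j⟩ ⟨t, k⟩
    rw [QForm.gram, Matrix.of_apply, ← QuadraticMap.polarBilin_apply_apply, hT.im]
    simp only [b₀, Module.Basis.map_apply, LinearEquiv.apply_symm_apply, Module.Basis.smulTower_apply,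
      Pi.basisFun_apply, kval, Matrix.blockDiagonal_apply]
    rw [Finset.sum_eq_single j (fun i _ hi => by simp [hi]) (fun h => absurd (Finset.mem_univ j) h)]
    by_cases hjk : j = k
    · subst hjk
      fin_cases s <;> fin_cases t <;> simp [QuadraticAlgebra.basis, mul_comm]
    · simp [hjk]
  rw [hM, Matrix.det_blockDiagonal, map_prod]
  have e : ∀ j, (!![(w j).im, (w j).re; (w j).re, δ * (w j).im] : Matrix (Fin 2) (Fin 2) F).det =
      (-1) * QuadraticAlgebra.norm (w j) := fun j => by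
    rw [Matrix.det_fin_two_of, QuadraticAlgebra.norm_def]; ring
  rw [Finset.prod_congr rfl fun j _ => e j, Finset.prod_mul_distrib, Finset.prod_const, Finset.card_univ,
    Fintype.card_fin]

theorem exists_alpha (h2 : (2 : F) ≠ 0) (hns : ¬ IsSquare δ) :
    ∃ α : QE δ, ¬ IsSquare (QuadraticAlgebra.norm α) ∧ ¬ IsSquare α := by
  have hchar : ringChar F ≠ 2 := fun hc => h2 (by
    have := ringChar.Nat.cast_ringChar (R := F); rw [hc] at this; exact_mod_cast this)
  obtain ⟨ν, hν⟩ := FiniteField.exists_nonsquare hchar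
  have hν0 : ν ≠ 0 := fun h => hν (h ▸ IsSquare.zero)
  have hδ0 : δ ≠ 0 := fun h => hns (h ▸ IsSquare.zero)
  obtain ⟨s, t, hst⟩ := QForm.exists_two_squares_eq_one h2 (inv_ne_zero hν0)
    (show -δ * ν⁻¹ ≠ 0 from mul_ne_zero (neg_ne_zero.2 hδ0) (inv_ne_zero hν0))
  have hn : QuadraticAlgebra.norm (⟨s, t⟩ : QE δ) = ν := by
    rw [QuadraticAlgebra.norm_def]
    field_simp at hst
    simp only [zero_mul, add_zero]
    linear_combination hst
  exact ⟨⟨s, t⟩, by rwa [hn], fun h => hν (hn ▸ h.map QuadraticAlgebra.norm)⟩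

/-- The class of `c` is fixed by the discriminant. -/
theorem isSquare_norm_iff {n : ℕ} {c : QE δ} {T : V ≃ₗ[F] (Fin (n + 1) → QE δ)}
    (hT : Coords Q G (wv c) T) {κ : Type*} [Fintype κ] [DecidableEq κ] (b : Module.Basis κ F V) :
    IsSquare ((-1) ^ (n + 1) * (QForm.gram ⇑Q ⇑b).det) ↔ IsSquare (QuadraticAlgebra.norm c) := by
  obtain ⟨u, hu, h⟩ := coords_gram hT b
  rw [h, prod_wv]
  set N := QuadraticAlgebra.norm c
  have e : (-1 : F) ^ (n + 1) * (u ^ 2 * ((-1) ^ (n + 1) * N)) = u ^ 2 * N := by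
    have : ((-1 : F) ^ (n + 1)) * (-1) ^ (n + 1) = 1 := by rw [← mul_pow]; simp
    linear_combination u ^ 2 * N * this
  rw [e]
  constructor
  · rintro ⟨r, hr⟩; exact ⟨r / u, by field_simp; linear_combination hr⟩
  · rintro ⟨r, hr⟩; exact ⟨u * r, by rw [hr]; ring⟩

/-- Two self-adjoint maps with the same non-square square are conjugate by an isometry. -/
theorem exists_conj (hns : ¬ IsSquare δ) (h2 : (2 : F) ≠ 0) (hQ : (QuadraticMap.polarBilin Q).Nondegenerate)
    {G' : V →ₗ[F] V} (hG : ∀ v, G (G v) = δ • v) (hG' : ∀ v, G' (G' v) = δ • v)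
    (hadj : ∀ x y, QuadraticMap.polarBilin Q (G x) y = QuadraticMap.polarBilin Q x (G y))
    (hadj' : ∀ x y, QuadraticMap.polarBilin Q (G' x) y = QuadraticMap.polarBilin Q x (G' y))
    {n : ℕ} (hd : finrank F V = 2 * (n + 1)) :
    ∃ g : V ≃ₗ[F] V, (∀ v, Q (g v) = Q v) ∧ ∀ v, g (G v) = G' (g v) := by
  classical
  obtain ⟨α, hαn, hα⟩ := exists_alpha h2 hns
  obtain ⟨c, hc, T, hT⟩ := exists_coords hns h2 hQ hG hadj hα hd
  obtain ⟨c', hc', T', hT'⟩ := exists_coords hns h2 hQ hG' hadj' hα hd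
  have key := (isSquare_norm_iff hT (Module.finBasis F V)).symm.trans
    (isSquare_norm_iff hT' (Module.finBasis F V))
  have hcc : c = c' := by
    have h1 : IsSquare (QuadraticAlgebra.norm (1 : QE δ)) := by rw [map_one]; exact IsSquare.one
    rcases hc with rfl | rfl <;> rcases hc' with rfl | rfl
    · rfl
    · exact absurd (key.1 h1) hαn
    · exact absurd (key.2 h1) hαn
    · rfl
  subst hcc
  refine ⟨T.trans T'.symm, fun v => ?_, fun v => ?_⟩
  · have e : QuadraticMap.polarBilin Q (T'.symm (T v)) (T'.symm (T v)) = QuadraticMap.polarBilin Q v v := by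
      rw [hT'.im, hT.im]; simp
    rw [Forms.polarBilin_self, Forms.polarBilin_self] at e
    exact mul_left_cancel₀ h2 e
  · apply T'.injective
    rw [hT'.comm]
    simp [hT.comm]

variable [hF : Fact (∀ r : F, r ^ 2 ≠ δ + 0 * r)]

/-- The diagonal quadratic form over the extension. -/
noncomputable def kq {m : ℕ} (w : Fin m → QE δ) : QuadraticForm (QE δ) (Fin m → QE δ) :=
  QuadraticMap.weightedSumSquares (QE δ) w

theorem kq_apply {m : ℕ} (w x : Fin m → QE δ) : kq w x = kval w x x := by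
  rw [kq, QuadraticMap.weightedSumSquares_apply]; rfl

/-- The orthogonal group over the extension inside the centraliser of `G`. -/
theorem exists_hom (h2 : (2 : F) ≠ 0) {m : ℕ} {w : Fin m → QE δ} {T : V ≃ₗ[F] (Fin m → QE δ)}
    (hT : Coords Q G w T) :
    ∃ Φ : Forms.isomQ (kq w) →* (V ≃ₗ[F] V), Function.Injective Φ ∧
      ∀ g, (∀ x, Q (Φ g x) = Q x) ∧ ∀ x, Φ g (G x) = G (Φ g x) := by
  let Φ : Forms.isomQ (kq w) →* (V ≃ₗ[F] V) :=
    { toFun := fun g => (T.trans (g.1.restrictScalars F)).trans T.symm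
      map_one' := LinearEquiv.ext fun x => by simp
      map_mul' := fun a b => LinearEquiv.ext fun x => by simp }
  have hΦ : ∀ g x, T (Φ g x) = g.1 (T x) := fun g x => by simp [Φ]
  refine ⟨Φ, fun a b hab => Subtype.ext (LinearEquiv.ext fun y => ?_), fun g => ⟨fun x => ?_, fun x => ?_⟩⟩
  · have := hΦ a (T.symm y)
    rw [hab, hΦ] at this
    simpa using this.symm
  · have e : QuadraticMap.polarBilin Q (Φ g x) (Φ g x) = QuadraticMap.polarBilin Q x x := by
      have hg : kq w (g.1 (T x)) = kq w (T x) := g.2 (T x) 0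
      rw [hT.im, hT.im, hΦ, ← kq_apply, ← kq_apply, hg]
    rw [Forms.polarBilin_self, Forms.polarBilin_self] at e
    exact mul_left_cancel₀ h2 e
  · apply T.injective
    rw [hΦ, hT.comm, hT.comm, map_smul, hΦ]

end Cfsg.Agent.Elusive.ExtField.Orth
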