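import Cfsg.Agent.Lib.Elusive.ExtField.HermSelf
import Cfsg.Agent.Lib.Forms.OmegaOrder
import Cfsg.Agent.Lib.MaxCl.OrthBase

/-!
Elements of prime order of `Omega` of a quadratic form in odd characteristic moving a space of least possible
dimension.
-/

set_option autoImplicit false
set_option linter.unusedSectionVars false
set_option linter.style.haveILetI false

open scoped Matrix MatrixGroups

namespace Cfsg.Agent.Elusive.ExtField.Orth

open Module (finrank)
open Polynomial (aeval X)

variable {F : Type*} [Field F] [Fintype F]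

/-- The least dimension of a non-degenerate space moved by an element of order `r`. -/
noncomputable def cdim (F : Type*) [Fintype F] (r : ℕ) : ℕ :=
  if Even (orderOf (Fintype.card F : ZMod r)) then orderOf (Fintype.card F : ZMod r)
  else 2 * orderOf (Fintype.card F : ZMod r)

section Abstract

variable {V : Type*} [AddCommGroup V] [Module F V] [FiniteDimensional F V]
  (β : LinearMap.BilinForm F V)

/-- Non-degeneracy on a subspace. -/
abbrev ND (S : Submodule F V) : Prop := ∀ a ∈ S, (∀ b ∈ S, β a b = 0) → a = 0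

variable {β} (hs : ∀ a b, β a b = β b a) (hN : β.Nondegenerate) (h2 : (2 : F) ≠ 0) {f : Module.End F V}
  (hf : ∀ a b, β (f a) (f b) = β a b) {r : ℕ} [hr : Fact r.Prime] (hr0 : (r : F) ≠ 0) (hfr : f ^ r = 1)

include hr0 hfr in
theorem dvd_of_nofix {S : Submodule F V} (hS : Elusive.Inv f S) (hfix : ∀ v ∈ S, f v = v → v = 0) :
    orderOf (Fintype.card F : ZMod r) ∣ finrank F S := by
  obtain ⟨b, hb⟩ := Elusive.dim_eq hr0 hfr hS
  have h0 : LinearMap.ker (f - 1) ⊓ S = ⊥ := le_bot_iff.1 fun v hv => (Submodule.mem_bot F).2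
    (hfix v hv.2 (sub_eq_zero.1 hv.1))
  rw [hb, h0, finrank_bot, zero_add]
  exact dvd_mul_left _ b

include hfr in
theorem exists_pre {S : Submodule F V} (hS : Elusive.Inv f S) {w : V} (hw : w ∈ S) : ∃ v ∈ S, f v = w := by
  refine ⟨(f ^ (r - 1)) w, ?_, ?_⟩
  · have : ∀ m : ℕ, (f ^ m) w ∈ S := fun m => by
      induction m with
      | zero => simpa using hw
      | succ m ih => rw [pow_succ', Module.End.mul_apply]; exact hS _ ih
    exact this _
  · rw [← Module.End.mul_apply, ← pow_succ', Nat.sub_add_cancel hr.out.one_le, hfr, Module.End.one_apply]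

include hf hfr in
theorem inv_orthogonal {S : Submodule F V} (hS : Elusive.Inv f S) : Elusive.Inv f (β.orthogonal S) := by
  intro v hv u hu
  obtain ⟨u', hu', rfl⟩ := exists_pre hfr hS hu
  exact (hf u' v).trans (hv u' hu')

include hs hf hr0 hfr in
/-- An irreducible subspace is non-degenerate or totally isotropic. -/
theorem nd_or_iso {S : Submodule F V} (hS : Elusive.Inv f S) (hfix : ∀ v ∈ S, f v = v → v = 0)
    (hd : finrank F S = orderOf (Fintype.card F : ZMod r)) : ND β S ∨ ∀ a ∈ S, ∀ b ∈ S, β a b = 0 := by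
  have hR : Elusive.Inv f (S ⊓ β.orthogonal S) := hS.inf (inv_orthogonal hf hfr hS)
  have hdvd := dvd_of_nofix hr0 hfr hR fun v hv => hfix v hv.1
  rcases Nat.eq_zero_or_pos (finrank F ↥(S ⊓ β.orthogonal S)) with h0 | hpos
  · refine Or.inl fun a ha hab => ?_
    have : a ∈ S ⊓ β.orthogonal S := ⟨ha, fun b hb => (hs b a).trans (hab b hb)⟩
    rwa [Submodule.finrank_eq_zero.1 h0, Submodule.mem_bot] at this
  · refine Or.inr fun a ha b hb => ?_
    have heq := Submodule.eq_of_le_of_finrank_le (inf_le_left : S ⊓ β.orthogonal S ≤ S)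
      (hd ▸ Nat.le_of_dvd hpos hdvd)
    exact (inf_eq_left.1 heq hb) a ha

include hr hfr hf h2 in
/-- A non-degenerate subspace without fixed vectors has even dimension. -/
theorem even_of_nofix (hr2 : r ≠ 2) {S : Submodule F V} (hS : Elusive.Inv f S)
    (hfix : ∀ v ∈ S, f v = v → v = 0) (hne : S ≠ ⊥) (hnd : ND β S) (hsd : ∀ a b, β a b = β b a) :
    Even (finrank F S) := by
  by_contra ho
  rw [Nat.not_even_iff_odd] at ho
  have hsep : (β.restrict S).Nondegenerate := by
    refine ⟨fun a ha => Subtype.ext (hnd a.1 a.2 fun b hb => ha ⟨b, hb⟩), fun a ha => Subtype.ext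
      (hnd a.1 a.2 fun b hb => (hsd a.1 b).trans (ha ⟨b, hb⟩))⟩
  have hpow : (f.restrict hS) ^ r = 1 := by
    rw [Module.End.pow_restrict]
    exact LinearMap.ext fun w => Subtype.ext (by
      show (f ^ r) w.1 = w.1
      rw [hfr]; rfl)
  obtain ⟨u, hu0, hu⟩ := exists_fixed_of_form h2 (β.restrict S) hsep ho (f.restrict hS)
    (fun a b => hf a.1 b.1) (hr.out.odd_of_ne_two hr2) hpow
  exact hu0 (Subtype.ext (hfix u.1 u.2 (congrArg Subtype.val hu)))

theorem aeval_pow_card' (P : Polynomial F) (g : Module.End F V) :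
    ∀ n, aeval (g ^ Fintype.card F ^ n) P = aeval g P ^ Fintype.card F ^ n := by
  intro n
  induction n with
  | zero => simp
  | succ n ih =>
    rw [pow_succ, pow_mul, pow_mul, ← Polynomial.expand_aeval, FiniteField.expand_card, map_pow, ih]

set_option maxHeartbeats 800000 in
include hs hN h2 hf hr0 hfr in
/-- A non-degenerate invariant subspace of least dimension without fixed vectors. -/
theorem exists_moved_sub (hr2 : r ≠ 2) (hi0 : 0 < orderOf (Fintype.card F : ZMod r)) (hf1 : f ≠ 1) :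
    ∃ S : Submodule F V, Elusive.Inv f S ∧ (∀ v ∈ S, f v = v → v = 0) ∧ ND β S ∧
      finrank F S = cdim F r := by
  classical
  set i := orderOf (Fintype.card F : ZMod r) with hi
  have hc := Elusive.isCompl_parts hr0 hfr
  set T := LinearMap.ker (aeval f (∑ j ∈ Finset.range r, X ^ j : Polynomial F)) with hT
  have hTne : T ≠ ⊥ := fun e => hf1 (by
    have := hc.sup_eq_top
    rw [e, sup_bot_eq, LinearMap.ker_eq_top] at this
    exact sub_eq_zero.1 this)
  have hTinv : Elusive.Inv f T := fun v hv => by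
    rw [hT, LinearMap.mem_ker] at hv ⊢
    have e := congrArg (aeval f) (Polynomial.X_mul (p := (∑ j ∈ Finset.range r, X ^ j : Polynomial F)))
    simp only [map_mul, Polynomial.aeval_X] at e
    rw [← Module.End.mul_apply, ← e, Module.End.mul_apply, hv, map_zero]
  obtain ⟨U, hUT, hU, hUd⟩ := Elusive.exists_block (Elusive.factorDeg_geom hr0) hTinv (fun v hv => hv) hTne
  replace hUd : finrank F U = i := hUd
  have hUfix : ∀ v ∈ U, f v = v → v = 0 := fun v hv h => Submodule.disjoint_def.1 hc.disjoint v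
    (LinearMap.mem_ker.2 (show f v - v = 0 from sub_eq_zero.2 h)) (hUT hv)
  have hUne : U ≠ ⊥ := fun e => by rw [e, finrank_bot] at hUd; omega
  have heven : ∀ S, Elusive.Inv f S → (∀ v ∈ S, f v = v → v = 0) → finrank F S = i → ND β S →
      finrank F S = cdim F r := fun S hS hSf hSd hSn => by
    have he := even_of_nofix h2 hf hfr hr2 hS hSf (fun e => by rw [e, finrank_bot] at hSd; omega) hSn hs
    rw [hSd] at he ⊢
    rw [cdim, if_pos he]
  rcases nd_or_iso hs hf hr0 hfr hU hUfix hUd with hnd | hiso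
  · exact ⟨U, hU, hUfix, hnd, heven U hU hUfix hUd hnd⟩
  -- a complement of the orthogonal of `U`
  obtain ⟨C, hC, hOC⟩ := Elusive.exists_compl (Elusive.isSemisimple_of_pow hr0 hfr) (inv_orthogonal hf hfr hU)
  have hCd : finrank F C = i := by
    have h1 := Submodule.finrank_add_eq_of_isCompl hOC
    have h3 := LinearMap.BilinForm.finrank_orthogonal (B := β) hN U
    have h4 := Submodule.finrank_le U
    omega
  have hO : ∀ v ∈ C, (∀ u ∈ U, β u v = 0) → v = 0 := fun v hv h =>
    Submodule.disjoint_def.1 hOC.disjoint v h hv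
  have hUsurj : ∀ u ∈ U, ∃ u' ∈ U, f u' - u' = u := by
    let g : U →ₗ[F] U := (f - 1 : Module.End F V).restrict fun v hv => by
      show f v - v ∈ U
      exact U.sub_mem (hU v hv) hv
    have hg : Function.Injective g := (injective_iff_map_eq_zero _).2 fun v hv =>
      Subtype.ext (hUfix v.1 v.2 (sub_eq_zero.1 (congrArg Subtype.val hv)))
    intro u hu
    obtain ⟨u', hu'⟩ := LinearMap.injective_iff_surjective.1 hg ⟨u, hu⟩
    exact ⟨u'.1, u'.2, congrArg Subtype.val hu'⟩
  have hCfix : ∀ v ∈ C, f v = v → v = 0 := fun v hv h => hO v hv fun u hu => by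
    obtain ⟨u', -, rfl⟩ := hUsurj u hu
    rw [LinearMap.BilinForm.sub_left, ← hf u' v, h, sub_self]
  rcases nd_or_iso hs hf hr0 hfr hC hCfix hCd with hnd | hisoC
  · exact ⟨C, hC, hCfix, hnd, heven C hC hCfix hCd hnd⟩
  have hUC : U ⊓ C = ⊥ := le_bot_iff.1 fun v hv => (Submodule.mem_bot F).2
    (hO v hv.2 fun u hu => hiso u hu v hv.1)
  have hfixUC : ∀ v ∈ U ⊔ C, f v = v → v = 0 := by
    intro v hv h
    obtain ⟨a, ha, b, hb, rfl⟩ := Submodule.mem_sup.1 hv
    have hab : f a - a = b - f b := by rw [map_add] at h; linear_combination (norm := abel) h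
    have h0 : f a - a ∈ U ⊓ C := ⟨U.sub_mem (hU a ha) ha, hab ▸ C.sub_mem hb (hC b hb)⟩
    rw [hUC, Submodule.mem_bot] at h0
    rw [h0] at hab
    rw [hUfix a ha (sub_eq_zero.1 h0), hCfix b hb (sub_eq_zero.1 hab.symm).symm, add_zero]
  have hd2 : finrank F ↥(U ⊔ C) = 2 * i := by
    have := Submodule.finrank_sup_add_finrank_inf_eq U C
    rw [hUC, finrank_bot, hUd, hCd] at this
    omega
  have hndUC : ND β (U ⊔ C) := by
    intro v hv hvp
    obtain ⟨a, ha, b, hb, rfl⟩ := Submodule.mem_sup.1 hv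
    have hb0 : b = 0 := hO b hb fun u hu => by
      have := hvp u (Submodule.mem_sup_left hu)
      rw [LinearMap.BilinForm.add_left, hiso a ha u hu, zero_add, hs] at this
      exact this
    subst hb0
    rw [add_zero] at hvp ⊢
    refine hN.1 a fun y => ?_
    obtain ⟨y₁, hy₁, y₂, hy₂, rfl⟩ := Submodule.mem_sup.1 (show y ∈ β.orthogonal U ⊔ C from
      hOC.sup_eq_top.symm ▸ Submodule.mem_top)
    rw [map_add, show β a y₁ = 0 from hy₁ a ha, hvp y₂ (Submodule.mem_sup_right hy₂), add_zero]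
  by_cases hev : Even i
  swap
  · exact ⟨U ⊔ C, hU.sup hC, hfixUC, hndUC, by rw [hd2, cdim, if_neg hev]⟩
  -- one polynomial of degree `i` kills `U` and `C`
  obtain ⟨n, hn⟩ := hev
  set P := (f.restrict hU).charpoly with hP
  have hPd : P.natDegree = i := by rw [hP, LinearMap.charpoly_natDegree, hUd]
  have hPU : ∀ v ∈ U, aeval f P v = 0 := fun v hv => by
    have key : ∀ (P : Polynomial F) (x : U), ((aeval (f.restrict hU) P x : U) : V) = aeval f P x := by
      intro P
      induction P using Polynomial.induction_on' with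
      | add a b iha ihb => intro x; simp [iha, ihb]
      | monomial m a =>
        intro x
        simp only [Polynomial.aeval_monomial, Module.End.mul_apply, Module.algebraMap_end_apply,
          Submodule.coe_smul]
        congr 1
        induction m with
        | zero => simp
        | succ m ih =>
          rw [pow_succ', pow_succ', Module.End.mul_apply, Module.End.mul_apply, LinearMap.coe_restrict_apply, ih]
    have := key P ⟨v, hv⟩
    rw [hP, LinearMap.aeval_self_charpoly] at this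
    exact this.symm
  set z := f ^ Fintype.card F ^ n with hz
  have hfz : f * z = 1 := by
    have hrn : r ∣ Fintype.card F ^ n + 1 := by
      have h1 : ((Fintype.card F : ZMod r) ^ n) * ((Fintype.card F : ZMod r) ^ n) = 1 := by
        rw [← pow_add, ← hn, hi, pow_orderOf_eq_one]
      rcases mul_self_eq_one_iff.1 h1 with h1 | h1
      · exact absurd (Nat.le_of_dvd (by omega) (orderOf_dvd_of_pow_eq_one h1)) (by omega)
      · rw [← ZMod.natCast_eq_zero_iff, Nat.cast_add, Nat.cast_pow, h1, Nat.cast_one, neg_add_cancel]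
    obtain ⟨t, ht⟩ := hrn
    rw [hz, ← pow_succ', ht, pow_mul, hfr, one_pow]
  have hzadj : ∀ a b, β (f a) b = β a (z b) := fun a b => by
    conv_lhs => arg 2; rw [← Module.End.one_apply (R := F) b, ← hfz, Module.End.mul_apply]
    rw [hf]
  have hPadj : ∀ (P : Polynomial F) a b, β (aeval f P a) b = β a (aeval z P b) := by
    intro P
    induction P using Polynomial.induction_on' with
    | add P Q ihP ihQ => intro a b; simp only [map_add, LinearMap.add_apply, ihP, ihQ]
    | monomial m c =>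
      intro a b
      simp only [Polynomial.aeval_monomial, Module.End.mul_apply, Module.algebraMap_end_apply, map_smul,
        LinearMap.smul_apply]
      congr 1
      induction m generalizing b with
      | zero => simp
      | succ m ih => rw [pow_succ', pow_succ, Module.End.mul_apply, Module.End.mul_apply, hzadj, ih]
  have hPC : ∀ v ∈ C, aeval f P v = 0 := fun v hv => hO _ (hC.aeval_mem P v hv) fun u hu => by
    rw [hs, hPadj, hz, aeval_pow_card' P f n]
    obtain ⟨t, ht⟩ : ∃ t, Fintype.card F ^ n = t + 1 :=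
      ⟨_, (Nat.succ_pred_eq_of_pos (pow_pos Fintype.card_pos n)).symm⟩
    rw [ht, pow_succ, Module.End.mul_apply, hPU u hu, map_zero, map_zero]
  obtain ⟨a, ha, b, hb, hab⟩ : ∃ a ∈ U, ∃ b ∈ C, β a b ≠ 0 := by
    by_contra h
    push Not at h
    have hC0 : C = ⊥ := le_bot_iff.1 fun v hv => (Submodule.mem_bot F).2 (hO v hv fun u hu => h u hu v hv)
    rw [hC0, finrank_bot] at hCd
    omega
  set v := a + b with hv
  have hvv : β v v ≠ 0 := by
    rw [hv, LinearMap.BilinForm.add_left, map_add, map_add, hiso a ha a ha, hisoC b hb b hb, hs b a, zero_add,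
      add_zero, ← two_mul]
    exact mul_ne_zero h2 hab
  have hPv : aeval f P v = 0 := by rw [hv, map_add, hPU a ha, hPC b hb, add_zero]
  let φ : Polynomial F →ₗ[F] V :=
    { toFun := fun R => aeval f R v
      map_add' := fun a b => by simp
      map_smul' := fun c a => by simp }
  have hPm : P.Monic := LinearMap.charpoly_monic _
  have hSinv : Elusive.Inv f (LinearMap.range φ) := by
    rintro _ ⟨R, rfl⟩
    exact ⟨X * R, by simp [φ, Module.End.mul_apply]⟩
  have hSle : LinearMap.range φ ≤ U ⊔ C := by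
    rintro _ ⟨R, rfl⟩
    exact (hU.sup hC).aeval_mem R v (Submodule.add_mem_sup ha hb)
  have hvS : v ∈ LinearMap.range φ := ⟨1, by simp [φ]⟩
  have hSfix : ∀ w ∈ LinearMap.range φ, f w = w → w = 0 := fun w hw => hfixUC w (hSle hw)
  have hSd : finrank F (LinearMap.range φ) = i := by
    have hsub : LinearMap.range φ ≤ (Polynomial.degreeLT F i).map φ := by
      rintro _ ⟨R, rfl⟩
      refine ⟨R %ₘ P, ?_, ?_⟩
      · have hlt := Polynomial.degree_modByMonic_lt R hPm
        rw [Polynomial.degree_eq_natDegree hPm.ne_zero, hPd] at hlt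
        exact Polynomial.mem_degreeLT.2 hlt
      · show aeval f (R %ₘ P) v = aeval f R v
        conv_rhs => rw [← Polynomial.modByMonic_add_div R P]
        rw [mul_comm P, map_add (aeval f), map_mul, LinearMap.add_apply, Module.End.mul_apply, hPv, map_zero, add_zero]
    haveI : FiniteDimensional F (Polynomial.degreeLT F i) := (Polynomial.degreeLTEquiv F i).symm.finiteDimensional
    have h1 : finrank F (LinearMap.range φ) ≤ i :=
      calc finrank F (LinearMap.range φ) ≤ finrank F ((Polynomial.degreeLT F i).map φ) :=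
            Submodule.finrank_mono hsub
        _ ≤ finrank F (Polynomial.degreeLT F i) := Submodule.finrank_map_le φ _
        _ = i := by rw [(Polynomial.degreeLTEquiv F i).finrank_eq, Module.finrank_fin_fun]
    refine le_antisymm h1 (Nat.le_of_dvd (Nat.pos_of_ne_zero fun h0 => ?_) (dvd_of_nofix hr0 hfr hSinv hSfix))
    rw [Submodule.finrank_eq_zero.1 h0, Submodule.mem_bot] at hvS
    rw [hvS, map_zero] at hvv
    exact hvv rfl
  refine ⟨LinearMap.range φ, hSinv, hSfix, ?_, by rw [hSd, cdim, if_pos ⟨n, hn⟩]⟩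
  exact (nd_or_iso hs hf hr0 hfr hSinv hSfix hSd).resolve_right fun h => hvv (h v hvS v hvS)

include hs hN h2 hf hr0 hfr in
/-- The element which agrees with `f` on a least moved subspace and is trivial on its orthogonal space. -/
theorem exists_least (hr2 : r ≠ 2) (hi0 : 0 < orderOf (Fintype.card F : ZMod r)) (hf1 : f ≠ 1) :
    ∃ L : Module.End F V, L ^ r = 1 ∧ (∀ a b, β (L a) (L b) = β a b) ∧
      finrank F (LinearMap.range (L - 1)) = cdim F r := by
  obtain ⟨S, hS, hSfix, hSnd, hSd⟩ := exists_moved_sub hs hN h2 hf hr0 hfr hr2 hi0 hf1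
  have hsep : (β.restrict S).Nondegenerate :=
    ⟨fun a ha => Subtype.ext (hSnd a.1 a.2 fun b hb => ha ⟨b, hb⟩), fun a ha => Subtype.ext
      (hSnd a.1 a.2 fun b hb => (hs a.1 b).trans (ha ⟨b, hb⟩))⟩
  have hcompl : IsCompl S (β.orthogonal S) :=
    LinearMap.BilinForm.isCompl_orthogonal_of_restrict_nondegenerate (fun x y h => (hs y x).trans h) hsep
  have hSO := inv_orthogonal hf hfr hS
  let L : Module.End F V := LinearMap.ofIsCompl hcompl (f.comp S.subtype) (β.orthogonal S).subtype
  have hL : ∀ s ∈ S, ∀ t ∈ β.orthogonal S, L (s + t) = f s + t := fun s hs' t ht => by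
    have e1 : L s = f s := LinearMap.ofIsCompl_apply_left hcompl ⟨s, hs'⟩
    have e2 : L t = t := LinearMap.ofIsCompl_apply_right hcompl ⟨t, ht⟩
    rw [map_add, e1, e2]
  have hdec : ∀ y : V, ∃ s ∈ S, ∃ t ∈ β.orthogonal S, y = s + t := fun y => by
    obtain ⟨s, hs', t, ht, rfl⟩ := Submodule.mem_sup.1 (show y ∈ S ⊔ β.orthogonal S from
      hcompl.sup_eq_top.symm ▸ Submodule.mem_top)
    exact ⟨s, hs', t, ht, rfl⟩
  have hLpow : ∀ (m : ℕ), ∀ s ∈ S, ∀ t ∈ β.orthogonal S, (L ^ m) (s + t) = (f ^ m) s + t ∧ (f ^ m) s ∈ S := by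
    intro m
    induction m with
    | zero => intro s hs' t ht; simpa using hs'
    | succ m ih =>
      intro s hs' t ht
      obtain ⟨e1, e2⟩ := ih s hs' t ht
      rw [pow_succ', pow_succ', Module.End.mul_apply, Module.End.mul_apply, e1, hL _ e2 t ht]
      exact ⟨rfl, hS _ e2⟩
  refine ⟨L, LinearMap.ext fun y => ?_, fun a b => ?_, ?_⟩
  · obtain ⟨s, hs', t, ht, rfl⟩ := hdec y
    rw [(hLpow r s hs' t ht).1, hfr]; rfl
  · obtain ⟨s, hs', t, ht, rfl⟩ := hdec a
    obtain ⟨s', hs'', t', ht', rfl⟩ := hdec b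
    rw [hL s hs' t ht, hL s' hs'' t' ht']
    simp only [map_add, LinearMap.add_apply, hf,
      show β (f s) t' = 0 from ht' _ (hS s hs'), show β s t' = 0 from ht' _ hs',
      show β t (f s') = 0 from (hs _ _).trans (ht _ (hS s' hs'')), show β t s' = 0 from (hs _ _).trans (ht _ hs'')]
  · rw [← hSd]
    have hle : LinearMap.range (L - 1) = S.map (f - 1) := by
      refine le_antisymm ?_ ?_
      · rintro _ ⟨y, rfl⟩
        obtain ⟨s, hs', t, ht, rfl⟩ := hdec y
        refine ⟨s, hs', ?_⟩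
        show f s - s = L (s + t) - (s + t)
        rw [hL s hs' t ht]; abel
      · rintro _ ⟨s, hs', rfl⟩
        refine ⟨s, ?_⟩
        have e1 : L s = f s := by simpa using hL s hs' 0 (Submodule.zero_mem _)
        show L s - s = f s - s
        rw [e1]
    rw [hle]
    refine le_antisymm (Submodule.finrank_map_le _ _) ?_
    refine LinearMap.finrank_le_finrank_of_injective
      (f := (f - 1 : Module.End F V).restrict (p := S) (q := S.map (f - 1)) fun v hv => ⟨v, hv, rfl⟩) ?_
    exact (injective_iff_map_eq_zero _).2 fun v hv =>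
      Subtype.ext (hSfix v.1 v.2 (sub_eq_zero.1 (congrArg Subtype.val hv)))

end Abstract

section Matrix

variable {ι : Type} [Fintype ι] [DecidableEq ι] {Q : QuadraticForm F (ι → F)}
  (hQ : (QuadraticMap.polarBilin Q).Nondegenerate) (h2 : (2 : F) ≠ 0)

theorem mem_iso_of_polar (h2 : (2 : F) ≠ 0) {g : GL ι F}
    (h : ∀ a b, QuadraticMap.polarBilin Q (g.1 *ᵥ a) (g.1 *ᵥ b) = QuadraticMap.polarBilin Q a b) :
    g ∈ isometryGroup F ⇑Q := fun u _ => by
  have e := h u u
  rw [Forms.polarBilin_self, Forms.polarBilin_self] at e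
  exact mul_left_cancel₀ h2 e

theorem polar_of_mem_iso {g : GL ι F} (hg : g ∈ isometryGroup F ⇑Q) (a b : ι → F) :
    QuadraticMap.polarBilin Q (g.1 *ᵥ a) (g.1 *ᵥ b) = QuadraticMap.polarBilin Q a b :=
  QForm.act_polar Q ⟨g, hg⟩ a b

include hQ h2 in
/-- An isometry of odd order lies in `Omega`. -/
theorem mem_omega_of_odd_pow (hn : 2 ≤ Fintype.card ι) {g : GL ι F} (hg : g ∈ isometryGroup F ⇑Q) {r : ℕ}
    (hr : Odd r) (hgr : g ^ r = 1) : g ∈ Geo.omegaGL ⇑Q := by
  set g' : isometryGroup F ⇑Q := ⟨g, hg⟩ with hg'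
  have h4 : g' ^ 4 ∈ Omega F ⇑Q := by
    have := Subgroup.pow_index_mem (Omega F ⇑Q) g'
    rwa [Forms.omega_index_odd Q h2 hQ hn] at this
  have hr' : g' ^ r = 1 := Subtype.ext hgr
  obtain ⟨k, hk⟩ : ∃ k, 4 * k % r = 1 % r := by
    obtain ⟨m, rfl⟩ := hr
    refine ⟨(m + 1) * (m + 1), ?_⟩
    rw [show 4 * ((m + 1) * (m + 1)) = 1 + (2 * m + 1) * (2 * m + 3) by ring, Nat.add_mul_mod_self_left]
  have he : g' = (g' ^ 4) ^ k := by
    rw [← pow_mul]
    exact (pow_one g').symm.trans (pow_eq_pow_of_modEq (n := r) hk.symm hr')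
  exact ⟨g', he ▸ pow_mem h4 k, rfl⟩

include hQ h2 in
/-- An element of order `r` moving a space of dimension `cdim`. -/
theorem exists_omega_rank (p : ℕ) [Fact p.Prime] [CharP F p] {r : ℕ} [hr : Fact r.Prime] (hne : r ≠ p)
    (hr2 : r ≠ 2) (hdvd : r ∣ Nat.card (Geo.omegaGL ⇑Q)) (hn : 2 ≤ Fintype.card ι) :
    ∃ x ∈ Geo.omegaGL ⇑Q, x ^ r = 1 ∧ (x.1 - 1).rank = cdim F r := by
  haveI : Finite (GL ι F) := inferInstance
  obtain ⟨x₀, hx₀⟩ := exists_prime_orderOf_dvd_card' r hdvd
  have hxr : x₀ ^ r = 1 := hx₀ ▸ pow_orderOf_eq_one x₀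
  have hx1 : x₀ ≠ 1 := fun h => hr.out.one_lt.ne (by rw [← hx₀, h, orderOf_one])
  have hiso : (x₀ : GL ι F) ∈ isometryGroup F ⇑Q := MaxCl.Orth.omega_le_iso x₀.2
  set f : Module.End F (ι → F) := Matrix.toLin' (x₀ : GL ι F).1 with hf
  have hfr : f ^ r = 1 := by
    rw [hf, ← Matrix.toLin'_pow, ← Units.val_pow_eq_pow_val, show (x₀ : GL ι F) ^ r = 1 from congrArg Subtype.val hxr,
      Units.val_one, Matrix.toLin'_one]; rfl
  have hf1 : f ≠ 1 := fun h => hx1 (Subtype.ext (Units.ext (Matrix.toLin'.injective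
    (h.trans Matrix.toLin'_one.symm))))
  obtain ⟨L, hLr, hL, hrk⟩ := exists_least (β := QuadraticMap.polarBilin Q) (fun a b => Forms.polarBilin_swap b a)
    hQ h2 (f := f) (fun a b => by
      rw [hf, Matrix.toLin'_apply, Matrix.toLin'_apply]; exact polar_of_mem_iso hiso a b)
    (cast_ne_zero_of_ne p hr.out hne) hfr hr2 (order_pos p hne) hf1
  have hLM : (LinearMap.toMatrix' L) ^ r = 1 := by
    show (LinearMap.toMatrixAlgEquiv' L) ^ r = 1
    rw [← map_pow, hLr, map_one]
  let x : GL ι F := Units.ofPowEqOne _ r hLM hr.out.ne_zero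
  have hxx : x ^ r = 1 := Units.pow_ofPowEqOne hLM hr.out.ne_zero
  refine ⟨x, mem_omega_of_odd_pow hQ h2 hn (mem_iso_of_polar h2 fun a b => ?_) (hr.out.odd_of_ne_two hr2) hxx,
    hxx, ?_⟩
  · show QuadraticMap.polarBilin Q (LinearMap.toMatrix' L *ᵥ a) (LinearMap.toMatrix' L *ᵥ b) = _
    rw [← Matrix.toLin'_apply, ← Matrix.toLin'_apply, Matrix.toLin'_toMatrix']
    exact hL a b
  · show (LinearMap.toMatrix' L - 1).rank = _
    rw [rank_eq_finrank, map_sub, Matrix.toLin'_toMatrix', Matrix.toLin'_one, ← hrk]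
    rfl

include hQ in
/-- A long root element. -/
theorem exists_root_elt (p : ℕ) [Fact p.Prime] [CharP F p] (hn : 5 ≤ Fintype.card ι) :
    ∃ x ∈ Geo.omegaGL ⇑Q, x ^ p = 1 ∧ (x.1 - 1) * (x.1 - 1) = 0 ∧ 0 < (x.1 - 1).rank ∧ (x.1 - 1).rank ≤ 2 := by
  classical
  obtain ⟨u, v, u', v', hu, hv, hu', hv', huv, huv', huu', -, hvu', -⟩ := MaxCl.Orth.exists_two_pairs hQ hn
  set x := MaxCl.Orth.sg Q u u' with hx
  have hact : ∀ y, x.1 *ᵥ y - y = QuadraticMap.polar Q u y • u' - QuadraticMap.polar Q u' y • u := fun y => by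
    have := MaxCl.Orth.act_sg Q hu huu' y
    rw [MaxCl.act_apply] at this
    rw [this, hu', zero_mul, add_zero]
    abel
  have hpow : ∀ k : ℕ, x ^ k = MaxCl.Orth.sg Q u ((k : F) • u') := fun k => by
    induction k with
    | zero => simp [MaxCl.Orth.sg_zero]
    | succ k ih =>
      rw [pow_succ, ih, hx, MaxCl.Orth.sg_add Q hu (by rw [MaxCl.Orth.B_smul_right Q, huu', mul_zero]) huu',
        Nat.cast_succ, add_smul, one_smul]
  have hrange : LinearMap.range (Matrix.toLin' (x.1 - 1)) ≤ Submodule.span F (Set.range ![u, u']) := by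
    rintro _ ⟨y, rfl⟩
    rw [Matrix.toLin'_apply, Matrix.sub_mulVec, Matrix.one_mulVec, hact]
    exact Submodule.sub_mem _ (Submodule.smul_mem _ _ (Submodule.subset_span ⟨1, rfl⟩))
      (Submodule.smul_mem _ _ (Submodule.subset_span ⟨0, rfl⟩))
  refine ⟨x, MaxCl.Orth.sg_mem_omega hQ hn u u', ?_, ?_, ?_, ?_⟩
  · rw [hpow, CharP.cast_eq_zero, zero_smul, MaxCl.Orth.sg_zero]
  · refine Matrix.ext_iff_mulVec.2 fun y => ?_
    rw [← Matrix.mulVec_mulVec, Matrix.zero_mulVec]
    simp only [Matrix.sub_mulVec, Matrix.one_mulVec]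
    rw [hact, hact, MaxCl.Orth.B_sub_right Q, MaxCl.Orth.B_sub_right Q, MaxCl.Orth.B_smul_right Q,
      MaxCl.Orth.B_smul_right Q, MaxCl.Orth.B_smul_right Q, MaxCl.Orth.B_smul_right Q,
      MaxCl.Orth.B_self_of_singular Q hu, MaxCl.Orth.B_self_of_singular Q hu', huu',
      MaxCl.Orth.B_comm Q u' u, huu']
    simp
  · rw [rank_eq_finrank]
    refine Nat.pos_of_ne_zero fun h0 => ?_
    rw [Submodule.finrank_eq_zero, LinearMap.range_eq_bot] at h0
    have := LinearMap.congr_fun h0 v
    rw [Matrix.toLin'_apply, Matrix.sub_mulVec, Matrix.one_mulVec, hact, huv,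
      MaxCl.Orth.B_comm Q u' v, hvu', one_smul, zero_smul, sub_zero] at this
    rw [this] at huv'
    simp [MaxCl.Orth.B_zero_left] at huv'
  · rw [rank_eq_finrank]
    exact (Submodule.finrank_mono hrange).trans (MaxCl.Orth.finrank_span_list_le _)

end Matrix

end Cfsg.Agent.Elusive.ExtField.Orth
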