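import Cfsg.Agent.Lib.Elusive.ExtField.OrthElements

/-!
A quadratic field of self-adjoint maps for a quadratic form: generators, the normaliser, and elements of the
centraliser of prime order.
-/

set_option autoImplicit false
set_option linter.unusedSectionVars false
set_option linter.style.haveILetI false

open scoped Matrix MatrixGroups

namespace Cfsg.Agent.Elusive.ExtField.Orth

open Module (finrank)
open Polynomial (aeval X)

variable {F : Type*} [Field F] [Fintype F] {ι : Type} [Fintype ι] [DecidableEq ι]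
  {K : Subalgebra F (Matrix ι ι F)} {Q : QuadraticForm F (ι → F)}

local notation "𝕄" => Matrix ι ι F
local notation "𝕍" => ι → F

/-- A self-adjoint generator of `K` with non-square square. -/
structure SymGen (Q : QuadraticForm F (ι → F)) (K : Subalgebra F (Matrix ι ι F)) (ε : Matrix ι ι F) (δ : F) :
    Prop where
  mem : ε ∈ K
  sq : ε * ε = δ • (1 : Matrix ι ι F)
  nonsq : ¬ IsSquare δ
  self : ∀ a b, QuadraticMap.polarBilin Q (ε *ᵥ a) b = QuadraticMap.polarBilin Q a (ε *ᵥ b)
  span : ∀ a ∈ K, ∃ s t : F, a = s • (1 : Matrix ι ι F) + t • ε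

variable {ε : Matrix ι ι F} {δ : F}

theorem SymGen.delta_ne (h : SymGen Q K ε δ) : δ ≠ 0 := fun h0 => h.nonsq (h0 ▸ IsSquare.zero)

theorem SymGen.eps_pow (h : SymGen Q K ε δ) (h2 : (2 : F) ≠ 0) : ε ^ Fintype.card F = -ε := by
  have hchar : ringChar F ≠ 2 := fun hc => h2 (by
    have := ringChar.Nat.cast_ringChar (R := F); rw [hc] at this; exact_mod_cast this)
  have hhalf : δ ^ (Fintype.card F / 2) = -1 := (FiniteField.pow_dichotomy hchar h.delta_ne).resolve_left
    fun h1 => h.nonsq ((FiniteField.isSquare_iff hchar h.delta_ne).2 h1)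
  have hodd : Fintype.card F % 2 = 1 := FiniteField.odd_card_of_char_ne_two hchar
  conv_lhs => rw [show Fintype.card F = 2 * (Fintype.card F / 2) + 1 by omega]
  rw [pow_succ, pow_mul, pow_two, h.sq, smul_pow, one_pow, hhalf, neg_one_smul, neg_mul, one_mul]

theorem SymGen.eps_pow_iter (h : SymGen Q K ε δ) (h2 : (2 : F) ≠ 0) :
    ∀ n, ε ^ Fintype.card F ^ n = (-1 : F) ^ n • ε := by
  intro n
  induction n with
  | zero => simp
  | succ n ih =>
    rw [pow_succ, pow_mul, ih, smul_pow, h.eps_pow h2, smul_neg, ← neg_smul, ← pow_mul, mul_comm n, pow_mul,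
      FiniteField.pow_card, pow_succ, mul_neg_one]

theorem exists_symGen [Nonempty ι] (h2 : (2 : F) ≠ 0) (hK : Geo.IsFieldSubalgebra 2 K)
    (hKf : ∀ a ∈ K, ∀ u v, QuadraticMap.polarBilin Q (a *ᵥ u) v = QuadraticMap.polarBilin Q u (a *ᵥ v)) :
    ∃ ε δ, SymGen Q K ε δ := by
  classical
  obtain ⟨a, ha, hns⟩ : ∃ a ∈ K, ∀ s : F, a ≠ s • (1 : 𝕄) := by
    by_contra h
    push Not at h
    have hle : K ≤ ⊥ := fun a ha => by
      obtain ⟨s, hs⟩ := h a ha
      exact Algebra.mem_bot.2 ⟨s, (Algebra.algebraMap_eq_smul_one s).trans hs.symm⟩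
    have := hK.finrank_eq
    rw [eq_bot_iff.2 hle, Subalgebra.finrank_bot] at this
    omega
  let L : (F × F) →ₗ[F] K :=
    (LinearMap.toSpanSingleton F K 1).coprod (LinearMap.toSpanSingleton F K ⟨a, ha⟩)
  have hL : ∀ s t : F, (L (s, t) : 𝕄) = s • (1 : 𝕄) + t • a := fun s t => by simp [L]
  have hinj : Function.Injective L := by
    rw [injective_iff_map_eq_zero]
    rintro ⟨s, t⟩ hst
    have h0 : s • (1 : 𝕄) + t • a = 0 := by rw [← hL, hst]; rfl
    by_cases ht : t = 0
    · rw [ht, zero_smul, add_zero, smul_eq_zero] at h0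
      exact Prod.ext (h0.resolve_right one_ne_zero) ht
    · refine absurd ?_ (hns (-(s / t)))
      have h1 : t • a = -(s • (1 : 𝕄)) := eq_neg_of_add_eq_zero_right h0
      calc a = t⁻¹ • (t • a) := by rw [smul_smul, inv_mul_cancel₀ ht, one_smul]
        _ = _ := by rw [h1, smul_neg, smul_smul, neg_smul, inv_mul_eq_div]
  have hsurj : Function.Surjective L := (LinearMap.injective_iff_surjective_of_finrank_eq_finrank (by
    rw [Module.finrank_prod, Module.finrank_self, hK.finrank_eq])).1 hinj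
  obtain ⟨⟨s, t⟩, hst⟩ := hsurj ⟨a * a, K.mul_mem ha ha⟩
  have haa : a * a = s • (1 : 𝕄) + t • a := by rw [← hL, hst]
  set ε := a - (t / 2) • (1 : 𝕄) with hε
  set δ := s + t / 2 * (t / 2) with hδ
  have hεK : ε ∈ K := K.sub_mem ha (K.smul_mem K.one_mem _)
  have hsq : ε * ε = δ • (1 : 𝕄) := by
    simp only [hε, sub_mul, mul_sub, haa, Algebra.mul_smul_comm, Algebra.smul_mul_assoc, mul_one, one_mul,
      smul_smul]
    have : t = t / 2 + t / 2 := by field_simp; ring
    conv_lhs => arg 1; arg 1; arg 2; rw [this, add_smul]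
    rw [hδ, add_smul]
    module
  have hscal : ∀ w : F, ε ≠ w • (1 : 𝕄) := fun w hw => hns (w + t / 2) (by
    rw [add_smul, ← hw, hε, sub_add_cancel])
  refine ⟨ε, δ, hεK, hsq, ?_, hKf ε hεK, fun b hb => ?_⟩
  · rintro ⟨w, hw⟩
    letI : Field K := (isField hK two_pos).toField
    set e : K := ⟨ε, hεK⟩
    have hfac : (e - w • (1 : K)) * (e + w • (1 : K)) = 0 := by
      refine Subtype.ext ?_
      show (ε - w • (1 : 𝕄)) * (ε + w • (1 : 𝕄)) = 0
      simp only [sub_mul, mul_add, hsq, hw, Algebra.mul_smul_comm, Algebra.smul_mul_assoc, mul_one, one_mul,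
        smul_add, smul_smul]
      module
    rcases mul_eq_zero.1 hfac with h | h
    · refine hscal w ?_
      rw [sub_eq_zero] at h
      exact congrArg Subtype.val h
    · refine hscal (-w) ?_
      rw [add_eq_zero_iff_eq_neg] at h
      rw [neg_smul]
      exact congrArg Subtype.val h
  · obtain ⟨⟨s', t'⟩, h'⟩ := hsurj ⟨b, hb⟩
    refine ⟨s' + t' * (t / 2), t', ?_⟩
    have hb' : b = s' • (1 : 𝕄) + t' • a := by rw [← hL, h']
    rw [hb', hε, smul_sub, smul_smul, add_smul]
    abel

/-- An element commuting or anticommuting with `ε` normalises `K`. -/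
theorem SymGen.mem_normalizer (h : SymGen Q K ε δ) (g : GL ι F) (σ : F)
    (hσ : σ = 1 ∨ σ = -1) (hg : g.1 * ε = σ • (ε * g.1)) : g ∈ Geo.subalgebraNormalizer K := by
  have hconj : g.1 * ε * (g⁻¹ : GL ι F).1 = σ • ε := by
    rw [hg, Algebra.smul_mul_assoc, mul_assoc, Units.mul_inv, mul_one]
  have hconj' : (g⁻¹ : GL ι F).1 * ε * g.1 = σ • ε := by
    have hσ2 : σ * σ = 1 := by rcases hσ with rfl | rfl <;> simp
    have e : ε * g.1 = σ • (g.1 * ε) := by rw [hg, smul_smul, hσ2, one_smul]
    rw [mul_assoc, e, Algebra.mul_smul_comm, ← mul_assoc, Units.inv_mul, one_mul]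
  refine mem_normalizer_of_conj g (fun a ha => ?_) (fun a ha => ?_)
  · obtain ⟨s, t, rfl⟩ := h.span a ha
    simp only [mul_add, add_mul, Algebra.mul_smul_comm, Algebra.smul_mul_assoc, mul_one, hconj, Units.mul_inv]
    exact K.add_mem (K.smul_mem K.one_mem s) (K.smul_mem (K.smul_mem h.mem σ) t)
  · obtain ⟨s, t, rfl⟩ := h.span a ha
    simp only [mul_add, add_mul, Algebra.mul_smul_comm, Algebra.smul_mul_assoc, mul_one, hconj', Units.inv_mul]
    exact K.add_mem (K.smul_mem K.one_mem s) (K.smul_mem (K.smul_mem h.mem σ) t)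

/-- A root element does not commute with `K`. -/
theorem SymGen.no_commute_root (h : SymGen Q K ε δ) (hQ : (QuadraticMap.polarBilin Q).Nondegenerate)
    (h2 : (2 : F) ≠ 0) (hK : Geo.IsFieldSubalgebra 2 K)
    {y : GL ι F} (hy : y ∈ isometryGroup F ⇑Q)
    (hN : (y.1 - 1) * (y.1 - 1) = 0) (h0 : 0 < (y.1 - 1).rank) (hr : (y.1 - 1).rank ≤ 2)
    (hcomm : ∀ a ∈ K, y.1 * a = a * y.1) : False := by
  classical
  set B := QuadraticMap.polarBilin Q with hBdef
  set N := y.1 - 1 with hNdef
  have hcN : ∀ a ∈ K, N * a = a * N := fun a ha => by rw [hNdef, sub_mul, mul_sub, hcomm a ha, one_mul, mul_one]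
  have hyN : ∀ a, y.1 *ᵥ a = a + N *ᵥ a := fun a => by
    rw [hNdef, Matrix.sub_mulVec, Matrix.one_mulVec]; abel
  have hNN : ∀ a, N *ᵥ (N *ᵥ a) = 0 := fun a => by rw [Matrix.mulVec_mulVec, hN, Matrix.zero_mulVec]
  -- the nilpotent part is skew
  have hiso : ∀ a b, B (N *ᵥ a) b + B a (N *ᵥ b) + B (N *ᵥ a) (N *ᵥ b) = 0 := fun a b => by
    have e := polar_of_mem_iso hy a b
    rw [← hBdef, hyN, hyN] at e
    simp only [map_add, LinearMap.add_apply] at e
    linear_combination e
  have hskew : ∀ a b, B (N *ᵥ a) b + B a (N *ᵥ b) = 0 := fun a b => by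
    have e1 := hiso a b
    have e2 := hiso a (N *ᵥ b)
    rw [hNN, map_zero, map_zero, add_zero, add_zero] at e2
    linear_combination e1 - e2
  set W := LinearMap.range (Matrix.toLin' N) with hW
  have hWd : finrank F W ≤ 2 := hr
  have hWne : W ≠ ⊥ := fun e => by rw [rank_eq_finrank, ← hW, e, finrank_bot] at h0; omega
  obtain ⟨w, hwW, hw0⟩ := Submodule.exists_mem_ne_zero_of_ne_bot hWne
  -- `W = K w`
  have hWK : ∀ a, ∃ c : K, N *ᵥ a = (c : 𝕄) *ᵥ w := fun a => by
    have hle : LinearMap.range (Aschbacher.evalAt K w) ≤ W := by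
      rintro _ ⟨c, rfl⟩
      exact kinv_range hcN c c.2 w hwW
    have hd : finrank F (LinearMap.range (Aschbacher.evalAt K w)) = 2 := by
      rw [LinearMap.finrank_range_of_inj (Aschbacher.evalAt_injective hK hw0), hK.finrank_eq]
    have := Submodule.eq_of_le_of_finrank_le hle (by omega)
    obtain ⟨c, hc⟩ : N *ᵥ a ∈ LinearMap.range (Aschbacher.evalAt K w) := this ▸ ⟨a, rfl⟩
    exact ⟨c, hc.symm⟩
  choose lam hlam using hWK
  have hKf : ∀ a ∈ K, ∀ u v, B (a *ᵥ u) v = B u (a *ᵥ v) := fun a ha u v => by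
    obtain ⟨s, t, rfl⟩ := h.span a ha
    simp only [Matrix.add_mulVec, Matrix.smul_mulVec, Matrix.one_mulVec, map_add, map_smul, LinearMap.add_apply,
      LinearMap.smul_apply, hBdef, h.self]
  -- the functional `c ↦ B (c w) a` vanishes when `lam a ≠ 0`
  have key : ∀ a, N *ᵥ a ≠ 0 → ∀ c ∈ K, B (c *ᵥ w) a = 0 := by
    intro a ha c hc
    have hsq : ∀ k ∈ K, B (((k * k) * (lam a : 𝕄)) *ᵥ w) a = 0 := fun k hk => by
      have e := hskew (k *ᵥ a) (k *ᵥ a)
      rw [Forms.polarBilin_swap (N *ᵥ (k *ᵥ a)) (k *ᵥ a), ← two_mul] at e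
      have e1 := (mul_eq_zero.1 e).resolve_left h2
      rw [Matrix.mulVec_mulVec, hcN k hk, ← Matrix.mulVec_mulVec, hlam, Matrix.mulVec_mulVec,
        ← hKf k hk, Matrix.mulVec_mulVec, ← mul_assoc] at e1
      exact e1
    have h1 := hsq 1 K.one_mem
    have h2' := hsq _ (K.add_mem K.one_mem h.mem)
    have he : B ((ε * (lam a : 𝕄)) *ᵥ w) a = 0 := by
      rw [one_mul, one_mul] at h1
      simp only [add_mul, mul_add, one_mul, mul_one, h.sq, Algebra.smul_mul_assoc, Matrix.add_mulVec,
        Matrix.smul_mulVec, map_add, map_smul, LinearMap.add_apply, LinearMap.smul_apply, h1, smul_zero,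
        zero_add, add_zero, ← two_mul] at h2'
      exact (mul_eq_zero.1 (by linear_combination h2' : (2 : F) * B ((ε * (lam a : 𝕄)) *ᵥ w) a = 0)).resolve_left h2
    have hl0 : (lam a : 𝕄) ≠ 0 := fun e => ha (by rw [hlam, e, Matrix.zero_mulVec])
    obtain ⟨b, hb, hab⟩ := hK.inv _ (lam a).2 hl0
    obtain ⟨s, t, hst⟩ := h.span (c * b) (K.mul_mem hc hb)
    have hc' : c = (s • (1 : 𝕄) + t • ε) * (lam a : 𝕄) := by
      rw [← hst, mul_assoc, hK.comm b hb _ (lam a).2, hab, mul_one]
    rw [one_mul, one_mul] at h1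
    simp only [hc', add_mul, Algebra.smul_mul_assoc, one_mul, Matrix.add_mulVec, Matrix.smul_mulVec, map_add,
      map_smul, LinearMap.add_apply, LinearMap.smul_apply, h1, he, smul_zero, add_zero]
  obtain ⟨a₁, ha₁⟩ : ∃ a, N *ᵥ a ≠ 0 := by
    obtain ⟨a, ha⟩ := hwW
    exact ⟨a, fun e => hw0 (by rw [← ha, Matrix.toLin'_apply, e])⟩
  obtain ⟨a₂, ha₂⟩ : ∃ a, B w a ≠ 0 := by
    by_contra hh
    push Not at hh
    exact hw0 (hQ.1 w hh)
  have e1 := key a₁ ha₁ 1 K.one_mem
  rw [Matrix.one_mulVec] at e1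
  have e2 : N *ᵥ a₂ = 0 := by
    by_contra hh
    exact ha₂ (by simpa using key a₂ hh 1 K.one_mem)
  have e3 := key (a₁ + a₂) (by rw [Matrix.mulVec_add, e2, add_zero]; exact ha₁) 1 K.one_mem
  rw [Matrix.one_mulVec, map_add, e1, zero_add] at e3
  exact ha₂ e3

set_option maxHeartbeats 800000 in
/-- No element commuting with `ε` has the least moved dimension unless `4` divides the order of `q` mod `r`. -/
theorem SymGen.no_commute (h : SymGen Q K ε δ) (hQ : (QuadraticMap.polarBilin Q).Nondegenerate) (h2 : (2 : F) ≠ 0)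
    (p : ℕ) [Fact p.Prime] [CharP F p] {r : ℕ} [hr : Fact r.Prime] (hne : r ≠ p) (hr2 : r ≠ 2)
    (hbad : ¬ 4 ∣ orderOf (Fintype.card F : ZMod r)) {y : GL ι F} (hy : y ∈ isometryGroup F ⇑Q) (hyr : y ^ r = 1)
    (hc : (y.1 - 1).rank = cdim F r) (hcomm : y.1 * ε = ε * y.1) : False := by
  classical
  set B := QuadraticMap.polarBilin Q with hBdef
  set q := Fintype.card F with hq
  set i := orderOf (q : ZMod r) with hi
  have hi0 : 0 < i := order_pos p hne
  have hr0 : (r : F) ≠ 0 := cast_ne_zero_of_ne p hr.out hne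
  have hrodd : Odd r := hr.out.odd_of_ne_two hr2
  have hxr : y.1 ^ r = 1 := by rw [← Units.val_pow_eq_pow_val, hyr, Units.val_one]
  set W := moved y.1 with hW
  have hWd : finrank F W = if Even i then i else 2 * i := hc
  set f : Module.End F 𝕍 := Matrix.toLin' y.1 with hfdef
  have hWinv : Elusive.Inv f W := moved_inv _
  have hεW : ∀ w ∈ W, ε *ᵥ w ∈ W := by
    rintro _ ⟨w, rfl⟩
    refine ⟨ε *ᵥ w, ?_⟩
    simp only [Matrix.toLin'_apply, Matrix.mulVec_mulVec, Matrix.sub_mul, Matrix.mul_sub, one_mul, mul_one, hcomm]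
  have hB : ∀ a b, B (y.1 *ᵥ a) (y.1 *ᵥ b) = B a b := polar_of_mem_iso hy
  have hnd := moved_nondeg hr0 B hQ.1 hxr hB
  have hε0 : ∀ b, ε *ᵥ b = 0 → b = 0 := fun b hb => by
    have : δ • b = 0 := by rw [← Matrix.one_mulVec b, ← Matrix.smul_mulVec, ← h.sq, ← Matrix.mulVec_mulVec, hb, Matrix.mulVec_zero]
    exact (smul_eq_zero.1 this).resolve_left h.delta_ne
  have hWne : W ≠ ⊥ := fun e => by
    rw [e, finrank_bot] at hWd; split at hWd <;> omega
  have hdvd : ∀ S : Submodule F 𝕍, Elusive.Inv f S → S ≤ W → i ∣ finrank F S :=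
    fun S hS hle => dvd_of_le_moved hr0 hxr hS hle
  by_cases hev : Even i
  · -- `ε` is a polynomial in `y` on `W`, hence anti-self-adjoint there
    rw [if_pos hev] at hWd
    obtain ⟨n, hn⟩ := hev
    have hnodd : Odd n := by
      rw [Nat.odd_iff]
      by_contra hh
      exact hbad ⟨n / 2, by omega⟩
    obtain ⟨v, hvW, hv0⟩ := Submodule.exists_mem_ne_zero_of_ne_bot hWne
    let φ : Polynomial F →ₗ[F] 𝕍 :=
      { toFun := fun P => aeval y.1 P *ᵥ v
        map_add' := fun a b => by rw [map_add, Matrix.add_mulVec]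
        map_smul' := fun c a => by rw [map_smul, Matrix.smul_mulVec, RingHom.id_apply] }
    have hSinv : Elusive.Inv f (LinearMap.range φ) := by
      rintro _ ⟨P, rfl⟩
      refine ⟨X * P, ?_⟩
      show aeval y.1 (X * P) *ᵥ v = Matrix.toLin' y.1 (aeval y.1 P *ᵥ v)
      rw [map_mul, Polynomial.aeval_X, Matrix.toLin'_apply, Matrix.mulVec_mulVec]
    have hpolyW : ∀ (P : Polynomial F), ∀ w ∈ W, aeval y.1 P *ᵥ w ∈ W := by
      intro P w hw
      have := hWinv.aeval_mem P w hw
      rwa [hfdef, show aeval (Matrix.toLin' y.1 : Module.End F 𝕍) P = Matrix.toLin' (aeval y.1 P) from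
        (Polynomial.aeval_algHom_apply (Matrix.toLinAlgEquiv' : 𝕄 ≃ₐ[F] Module.End F 𝕍).toAlgHom y.1 P),
        Matrix.toLin'_apply] at this
    have hSW : LinearMap.range φ = W := by
      refine Submodule.eq_of_le_of_finrank_le ?_ ?_
      · rintro _ ⟨P, rfl⟩; exact hpolyW P v hvW
      · have hpos : 0 < finrank F (LinearMap.range φ) := Nat.pos_of_ne_zero fun h0 => hv0 (by
          have hmem : φ 1 ∈ LinearMap.range φ := ⟨1, rfl⟩
          rw [Submodule.finrank_eq_zero.1 h0, Submodule.mem_bot] at hmem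
          simpa [φ] using hmem)
        rw [hWd]
        exact Nat.le_of_dvd hpos (hdvd _ hSinv (by rintro _ ⟨P, rfl⟩; exact hpolyW P v hvW))
    obtain ⟨P, hP⟩ : ε *ᵥ v ∈ LinearMap.range φ := hSW ▸ hεW v hvW
    replace hP : aeval y.1 P *ᵥ v = ε *ᵥ v := hP
    have hεP : ∀ w ∈ W, ε *ᵥ w = aeval y.1 P *ᵥ w := fun w hw => by
      obtain ⟨R, rfl⟩ : w ∈ LinearMap.range φ := hSW.symm ▸ hw
      show ε *ᵥ (aeval y.1 R *ᵥ v) = aeval y.1 P *ᵥ (aeval y.1 R *ᵥ v)
      have hc1 : ε * aeval y.1 R = aeval y.1 R * ε :=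
        (Algebra.commute_of_mem_adjoin_singleton_of_commute (Polynomial.aeval_mem_adjoin_singleton F y.1)
          (show Commute ε y.1 from hcomm.symm)).eq
      rw [Matrix.mulVec_mulVec, hc1, ← Matrix.mulVec_mulVec, ← hP, Matrix.mulVec_mulVec, Matrix.mulVec_mulVec,
        ← map_mul, ← map_mul, mul_comm]
    -- the adjoint of a polynomial in `y`
    set z := y.1 ^ q ^ n with hz
    have hrn : r ∣ q ^ n + 1 := by
      have h1 : ((q : ZMod r) ^ n) * ((q : ZMod r) ^ n) = 1 := by rw [← pow_add, ← hn, hi, pow_orderOf_eq_one]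
      rcases mul_self_eq_one_iff.1 h1 with h1 | h1
      · exact absurd (Nat.le_of_dvd (by omega) (orderOf_dvd_of_pow_eq_one h1)) (by omega)
      · rw [← ZMod.natCast_eq_zero_iff, Nat.cast_add, Nat.cast_pow, h1, Nat.cast_one, neg_add_cancel]
    have hyz : y.1 * z = 1 := by
      obtain ⟨t, ht⟩ := hrn
      rw [hz, ← pow_succ', ht, pow_mul, hxr, one_pow]
    have hzadj : ∀ a b, B (y.1 *ᵥ a) b = B a (z *ᵥ b) := fun a b => by
      conv_lhs => arg 2; rw [← Matrix.one_mulVec b, ← hyz, ← Matrix.mulVec_mulVec]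
      rw [hB]
    have hPadj : ∀ (P : Polynomial F) a b, B (aeval y.1 P *ᵥ a) b = B a (aeval z P *ᵥ b) := by
      intro P
      induction P using Polynomial.induction_on' with
      | add P Q ihP ihQ => intro a b; simp only [map_add, Matrix.add_mulVec, LinearMap.add_apply, ihP, ihQ]
      | monomial m c =>
        intro a b
        rw [Polynomial.aeval_monomial, Polynomial.aeval_monomial, Algebra.algebraMap_eq_smul_one, smul_mul_assoc,
          smul_mul_assoc, one_mul, one_mul, Matrix.smul_mulVec, Matrix.smul_mulVec, map_smul, LinearMap.smul_apply,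
          map_smul]
        congr 1
        induction m generalizing b with
        | zero => simp
        | succ m ih =>
          rw [pow_succ', pow_succ, ← Matrix.mulVec_mulVec, hzadj, ih, Matrix.mulVec_mulVec]
    have hpowW : ∀ (m : ℕ), ∀ w ∈ W, aeval y.1 P ^ m *ᵥ w = ε ^ m *ᵥ w ∧ ε ^ m *ᵥ w ∈ W := by
      intro m
      induction m with
      | zero => intro w hw; simpa using hw
      | succ m ih =>
        intro w hw
        have h1 := ih (ε *ᵥ w) (hεW w hw)
        rw [pow_succ, pow_succ, ← Matrix.mulVec_mulVec, ← Matrix.mulVec_mulVec, ← hεP w hw]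
        exact h1
    have hpowc : ∀ m : ℕ, aeval (y.1 ^ q ^ m) P = aeval y.1 P ^ q ^ m := fun m => by
      induction m with
      | zero => simp
      | succ m ih =>
        rw [pow_succ, pow_mul, pow_mul, ← Polynomial.expand_aeval, hq, FiniteField.expand_card, map_pow, ← hq, ih]
    have hanti : ∀ a ∈ W, ∀ b ∈ W, B (ε *ᵥ a) b = -B a (ε *ᵥ b) := fun a ha b hb => by
      rw [hεP a ha, hPadj, hz, hpowc, (hpowW _ b hb).1, hq, h.eps_pow_iter h2, hnodd.neg_one_pow, neg_one_smul,
        Matrix.neg_mulVec, map_neg]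
    refine hv0 (hε0 v (hnd _ (hεW v hvW) fun b hb => ?_))
    have h1 := hanti v hvW b hb
    have h3 := h.self v b
    have h4 : (2 : F) * B (ε *ᵥ v) b = 0 := by rw [hBdef] at h1 ⊢; linear_combination h1 + h3
    exact (mul_eq_zero.1 h4).resolve_left h2
  · -- an odd dimensional block
    rw [if_neg hev] at hWd
    have hiodd : Odd i := Nat.not_even_iff_odd.1 hev
    obtain ⟨U, hUW, hUinv, hUd⟩ := Elusive.exists_block (Elusive.factorDeg_geom hr0) hWinv
      (fun v hv => moved_ann hxr v hv) hWne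
    replace hUd : finrank F U = i := hUd
    set εl : 𝕍 →ₗ[F] 𝕍 := Matrix.toLin' ε with hεl
    set U' := U.map εl with hU'
    have hεinj : Function.Injective εl := (injective_iff_map_eq_zero _).2 fun b hb =>
      hε0 b (by simpa [hεl] using hb)
    have hU'inv : Elusive.Inv f U' := by
      rintro _ ⟨w, hw, rfl⟩
      refine ⟨f w, hUinv w hw, ?_⟩
      simp only [hεl, hfdef, Matrix.toLin'_apply, Matrix.mulVec_mulVec, hcomm]
    have hU'W : U' ≤ W := by
      rintro _ ⟨w, hw, rfl⟩
      rw [hεl, Matrix.toLin'_apply]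
      exact hεW w (hUW hw)
    have hU'd : finrank F U' = i := by
      rw [hU', ← (Submodule.equivMapOfInjective εl hεinj U).finrank_eq, hUd]
    haveI : Nontrivial U := Module.nontrivial_of_finrank_pos (R := F) (by rw [hUd]; exact hi0)
    by_cases hUU : U' = U
    · -- `ε` is a square root of `δ` in odd dimension
      have hmem : ∀ w ∈ U, εl w ∈ U := fun w hw => by
        have : εl w ∈ U' := Submodule.mem_map_of_mem hw
        rwa [hUU] at this
      set e : Module.End F U := εl.restrict hmem with he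
      have hee : e * e = δ • 1 := LinearMap.ext fun w => Subtype.ext (by
        show εl (εl w.1) = δ • w.1
        rw [hεl, Matrix.toLin'_apply, Matrix.toLin'_apply, Matrix.mulVec_mulVec, h.sq, Matrix.smul_mulVec,
          Matrix.one_mulVec])
      have hdet := congrArg LinearMap.det hee
      rw [map_mul, LinearMap.det_smul, map_one, mul_one, hUd] at hdet
      obtain ⟨m, hm⟩ := hiodd
      refine h.nonsq ⟨LinearMap.det e / δ ^ m, ?_⟩
      rw [div_mul_div_comm, hdet, hm, ← pow_add, ← two_mul, eq_div_iff (pow_ne_zero _ h.delta_ne), ← pow_succ']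
    · have hinf : U ⊓ U' = ⊥ := by
        by_contra hne'
        have hd1 := hdvd _ (hUinv.inf hU'inv) (inf_le_left.trans hUW)
        have hle := Submodule.finrank_mono (inf_le_left : U ⊓ U' ≤ U)
        have hpos : 0 < finrank F ↥(U ⊓ U') :=
          Nat.pos_of_ne_zero fun h0 => hne' (Submodule.finrank_eq_zero.1 h0)
        have heq := Submodule.eq_of_le_of_finrank_eq (inf_le_left : U ⊓ U' ≤ U)
          (le_antisymm hle (hUd ▸ Nat.le_of_dvd hpos hd1))
        exact hUU (Submodule.eq_of_le_of_finrank_eq (inf_eq_left.1 heq) (hUd.trans hU'd.symm)).symm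
      have hsup : U ⊔ U' = W := by
        refine Submodule.eq_of_le_of_finrank_eq (sup_le hUW hU'W) ?_
        have := Submodule.finrank_sup_add_finrank_inf_eq U U'
        rw [hinf, finrank_bot, hUd, hU'd] at this
        show _ = finrank F W
        omega
      -- some invariant non-degenerate form on `U`
      let gU : Module.End F U := f.restrict hUinv
      have hgr : gU ^ r = 1 := by
        rw [Module.End.pow_restrict]
        refine LinearMap.ext fun w => Subtype.ext ?_
        show (f ^ r) w.1 = w.1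
        rw [hfdef, ← Matrix.toLin'_pow, hxr, Matrix.toLin'_one]; rfl
      have hnofix : ∀ u, gU u = u → u = 0 := fun u hu => by
        have huf : f u.1 = u.1 := congrArg Subtype.val hu
        by_contra hu0
        have hann := moved_ann hxr u.1 (hUW u.2)
        have hev' : ∀ m : ℕ, (f ^ m) u.1 = u.1 := fun m => by
          induction m with
          | zero => simp
          | succ m ih => rw [pow_succ, Module.End.mul_apply, huf, ih]
        rw [map_sum, LinearMap.sum_apply] at hann
        simp only [map_pow, Polynomial.aeval_X, hev', ← hfdef, Finset.sum_const, Finset.card_range,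
          ← Nat.cast_smul_eq_nsmul F] at hann
        exact hu0 (Subtype.ext ((smul_eq_zero.1 hann).resolve_left hr0))
      have hrad : ∀ M : LinearMap.BilinForm F U, (∀ a b, M (gU a) (gU b) = M a b) → M = 0 := by
        intro M hM
        by_contra hM0
        -- the left radical is invariant, so trivial
        let R : Submodule F 𝕍 := (LinearMap.ker M).map U.subtype
        have hRU : R ≤ U := Submodule.map_subtype_le _ _
        have hgsurj : Function.Surjective gU := fun w =>
          ⟨(gU ^ (r - 1)) w, by rw [← Module.End.mul_apply, ← pow_succ', Nat.sub_add_cancel hr.out.one_le, hgr]; rfl⟩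
        have hRinv : Elusive.Inv f R := by
          rintro _ ⟨w, hw, rfl⟩
          refine ⟨gU w, LinearMap.mem_ker.2 (LinearMap.ext fun b => ?_), rfl⟩
          obtain ⟨b, rfl⟩ := hgsurj b
          rw [hM, LinearMap.mem_ker.1 hw]; rfl
        have hd1 := hdvd R hRinv (hRU.trans hUW)
        by_cases hR0 : finrank F R = 0
        · have hker : LinearMap.ker M = ⊥ :=
            Submodule.map_injective_of_injective U.injective_subtype
              ((Submodule.finrank_eq_zero.1 hR0).trans (Submodule.map_bot _).symm)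
          have hnd' : M.Nondegenerate := by
            rw [LinearMap.BilinForm.nondegenerate_iff_ker_eq_bot]; exact hker
          obtain ⟨u, hu0, hu⟩ := exists_fixed_of_form h2 M hnd' (by rw [hUd]; exact hiodd) gU hM hrodd hgr
          exact hu0 (hnofix u hu)
        · have hle := Submodule.finrank_mono hRU
          have heq := Submodule.eq_of_le_of_finrank_eq hRU
            (le_antisymm hle (hUd ▸ Nat.le_of_dvd (Nat.pos_of_ne_zero hR0) hd1))
          refine hM0 (LinearMap.ext fun w => ?_)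
          obtain ⟨w', hw', e⟩ : (w : 𝕍) ∈ R := heq.symm ▸ w.2
          rw [← U.injective_subtype e, LinearMap.mem_ker.1 hw']; rfl
      have hf1 : ∀ w : U, ((gU w : U) : 𝕍) = y.1 *ᵥ w.1 := fun w => rfl
      have hiso := hrad (B.compl₁₂ U.subtype U.subtype) fun a b => by
        simp only [LinearMap.compl₁₂_apply, Submodule.subtype_apply, hf1, hB]
      have hsym := hrad (B.compl₁₂ U.subtype (εl.comp U.subtype)) fun a b => by
        simp only [LinearMap.compl₁₂_apply, LinearMap.comp_apply, Submodule.subtype_apply, hf1, hεl,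
          Matrix.toLin'_apply]
        rw [Matrix.mulVec_mulVec, ← hcomm, ← Matrix.mulVec_mulVec, hB]
      obtain ⟨u, hu⟩ := exists_ne (0 : U)
      refine hu (Subtype.ext (hnd u.1 (hUW u.2) fun b hb => ?_))
      replace hb : b ∈ U ⊔ U' := by rw [hsup]; exact hb
      obtain ⟨b₁, hb₁, _, ⟨b₂, hb₂, rfl⟩, rfl⟩ := Submodule.mem_sup.1 hb
      rw [map_add]
      have e1 : B u.1 b₁ = 0 := LinearMap.congr_fun (LinearMap.congr_fun hiso u) ⟨b₁, hb₁⟩
      have e2 : B u.1 (εl b₂) = 0 := LinearMap.congr_fun (LinearMap.congr_fun hsym u) ⟨b₂, hb₂⟩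
      rw [e1, e2, add_zero]

end Cfsg.Agent.Elusive.ExtField.Orth
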