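import Cfsg.Agent.Lib.Elusive.ExtField.OrthCoords
import Cfsg.Agent.Lib.Elusive.ExtField.OrthSelf

/-!
The index of the normaliser of a quadratic field of self-adjoint maps in `Omega` is prime to every `r` for which
the order of `q` modulo `r` is a multiple of four.
-/

set_option autoImplicit false
set_option linter.unusedSectionVars false
set_option linter.style.haveILetI false

open scoped Matrix MatrixGroups

namespace Cfsg.Agent.Elusive.ExtField.Orth

open Module (finrank)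

variable {F : Type*} [Field F] [Fintype F] {δ : F} [hF : Fact (∀ r : F, r ^ 2 ≠ δ + 0 * r)]

theorem card_QE : Nat.card (QE δ) = Fintype.card F ^ 2 := by
  rw [Module.natCard_eq_pow_finrank (K := F), QuadraticAlgebra.finrank_eq_two, Nat.card_eq_fintype_card]

theorem two_ne_QE (h2 : (2 : F) ≠ 0) : (2 : QE δ) ≠ 0 := by
  rw [← map_ofNat (algebraMap F (QE δ)) 2]; exact (map_ne_zero _).2 h2

theorem isSquare_neg_one_QE [Fintype (QE δ)] (h2 : (2 : F) ≠ 0) : IsSquare (-1 : QE δ) := by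
  rw [FiniteField.isSquare_neg_one_iff, ← Nat.card_eq_fintype_card, card_QE]
  have hodd : Fintype.card F % 2 = 1 := FiniteField.odd_card_of_char_ne_two fun hc => h2 (by
    have := ringChar.Nat.cast_ringChar (R := F); rw [hc] at this; exact_mod_cast this)
  obtain ⟨k, hk⟩ : ∃ k, Fintype.card F = 2 * k + 1 := ⟨Fintype.card F / 2, by omega⟩
  rw [hk, show (2 * k + 1) ^ 2 = 4 * (k * k + k) + 1 by ring]
  omega

theorem kq_nondegenerate (h2 : (2 : F) ≠ 0) {m : ℕ} {w : Fin m → QE δ} (hw : ∀ i, w i ≠ 0) :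
    (QuadraticMap.polarBilin (kq w)).Nondegenerate := by
  refine (LinearMap.BilinForm.nondegenerate_iff_det_ne_zero (Pi.basisFun (QE δ) (Fin m))).2 ?_
  rw [← QForm.gram_eq_toMatrix, kq, QForm.det_gram_diag]
  exact mul_ne_zero (pow_ne_zero _ (two_ne_QE h2)) (Finset.prod_ne_zero_iff.2 fun i _ => hw i)

omit [Fintype F] hF in
/-- `QForm.isometric_iff` for bases with different index types. -/
theorem isometric_of_disc {E V W : Type*} [Field E] [Finite E] [AddCommGroup V] [Module E V] [FiniteDimensional E V]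
    [AddCommGroup W] [Module E W] [FiniteDimensional E W] {κ κ' : Type*} [Fintype κ] [DecidableEq κ] [Fintype κ']
    [DecidableEq κ'] (h2 : (2 : E) ≠ 0) {R : QuadraticForm E V} {R' : QuadraticForm E W}
    (hR : (QuadraticMap.polarBilin R).Nondegenerate) (hR' : (QuadraticMap.polarBilin R').Nondegenerate)
    (b : Module.Basis κ E V) (b' : Module.Basis κ' E W) (hcard : Fintype.card κ' = Fintype.card κ)
    (h : IsSquare ((QForm.gram ⇑R ⇑b).det * (QForm.gram ⇑R' ⇑b').det)) :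
    ∃ g : V ≃ₗ[E] W, ∀ v, R' (g v) = R v := by
  let b'' := b'.reindex (Fintype.equivOfCardEq hcard)
  obtain ⟨u, -, hu⟩ := QForm.det_gram_change R' b' b''
  refine (QForm.isometric_iff h2 R R' hR hR' b b'').2 ?_
  obtain ⟨t, ht⟩ := h
  exact ⟨u * t, by rw [hu]; linear_combination u ^ 2 * ht⟩

theorem wv_ne_zero {n : ℕ} {c : QE δ} (hc : c ≠ 0) : ∀ i, wv (n := n) c i ≠ 0 := fun i => by
  simp only [wv]; split
  · exact hc
  · exact one_ne_zero

/-- The orthogonal group of `diag (1, …, 1, c)` in even dimension. -/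
theorem card_kq_even (h2 : (2 : F) ≠ 0) {e : ℕ} {c : QE δ} (hc : c ≠ 0) :
    (IsSquare c → ((Fintype.card F ^ 2) ^ (e + 1) - 1) *
        ∏ l ∈ Finset.range e, ((Fintype.card F ^ 2) ^ (2 * (l + 1)) - 1) ∣
      Nat.card (Forms.isomQ (kq (wv (n := 2 * e + 1) c)))) ∧
    (¬ IsSquare c → ((Fintype.card F ^ 2) ^ (e + 1) + 1) *
        ∏ l ∈ Finset.range e, ((Fintype.card F ^ 2) ^ (2 * (l + 1)) - 1) ∣
      Nat.card (Forms.isomQ (kq (wv (n := 2 * e + 1) c)))) := by
  classical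
  haveI : Finite (QE δ) := Module.finite_of_finite F
  letI : Fintype (QE δ) := Fintype.ofFinite (QE δ)
  have hQc : Fintype.card (QE δ) = Fintype.card F ^ 2 := by rw [← Nat.card_eq_fintype_card, card_QE]
  have h2E := two_ne_QE (δ := δ) h2
  obtain ⟨i, hi⟩ := isSquare_neg_one_QE (δ := δ) h2
  have hnd := kq_nondegenerate h2 (wv_ne_zero (n := 2 * e + 1) hc)
  have hg : (QForm.gram ⇑(kq (wv (n := 2 * e + 1) c)) ⇑(Pi.basisFun (QE δ) (Fin (2 * e + 1 + 1)))).det =
      2 ^ (2 * e + 1 + 1) * c := by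
    rw [kq, QForm.det_gram_diag, prod_wv, Fintype.card_fin]
  refine ⟨fun hsq => ?_, fun hnsq => ?_⟩
  · have hpl : Forms.quadPlus (e + 1) (QE δ) = QForm.plusForm (QE δ) (e + 1) :=
      QuadraticMap.ext fun v => by rw [Forms.quadPlus_apply, QForm.plusForm_apply]
    obtain ⟨g, hg'⟩ := isometric_of_disc h2E hnd (Forms.quadPlus_nondegenerate (F := QE δ) (e + 1))
      (Pi.basisFun _ _) (Pi.basisFun (QE δ) (Fin (e + 1) ⊕ Fin (e + 1))) (by simp; omega) (by
        rw [hg, hpl, QForm.det_gram_plus]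
        obtain ⟨s, hs⟩ := hsq
        exact ⟨2 ^ (e + 1) * s * i ^ (e + 1), by rw [hs, hi, mul_pow]; ring⟩)
    rw [Forms.card_isomQ_congr g hg', Forms.card_isomQ_quadPlus, hQc]
    exact ⟨2 * (Fintype.card F ^ 2) ^ ((e + 1) * e), by ring⟩
  · have hab : ∀ z₁ z₂ : QE δ, z₁ ^ 2 + 0 * z₁ * z₂ + (-c) * z₂ ^ 2 = 0 → z₁ = 0 ∧ z₂ = 0 := by
      intro z₁ z₂ h
      by_cases hz : z₂ = 0
      · subst hz
        exact ⟨by simpa using h, rfl⟩
      · exact absurd ⟨z₁ / z₂, by field_simp; linear_combination -h⟩ hnsq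
    have hmi : Forms.quadMinus e (QE δ) 0 (-c) = QForm.minusForm (QE δ) e 0 (-c) :=
      QuadraticMap.ext fun v => by rw [Forms.quadMinus_apply, QForm.minusForm_apply]
    obtain ⟨g, hg'⟩ := isometric_of_disc h2E hnd (Forms.quadMinus_nondegenerate e hab)
      (Pi.basisFun _ _) (Pi.basisFun (QE δ) ((Fin e ⊕ Fin e) ⊕ Fin 2)) (by simp; omega) (by
        rw [hg, hmi, QForm.det_gram_minus]
        exact ⟨2 ^ (e + 1) * (2 * c) * i ^ (e + 1), by rw [hi, mul_pow]; ring⟩)
    rw [Forms.card_isomQ_congr g hg', Forms.card_isomQ_quadMinus e hab, hQc]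
    exact ⟨2 * (Fintype.card F ^ 2) ^ ((e + 1) * e), by ring⟩

/-- The orthogonal group of `diag (1, …, 1, c)` in odd dimension. -/
theorem card_kq_odd (h2 : (2 : F) ≠ 0) {e : ℕ} {c : QE δ} (hc : c ≠ 0) :
    ∏ l ∈ Finset.range e, ((Fintype.card F ^ 2) ^ (2 * (l + 1)) - 1) ∣
      Nat.card (Forms.isomQ (kq (wv (n := 2 * e) c))) := by
  classical
  haveI : Finite (QE δ) := Module.finite_of_finite F
  letI : Fintype (QE δ) := Fintype.ofFinite (QE δ)
  have hQc : Fintype.card (QE δ) = Fintype.card F ^ 2 := by rw [← Nat.card_eq_fintype_card, card_QE]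
  have h2E := two_ne_QE (δ := δ) h2
  have hnd := kq_nondegenerate h2 (wv_ne_zero (n := 2 * e) hc)
  have hchar : ringChar (QE δ) ≠ 2 := fun hh => h2E (by
    have := ringChar.Nat.cast_ringChar (R := QE δ); rw [hh] at this; exact_mod_cast this)
  have hnd' := Forms.quadOdd_nondegenerate (F := QE δ) h2E e
  let b := Pi.basisFun (QE δ) (Unit ⊕ (Fin e ⊕ Fin e))
  set D := (QForm.gram ⇑(kq (wv (n := 2 * e) c)) ⇑(Pi.basisFun (QE δ) (Fin (2 * e + 1)))).det with hD
  set D' := (QForm.gram ⇑(Forms.quadOdd e (QE δ)) ⇑b).det with hD'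
  obtain ⟨s, hs0, hs⟩ : ∃ s : QE δ, s ≠ 0 ∧ IsSquare (D * (s ^ (2 * e + 1) * D')) := by
    by_cases hsq : IsSquare (D * D')
    · exact ⟨1, one_ne_zero, by simpa using hsq⟩
    · obtain ⟨s, hs⟩ := FiniteField.exists_nonsquare hchar
      have hs0 : s ≠ 0 := fun h => hs (h ▸ IsSquare.zero)
      refine ⟨s, hs0, ?_⟩
      have hne : D * D' ≠ 0 := mul_ne_zero (QForm.det_gram_ne_zero hnd _) (QForm.det_gram_ne_zero hnd' _)
      obtain ⟨t, ht⟩ : IsSquare (D * D' * s) := by
        rw [QForm.isSquare_mul_nonsquare_iff hne hs]; exact hsq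
      exact ⟨t * s ^ e, by linear_combination (s ^ e * s ^ e) * ht⟩
  have hsnd : (QuadraticMap.polarBilin (s • Forms.quadOdd e (QE δ))).Nondegenerate := by
    have e1 : ∀ x y, QuadraticMap.polarBilin (s • Forms.quadOdd e (QE δ)) x y =
        s * QuadraticMap.polarBilin (Forms.quadOdd e (QE δ)) x y := fun x y => by
      simp [QuadraticMap.polar]; ring
    exact ⟨fun x hx => hnd'.1 x fun y => (mul_eq_zero.1 ((e1 x y).symm.trans (hx y))).resolve_left hs0,
      fun x hx => hnd'.2 x fun y => (mul_eq_zero.1 ((e1 y x).symm.trans (hx y))).resolve_left hs0⟩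
  have hsg : (QForm.gram ⇑(s • Forms.quadOdd e (QE δ)) ⇑b).det = s ^ (2 * e + 1) * D' := by
    have h := QForm.det_gram_similarity (s • Forms.quadOdd e (QE δ)) (Forms.quadOdd e (QE δ))
      (LinearEquiv.refl _ _) s (fun v => by simp) b
    rw [show b.map (LinearEquiv.refl (QE δ) (Unit ⊕ (Fin e ⊕ Fin e) → QE δ)) = b from
      Module.Basis.eq_of_apply_eq fun _ => rfl, show Fintype.card (Unit ⊕ (Fin e ⊕ Fin e)) = 2 * e + 1 by simp; ring] at h
    simpa using h
  obtain ⟨g, hg'⟩ := isometric_of_disc h2E hnd hsnd (Pi.basisFun _ _) b (by simp; omega) (by rw [hsg]; exact hs)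
  have heq : Forms.isomQ (s • Forms.quadOdd e (QE δ)) = Forms.isomQ (Forms.quadOdd e (QE δ)) :=
    Forms.isom_eq_of_iff fun g => by simp [hs0]
  rw [Forms.card_isomQ_congr g hg', heq, Forms.card_isomQ_quadOdd h2E, hQc]
  exact Dvd.intro_left _ rfl

omit [Fintype F] hF in
theorem prod_range_two_mul (g : ℕ → ℕ) : ∀ e : ℕ, ∏ l ∈ Finset.range (2 * e), g l =
    (∏ l ∈ Finset.range e, g (2 * l)) * ∏ l ∈ Finset.range e, g (2 * l + 1)
  | 0 => by simp
  | e + 1 => by
    rw [show 2 * (e + 1) = 2 * e + 1 + 1 by ring, Finset.prod_range_succ, Finset.prod_range_succ,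
      prod_range_two_mul g e, Finset.prod_range_succ, Finset.prod_range_succ]
    ring

variable {ι : Type} [Fintype ι] [DecidableEq ι] {Q : QuadraticForm F (ι → F)}
  {K : Subalgebra F (Matrix ι ι F)} {ε : Matrix ι ι F}

omit [Fintype F] hF in
/-- Counting in a normal subgroup of index four. -/
theorem not_dvd_relIndex [Finite F] (N : Subgroup (GL ι F)) {A P r : ℕ}
    (hΩ : (Omega F ⇑Q).index = 4) (hO : Nat.card (isometryGroup F ⇑Q) = A * P) (hA : ¬ r ∣ A)
    (hP : P ∣ Nat.card (N.subgroupOf (isometryGroup F ⇑Q))) : ¬ r ∣ N.relIndex (Geo.omegaGL ⇑Q) := by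
  haveI : Finite (GL ι F) := inferInstance
  set N' := N.subgroupOf (isometryGroup F ⇑Q) with hN'
  have hrel : N.relIndex (Geo.omegaGL ⇑Q) = N'.relIndex (Omega F ⇑Q) := by
    rw [hN', Subgroup.subgroupOf, Subgroup.relIndex_comap]
    rfl
  obtain ⟨t, ht⟩ := hP
  obtain ⟨s, hs⟩ : (Omega F ⇑Q).relIndex N' ∣ 4 := hΩ ▸ Subgroup.relIndex_dvd_index_of_normal _ _
  have c1 : Nat.card (Omega F ⇑Q) * 4 = A * P := by rw [← hΩ, Subgroup.card_mul_index, hO]
  have c2 : N'.relIndex (Omega F ⇑Q) * Nat.card ↥(N' ⊓ Omega F ⇑Q) = Nat.card (Omega F ⇑Q) := by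
    rw [← Subgroup.inf_relIndex_right, mul_comm]
    have := Subgroup.relIndex_mul_relIndex (⊥ : Subgroup (isometryGroup F ⇑Q)) (N' ⊓ Omega F ⇑Q) (Omega F ⇑Q)
      bot_le inf_le_right
    rwa [Subgroup.relIndex_bot_left, Subgroup.relIndex_bot_left] at this
  have c3 : (Omega F ⇑Q).relIndex N' * Nat.card ↥(N' ⊓ Omega F ⇑Q) = Nat.card N' := by
    rw [← Subgroup.inf_relIndex_right, inf_comm (Omega F ⇑Q) N', mul_comm]
    have := Subgroup.relIndex_mul_relIndex (⊥ : Subgroup (isometryGroup F ⇑Q)) (N' ⊓ Omega F ⇑Q) N'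
      bot_le inf_le_left
    rwa [Subgroup.relIndex_bot_left, Subgroup.relIndex_bot_left] at this
  intro hr
  refine hA (dvd_trans (hrel ▸ hr) ⟨t * s, ?_⟩)
  have hP0 : 0 < P := Nat.pos_of_ne_zero fun h => Nat.card_pos.ne' (hO.trans (by rw [h, mul_zero]))
  refine Nat.eq_of_mul_eq_mul_right hP0 ?_
  calc A * P = Nat.card (Omega F ⇑Q) * 4 := c1.symm
    _ = N'.relIndex (Omega F ⇑Q) * Nat.card ↥(N' ⊓ Omega F ⇑Q) * ((Omega F ⇑Q).relIndex N' * s) := by rw [c2, ← hs]
    _ = N'.relIndex (Omega F ⇑Q) * (((Omega F ⇑Q).relIndex N' * Nat.card ↥(N' ⊓ Omega F ⇑Q)) * s) := by ring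
    _ = _ := by rw [c3, ht]; ring

omit hF in
/-- The index of the normaliser when the order of `q` modulo `r` is a multiple of four. -/
theorem SymGen.not_dvd_index (h : SymGen Q K ε δ) (hQ : (QuadraticMap.polarBilin Q).Nondegenerate)
    (h2 : (2 : F) ≠ 0) (p : ℕ) [Fact p.Prime] [CharP F p] {r : ℕ} [hr : Fact r.Prime] (hne : r ≠ p)
    (hi : 4 ∣ orderOf (Fintype.card F : ZMod r)) {d : ℕ} (hι : Fintype.card ι = 2 * d) (hd : 1 ≤ d)
    {top : ℕ} {a : ℕ}
    (hO : Nat.card (isometryGroup F ⇑Q) =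
      2 * Fintype.card F ^ a * top * ∏ l ∈ Finset.range (d - 1), (Fintype.card F ^ (2 * (l + 1)) - 1))
    (htype : (top = Fintype.card F ^ d - 1 ∧
        IsSquare ((-1) ^ d * (QForm.gram ⇑Q ⇑(Pi.basisFun F ι)).det)) ∨
      (top = Fintype.card F ^ d + 1 ∧
        ¬ IsSquare ((-1) ^ d * (QForm.gram ⇑Q ⇑(Pi.basisFun F ι)).det))) :
    ¬ r ∣ (Geo.subalgebraNormalizer K).relIndex (Geo.omegaGL ⇑Q) := by
  classical
  haveI := fact_of_nonsq h.nonsq
  set G : (ι → F) →ₗ[F] (ι → F) := Matrix.toLin' ε with hG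
  have hGG : ∀ v, G (G v) = δ • v := fun v => by
    rw [hG, Matrix.toLin'_apply, Matrix.toLin'_apply, Matrix.mulVec_mulVec, h.sq, Matrix.smul_mulVec,
      Matrix.one_mulVec]
  obtain ⟨α, hαn, hα⟩ := exists_alpha h2 h.nonsq
  obtain ⟨n, rfl⟩ : ∃ n, d = n + 1 := ⟨d - 1, by omega⟩
  obtain ⟨c, hc, T, hT⟩ := exists_coords h.nonsq h2 hQ hGG
    (fun x y => by rw [hG, Matrix.toLin'_apply, Matrix.toLin'_apply]; exact h.self x y) hα (n := n)
    (by rw [Module.finrank_fintype_fun_eq_card, hι])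
  have hc0 : c ≠ 0 := by
    rcases hc with rfl | rfl
    · exact one_ne_zero
    · exact fun h0 => hα (h0 ▸ IsSquare.zero)
  have hdisc := isSquare_norm_iff hT (Pi.basisFun F ι)
  have hcls : IsSquare ((-1) ^ (n + 1) * (QForm.gram ⇑Q ⇑(Pi.basisFun F ι)).det) ↔ IsSquare c := by
    rw [hdisc]
    rcases hc with rfl | rfl
    · rw [map_one]; exact iff_of_true IsSquare.one IsSquare.one
    · exact iff_of_false hαn hα
  -- the group over the extension normalises `K`
  obtain ⟨Φ, hΦi, hΦ⟩ := exists_hom h2 hT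
  let Ψ : Forms.isomQ (kq (wv (n := n) c)) →*
      ↥((Geo.subalgebraNormalizer K).subgroupOf (isometryGroup F ⇑Q)) :=
    { toFun := fun g => ⟨⟨(Forms.glEquiv ι F).symm (Φ g), fun u _ => by
          show Q ((((Forms.glEquiv ι F).symm (Φ g)) : GL ι F).1 *ᵥ u) = Q u
          rw [← Forms.glEquiv_apply, MulEquiv.apply_symm_apply]; exact (hΦ g).1 u⟩, by
        rw [Subgroup.mem_subgroupOf]
        refine h.mem_normalizer _ 1 (Or.inl rfl) (Matrix.ext_iff_mulVec.2 fun v => ?_)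
        rw [one_smul, ← Matrix.mulVec_mulVec, ← Matrix.mulVec_mulVec, ← Forms.glEquiv_apply,
          ← Forms.glEquiv_apply, MulEquiv.apply_symm_apply]
        have := (hΦ g).2 v
        rwa [hG, Matrix.toLin'_apply, Matrix.toLin'_apply] at this⟩
      map_one' := Subtype.ext (Subtype.ext (by simp))
      map_mul' := fun a b => Subtype.ext (Subtype.ext (by simp)) }
  have hΨ : Function.Injective Ψ := fun a b hab => hΦi ((Forms.glEquiv ι F).symm.injective
    (congrArg (fun x : ↥((Geo.subalgebraNormalizer K).subgroupOf (isometryGroup F ⇑Q)) =>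
      ((x : isometryGroup F ⇑Q) : GL ι F)) hab))
  have hcardΨ := Subgroup.card_dvd_of_injective Ψ hΨ
  have hΩ4 : (Omega F ⇑Q).index = 4 := Forms.omega_index_odd Q h2 hQ (by omega)
  have hr2 : ¬ r ∣ 2 := fun hh => by
    have h1 : r = 2 := (Nat.prime_dvd_prime_iff_eq hr.out Nat.prime_two).1 hh
    subst h1
    have h4 := Nat.le_of_dvd (order_pos (F := F) p hne) hi
    have := ZMod.orderOf_dvd_card_sub_one (q_ne_zero_mod (F := F) p hne)
    have := Nat.le_of_dvd (by norm_num) this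
    omega
  have hrq : ¬ r ∣ Fintype.card F := fun hh =>
    q_ne_zero_mod (F := F) p hne ((ZMod.natCast_eq_zero_iff _ _).2 hh)
  have hrg : ∀ l, ¬ r ∣ Fintype.card F ^ (2 * (2 * l + 1)) - 1 := fun l hh => by
    rw [dvd_pow_sub_one_iff Fintype.card_pos] at hh
    have := hi.trans hh
    omega
  have hrA : ∀ e : ℕ, ∀ x : ℕ, ¬ r ∣ x → ¬ r ∣ 2 * Fintype.card F ^ a * x *
      ∏ l ∈ Finset.range e, (Fintype.card F ^ (2 * (2 * l + 1)) - 1) := fun e x hx hh => by
    rcases hr.out.dvd_mul.1 hh with hh | hh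
    · rcases hr.out.dvd_mul.1 hh with hh | hh
      · rcases hr.out.dvd_mul.1 hh with hh | hh
        · exact hr2 hh
        · exact hrq (hr.out.dvd_of_dvd_pow hh)
      · exact hx hh
    · obtain ⟨l, -, hl⟩ := (hr.out.prime.dvd_finsetProd_iff _).1 hh
      exact hrg l hl
  have hsq2 : ∀ j : ℕ, (Fintype.card F ^ 2) ^ j = Fintype.card F ^ (2 * j) := fun j => (pow_mul _ 2 j).symm
  rw [Nat.add_sub_cancel] at hO
  rcases Nat.even_or_odd n with ⟨e, he⟩ | ⟨e, he⟩
  · -- odd dimension over the extension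
    obtain rfl : n = 2 * e := by omega
    refine not_dvd_relIndex _ hΩ4 (A := 2 * Fintype.card F ^ a * top *
        ∏ l ∈ Finset.range e, (Fintype.card F ^ (2 * (2 * l + 1)) - 1))
      (P := ∏ l ∈ Finset.range e, ((Fintype.card F ^ 2) ^ (2 * (l + 1)) - 1)) ?_ (hrA e top ?_)
      ((card_kq_odd h2 hc0).trans hcardΨ)
    · rw [hO, prod_range_two_mul, ← mul_assoc]
      refine congrArg₂ (· * ·) rfl (Finset.prod_congr rfl fun l _ => ?_)
      rw [hsq2, show 2 * (2 * l + 1 + 1) = 2 * (2 * (l + 1)) by ring]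
    · intro htop
      have hh : r ∣ Fintype.card F ^ (2 * (2 * e + 1)) - 1 := by
        have e1 : Fintype.card F ^ (2 * (2 * e + 1)) - 1 =
            (Fintype.card F ^ (2 * e + 1) + 1) * (Fintype.card F ^ (2 * e + 1) - 1) := by
          rw [← Nat.sq_sub_sq, one_pow, ← pow_mul, mul_comm]
        rw [e1]
        rcases htype with ⟨rfl, -⟩ | ⟨rfl, -⟩
        · exact dvd_mul_of_dvd_right htop _
        · exact dvd_mul_of_dvd_left htop _
      exact hrg e hh
  · -- even dimension over the extension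
    subst he
    refine not_dvd_relIndex _ hΩ4 (A := 2 * Fintype.card F ^ a * 1 *
        ∏ l ∈ Finset.range (e + 1), (Fintype.card F ^ (2 * (2 * l + 1)) - 1))
      (P := top * ∏ l ∈ Finset.range e, ((Fintype.card F ^ 2) ^ (2 * (l + 1)) - 1)) ?_
      (hrA _ 1 hr.out.not_dvd_one) ?_
    · rw [hO, Finset.prod_range_succ (n := 2 * e), prod_range_two_mul, Finset.prod_range_succ (n := e)]
      have e1 : ∏ l ∈ Finset.range e, ((Fintype.card F ^ 2) ^ (2 * (l + 1)) - 1) =
          ∏ l ∈ Finset.range e, (Fintype.card F ^ (2 * (2 * l + 1 + 1)) - 1) :=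
        Finset.prod_congr rfl fun l _ => by rw [hsq2, show 2 * (2 * l + 1 + 1) = 2 * (2 * (l + 1)) by ring]
      rw [e1]
      ring
    · refine dvd_trans ?_ hcardΨ
      rcases htype with ⟨rfl, hs⟩ | ⟨rfl, hs⟩
      · have := (card_kq_even h2 (e := e) hc0).1 (hcls.1 hs)
        rwa [show (Fintype.card F ^ 2) ^ (e + 1) = Fintype.card F ^ (2 * e + 1 + 1) by rw [hsq2]; ring_nf] at this
      · have := (card_kq_even h2 (e := e) hc0).2 fun hh => hs (hcls.2 hh)
        rwa [show (Fintype.card F ^ 2) ^ (e + 1) = Fintype.card F ^ (2 * e + 1 + 1) by rw [hsq2]; ring_nf] at this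

end Cfsg.Agent.Elusive.ExtField.Orth
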