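import Cfsg.Agent.Lib.Elusive.ExtField.OrthTwo

/-!
Which elements of prime order of `Omega` in even dimension are conjugate into the normaliser of a quadratic field
of self-adjoint maps.
-/

set_option autoImplicit false
set_option linter.unusedSectionVars false
set_option linter.style.haveILetI false

open scoped Matrix MatrixGroups

namespace Cfsg.Agent.Elusive.ExtField.Orth

open Module (finrank)

variable {F : Type*} [Field F] [Fintype F] {ι : Type} [Fintype ι] [DecidableEq ι]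
  {K : Subalgebra F (Matrix ι ι F)} {Q : QuadraticForm F (ι → F)}

theorem iff_two (p : ℕ) [Fact p.Prime] [CharP F p] (h2 : (2 : F) ≠ 0)
    (hQ : (QuadraticMap.polarBilin Q).Nondegenerate) {d : ℕ} (hd : 4 ≤ d) (hι : Fintype.card ι = 2 * d)
    (hK : Geo.IsFieldSubalgebra 2 K) (hKf : Geo.IsSelfAdjointFor (QuadraticMap.polar ⇑Q) K)
    (r : ℕ) [hr : Fact r.Prime] (hΩ : r ∣ (Geo.subalgebraNormalizer K).relIndex (Geo.omegaGL ⇑Q))
    {top a : ℕ}
    (hO : Nat.card (isometryGroup F ⇑Q) =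
      2 * Fintype.card F ^ a * top * ∏ l ∈ Finset.range (d - 1), (Fintype.card F ^ (2 * (l + 1)) - 1))
    (htype : (top = Fintype.card F ^ d - 1 ∧
        IsSquare ((-1) ^ d * (QForm.gram ⇑Q ⇑(Pi.basisFun F ι)).det)) ∨
      (top = Fintype.card F ^ d + 1 ∧
        ¬ IsSquare ((-1) ^ d * (QForm.gram ⇑Q ⇑(Pi.basisFun F ι)).det))) :
    (∀ x ∈ Geo.omegaGL ⇑Q, (∃ z : F, ((x ^ r : GL ι F) : Matrix ι ι F) = z • (1 : Matrix ι ι F)) →
      (∀ z : F, (x : Matrix ι ι F) ≠ z • (1 : Matrix ι ι F)) →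
      ∃ g ∈ Geo.omegaGL ⇑Q, g⁻¹ * x * g ∈ Geo.subalgebraNormalizer K) ↔ r = 2 := by
  classical
  haveI : Nonempty ι := Fintype.card_pos_iff.1 (by omega)
  obtain ⟨ε, δ, hε⟩ := exists_symGen (Q := Q) h2 hK fun a ha u v => hKf a ha u v
  constructor
  · intro hall
    by_contra hr2
    have conj : ∀ x : GL ι F, x ∈ Geo.omegaGL ⇑Q → x ^ r = 1 → 0 < (x.1 - 1).rank →
        ∃ g : GL ι F, g⁻¹ * x * g ∈ isometryGroup F ⇑Q ∧ (g⁻¹ * x * g) ^ r = 1 ∧
          ((g⁻¹ * x * g : GL ι F).1 - 1).rank = (x.1 - 1).rank ∧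
          ∀ a ∈ K, (g⁻¹ * x * g : GL ι F).1 * a = a * (g⁻¹ * x * g : GL ι F).1 := by
      intro x hx hxr hrk
      have hns : ∀ z : F, (x : Matrix ι ι F) ≠ z • (1 : Matrix ι ι F) := by
        intro z hzx
        obtain ⟨v, hv⟩ := QForm.exists_ne_zero hQ (by omega)
        have e : Q (x.1 *ᵥ v) = Q v := QForm.act_map Q ⟨x, MaxCl.Orth.omega_le_iso hx⟩ v
        rw [hzx, Matrix.smul_mulVec, Matrix.one_mulVec, QuadraticMap.map_smul, smul_eq_mul] at e
        have hzz : z * z = 1 := mul_right_cancel₀ hv (e.trans (one_mul _).symm)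
        have hzr : z ^ r = 1 := by
          have h1 : ((x ^ r : GL ι F) : Matrix ι ι F) = 1 := by rw [hxr, Units.val_one]
          rw [Units.val_pow_eq_pow_val, hzx, smul_pow, one_pow, ← one_smul F (1 : Matrix ι ι F),
            smul_smul, mul_one] at h1
          exact smul_left_injective F (one_ne_zero : (1 : Matrix ι ι F) ≠ 0) h1
        obtain ⟨m, hm⟩ := hr.out.odd_of_ne_two hr2
        rw [hm, pow_succ, pow_mul, pow_two, hzz, one_pow, one_mul] at hzr
        rw [hzx, hzr, one_smul, sub_self, Matrix.rank_zero] at hrk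
        omega
      obtain ⟨g, hg, hn⟩ := hall x hx ⟨1, by rw [hxr, Units.val_one, one_smul]⟩ hns
      have hyr : (g⁻¹ * x * g) ^ r = 1 := by
        rw [show g⁻¹ * x * g = g⁻¹ * x * (g⁻¹)⁻¹ by rw [inv_inv], conj_pow, hxr, mul_one, mul_inv_cancel]
      refine ⟨g, ?_, hyr, rank_conj g x, (commute_or_eq hK Nat.prime_two _ hn hyr).resolve_right hr2⟩
      exact MaxCl.Orth.omega_le_iso (mul_mem (mul_mem (inv_mem hg) hx) hg)
    by_cases hrp : r = p
    · subst hrp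
      obtain ⟨x, hx, hxr, hN, h0, h2r⟩ := exists_root_elt hQ r (by omega)
      obtain ⟨g, hgi, -, hrk, hcomm⟩ := conj x hx hxr h0
      refine hε.no_commute_root hQ h2 hK hgi ?_ (hrk.symm ▸ h0) (hrk.symm ▸ h2r) hcomm
      have e : (g⁻¹ * x * g : GL ι F).1 - 1 = (g⁻¹ : GL ι F).1 * (x.1 - 1) * g.1 := by
        simp [Matrix.mul_sub, Matrix.sub_mul]
      rw [e, show (g⁻¹ : GL ι F).1 * (x.1 - 1) * g.1 * ((g⁻¹ : GL ι F).1 * (x.1 - 1) * g.1) =
        (g⁻¹ : GL ι F).1 * ((x.1 - 1) * (x.1 - 1)) * g.1 by simp [mul_assoc], hN, mul_zero, zero_mul]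
    have hdvd : r ∣ Nat.card (Geo.omegaGL ⇑Q) := hΩ.trans (Subgroup.relIndex_dvd_card _ _)
    obtain ⟨x, hx, hxr, hrk⟩ := exists_omega_rank hQ h2 p hrp hr2 hdvd (by omega)
    have hc0 : 0 < cdim F r := by
      have := order_pos (F := F) p hrp
      rw [cdim]; split <;> omega
    obtain ⟨g, hgi, hgr, hgrk, hcomm⟩ := conj x hx hxr (hrk.symm ▸ hc0)
    by_cases h4 : 4 ∣ orderOf (Fintype.card F : ZMod r)
    · exact hε.not_dvd_index hQ h2 p hrp h4 hι (by omega) hO htype hΩ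
    · exact hε.no_commute hQ h2 p hrp hr2 h4 hgi hgr (hgrk.trans hrk) (hcomm ε hε.mem)
  · rintro rfl x hx ⟨z, hz⟩ -
    exact hε.conj_of_two hQ h2 (by omega) hι hx hz

end Cfsg.Agent.Elusive.ExtField.Orth
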