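import Cfsg.Agent.Lib.Elusive.ExtField.OrthIndex
import Cfsg.Agent.Lib.QForm.OmegaQuot
import Cfsg.Agent.Lib.QForm.Transitive

/-!
Elements of `Omega` with square `±1` are conjugate in `Omega` into the normaliser of a quadratic field of
self-adjoint maps.
-/

set_option autoImplicit false
set_option linter.unusedSectionVars false
set_option linter.style.haveILetI false

open scoped Matrix MatrixGroups

namespace Cfsg.Agent.Elusive.ExtField.Orth

open Module (finrank)

variable {F : Type*} [Field F] [Fintype F]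

section Planes

variable {V : Type*} [AddCommGroup V] [Module F V] [FiniteDimensional F V] (Q : QuadraticForm F V)

/-- An orthogonal basis of anisotropic vectors grouped in pairs. -/
structure OrthPairs {κ : Type*} (u : Module.Basis (κ × Fin 2) F V) : Prop where
  orth : ∀ a b, a ≠ b → QuadraticMap.polarBilin Q (u a) (u b) = 0
  aniso : ∀ a, Q (u a) ≠ 0

variable {Q}

/-- A self-adjoint map with square `δ` preserving the planes of an orthogonal basis. -/
theorem exists_plane_map (h2 : (2 : F) ≠ 0) {δ : F} (hδ : δ ≠ 0) {κ : Type*} [Fintype κ] [DecidableEq κ]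
    {u : Module.Basis (κ × Fin 2) F V} (hu : OrthPairs Q u) :
    ∃ (G : V →ₗ[F] V) (a b : κ → F), (∀ v, G (G v) = δ • v) ∧
      (∀ x y, QuadraticMap.polarBilin Q (G x) y = QuadraticMap.polarBilin Q x (G y)) ∧
      ∀ i, G (u (i, 0)) = a i • u (i, 0) + (b i * Q (u (i, 0))) • u (i, 1) ∧
        G (u (i, 1)) = (b i * Q (u (i, 1))) • u (i, 0) - a i • u (i, 1) := by
  classical
  have hex : ∀ i : κ, ∃ a b : F, a * a + b * b * (Q (u (i, 0)) * Q (u (i, 1))) = δ := fun i => by
    obtain ⟨s, t, hst⟩ := QForm.exists_two_squares_eq_one h2 (inv_ne_zero hδ)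
      (show δ⁻¹ * (Q (u (i, 0)) * Q (u (i, 1))) ≠ 0 from
        mul_ne_zero (inv_ne_zero hδ) (mul_ne_zero (hu.aniso _) (hu.aniso _)))
    refine ⟨s, t, ?_⟩
    field_simp at hst
    linear_combination hst
  choose a b hab using hex
  let G : V →ₗ[F] V := u.constr F fun p =>
    if p.2 = 0 then a p.1 • u (p.1, 0) + (b p.1 * Q (u (p.1, 0))) • u (p.1, 1)
    else (b p.1 * Q (u (p.1, 1))) • u (p.1, 0) - a p.1 • u (p.1, 1)
  have h0 : ∀ i, G (u (i, 0)) = a i • u (i, 0) + (b i * Q (u (i, 0))) • u (i, 1) := fun i =>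
    (Module.Basis.constr_basis u F _ (i, 0)).trans (if_pos rfl)
  have h1 : ∀ i, G (u (i, 1)) = (b i * Q (u (i, 1))) • u (i, 0) - a i • u (i, 1) := fun i =>
    (Module.Basis.constr_basis u F _ (i, 1)).trans (if_neg (by simp))
  refine ⟨G, a, b, fun v => ?_, fun x y => ?_, fun i => ⟨h0 i, h1 i⟩⟩
  · have : G.comp G = δ • LinearMap.id := u.ext fun ⟨i, s⟩ => by
      fin_cases s
      · show G (G (u (i, 0))) = δ • u (i, 0)
        rw [h0, map_add, map_smul, map_smul, h0, h1]
        match_scalars <;> first | ring1 | linear_combination hab i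
      · show G (G (u (i, 1))) = δ • u (i, 1)
        rw [h1, map_sub, map_smul, map_smul, h0, h1]
        match_scalars <;> first | ring1 | linear_combination hab i
    exact LinearMap.congr_fun this v
  · have hself : ∀ p q, QuadraticMap.polarBilin Q (G (u p)) (u q) = QuadraticMap.polarBilin Q (u p) (G (u q)) := by
      rintro ⟨i, s⟩ ⟨j, t⟩
      by_cases hij : i = j
      · subst hij
        have ho : QuadraticMap.polarBilin Q (u (i, 0)) (u (i, 1)) = 0 := hu.orth _ _ (by simp)
        have ho' : QuadraticMap.polarBilin Q (u (i, 1)) (u (i, 0)) = 0 := hu.orth _ _ (by simp)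
        fin_cases s <;> fin_cases t <;>
          simp only [Fin.zero_eta, Fin.mk_one, Fin.isValue, h0, h1, map_add, map_sub, map_smul,
            LinearMap.add_apply, LinearMap.sub_apply, LinearMap.smul_apply, ho, ho', smul_eq_mul,
            Forms.polarBilin_self] <;> ring
      · have ho : ∀ s t : Fin 2, QuadraticMap.polarBilin Q (u (i, s)) (u (j, t)) = 0 := fun s t =>
          hu.orth _ _ (by simp [hij])
        fin_cases s <;> fin_cases t <;>
          simp only [Fin.zero_eta, Fin.mk_one, Fin.isValue, h0, h1, map_add, map_sub, map_smul,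
            LinearMap.add_apply, LinearMap.sub_apply, LinearMap.smul_apply, ho, smul_zero, sub_zero, add_zero]
    have : (QuadraticMap.polarBilin Q).compl₁₂ G LinearMap.id = (QuadraticMap.polarBilin Q).compl₁₂ LinearMap.id G :=
      u.ext fun p => u.ext fun q => hself p q
    exact LinearMap.congr_fun (LinearMap.congr_fun this x) y

/-- An orthogonal basis of a non-degenerate subspace. -/
theorem exists_orth_sub (h2 : (2 : F) ≠ 0) {W : Submodule F V}
    (hW : ∀ a ∈ W, (∀ b ∈ W, QuadraticMap.polarBilin Q a b = 0) → a = 0) :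
    ∃ v : Module.Basis (Fin (finrank F W)) F W,
      (∀ i j, i ≠ j → QuadraticMap.polarBilin Q (v i : V) (v j : V) = 0) ∧ ∀ i, Q (v i : V) ≠ 0 := by
  haveI : Invertible (2 : F) := invertibleOfNonzero h2
  obtain ⟨v, hv⟩ := LinearMap.BilinForm.exists_orthogonal_basis
    (B := LinearMap.BilinForm.restrict (QuadraticMap.polarBilin Q) W)
    ⟨fun a b => Forms.polarBilin_swap (Q := Q) (b : V) (a : V)⟩
  have ho : ∀ i j, i ≠ j → QuadraticMap.polarBilin Q (v i : V) (v j : V) = 0 := fun i j h => hv h
  refine ⟨v, ho, fun i h0 => ?_⟩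
  refine v.ne_zero i (Subtype.ext (hW _ (v i).2 fun b hb => ?_))
  have h := congrArg Subtype.val (v.sum_repr ⟨b, hb⟩)
  rw [Submodule.coe_sum] at h
  change _ = b at h
  rw [← h, map_sum]
  refine Finset.sum_eq_zero fun j _ => ?_
  rw [Submodule.coe_smul, map_smul]
  by_cases hij : i = j
  · subst hij; rw [Forms.polarBilin_self, h0, mul_zero, smul_zero]
  · rw [ho i j hij, smul_zero]

/-- Planes for an isometric involution of determinant one. -/
theorem exists_pairs_of_invol (hQ : (QuadraticMap.polarBilin Q).Nondegenerate) (h2 : (2 : F) ≠ 0)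
    (x : V →ₗ[F] V) (hiso : ∀ a b, QuadraticMap.polarBilin Q (x a) (x b) = QuadraticMap.polarBilin Q a b)
    (hxx : ∀ v, x (x v) = v) (hdet : LinearMap.det x = 1) {d : ℕ} (hd : finrank F V = 2 * d) :
    ∃ (u : Module.Basis (Fin d × Fin 2) F V) (σ : Fin d → F), OrthPairs Q u ∧
      ∀ i s, x (u (i, s)) = σ i • u (i, s) := by
  classical
  have hadj : ∀ a b, QuadraticMap.polarBilin Q (x a) b = QuadraticMap.polarBilin Q a (x b) := fun a b => by
    conv_lhs => rw [← hxx b]
    rw [hiso]
  obtain ⟨hc, hU, hW, horth, -⟩ := LocalBalance.eigen_facts h2 (QuadraticMap.polarBilin Q) hQ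
    (fun a b => Forms.polarBilin_swap b a) x hadj hxx
  set A := finrank F (LinearMap.ker (x - 1)) with hA
  set B := finrank F (LinearMap.ker (x + 1)) with hB
  obtain ⟨vp, hvp, hvp0⟩ := exists_orth_sub (Q := Q) h2 (W := LinearMap.ker (x - 1)) fun a ha hab =>
    congrArg Subtype.val (hU.1 ⟨a, ha⟩ fun b => hab b.1 b.2)
  obtain ⟨vm, hvm, hvm0⟩ := exists_orth_sub (Q := Q) h2 (W := LinearMap.ker (x + 1)) fun a ha hab =>
    congrArg Subtype.val (hW.1 ⟨a, ha⟩ fun b => hab b.1 b.2)
  let u₀ : Module.Basis (Fin A ⊕ Fin B) F V :=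
    (vp.prod vm).map (Submodule.prodEquivOfIsCompl _ _ hc)
  have hu0l : ∀ i, u₀ (Sum.inl i) = (vp i : V) := fun i => by simp [u₀]
  have hu0r : ∀ i, u₀ (Sum.inr i) = (vm i : V) := fun i => by simp [u₀]
  have hxl : ∀ i, x (vp i : V) = (vp i : V) := fun i => sub_eq_zero.1 (vp i).2
  have hxr : ∀ i, x (vm i : V) = -(vm i : V) := fun i => add_eq_zero_iff_eq_neg.1 (vm i).2
  have hM : LinearMap.toMatrix u₀ u₀ x = Matrix.diagonal (Sum.elim (fun _ => 1) fun _ => -1) := by
    ext a b
    rw [LinearMap.toMatrix_apply]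
    rcases b with b | b
    · rw [hu0l, hxl, ← hu0l, u₀.repr_self, Finsupp.single_apply, Matrix.diagonal_apply]
      by_cases h : Sum.inl b = a
      · subst h; simp
      · simp [h, Ne.symm h]
    · rw [hu0r, hxr, map_neg, ← hu0r, u₀.repr_self, Finsupp.neg_apply, Finsupp.single_apply, Matrix.diagonal_apply]
      by_cases h : Sum.inr b = a
      · subst h; simp
      · simp [h, Ne.symm h]
  have hchar : ringChar F ≠ 2 := fun hh => h2 (by
    have := ringChar.Nat.cast_ringChar (R := F); rw [hh] at this; exact_mod_cast this)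
  obtain ⟨b, hb⟩ : Even B := by
    rw [← LinearMap.det_toMatrix u₀, hM, Matrix.det_diagonal, Fintype.prod_sum_type] at hdet
    simp only [Sum.elim_inl, Sum.elim_inr, Finset.prod_const_one, one_mul, Finset.prod_const, Finset.card_univ,
      Fintype.card_fin] at hdet
    exact (neg_one_pow_eq_one_iff_even (Ring.neg_one_ne_one_of_char_ne_two hchar)).1 hdet
  have hAB : A + B = 2 * d := by
    rw [← hd, Module.finrank_eq_card_basis u₀]; simp
  obtain ⟨a, ha⟩ : ∃ a, A = 2 * a := ⟨d - b, by omega⟩
  let E : Fin A ⊕ Fin B ≃ Fin d × Fin 2 :=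
    (((finCongr (show A = a * 2 by omega)).trans finProdFinEquiv.symm).sumCongr
      ((finCongr (show B = b * 2 by omega)).trans finProdFinEquiv.symm)).trans
      ((Equiv.sumProdDistrib (Fin a) (Fin b) (Fin 2)).symm.trans
        (((finSumFinEquiv).trans (finCongr (show a + b = d by omega))).prodCongr (Equiv.refl (Fin 2))))
  refine ⟨u₀.reindex E, fun i => Sum.elim (fun _ => (1 : F)) (fun _ => (-1 : F))
    ((finSumFinEquiv.trans (finCongr (show a + b = d by omega))).symm i), ⟨fun p q hpq => ?_, fun p => ?_⟩,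
    fun i s => ?_⟩
  · rw [Module.Basis.reindex_apply, Module.Basis.reindex_apply]
    have hne : E.symm p ≠ E.symm q := fun h => hpq (E.symm.injective h)
    rcases hp : E.symm p with i | i <;> rcases hq : E.symm q with j | j <;> simp only [hu0l, hu0r]
    · exact hvp i j fun h => hne (by rw [hp, hq, h])
    · exact horth _ _ (hxl i) (hxr j)
    · exact (Forms.polarBilin_swap _ _).trans (horth _ _ (hxl j) (hxr i))
    · exact hvm i j fun h => hne (by rw [hp, hq, h])
  · rw [Module.Basis.reindex_apply]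
    rcases E.symm p with i | i
    · rw [hu0l]; exact hvp0 i
    · rw [hu0r]; exact hvm0 i
  · rw [Module.Basis.reindex_apply]
    rcases hi : (finSumFinEquiv.trans (finCongr (show a + b = d by omega))).symm i with j | j
    · have e : E.symm (i, s) = Sum.inl ((finCongr (show A = a * 2 by omega)).symm (finProdFinEquiv (j, s))) := by
        rw [Equiv.symm_apply_eq]
        simp only [E, Equiv.trans_apply, Equiv.sumCongr_apply, Sum.map_inl, Equiv.apply_symm_apply,
          Equiv.symm_apply_apply, Equiv.sumProdDistrib_symm_apply_left, Equiv.prodCongr_apply, Prod.map_apply,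
          Equiv.refl_apply, Prod.mk.injEq, and_true]
        rw [Equiv.symm_apply_eq] at hi
        exact hi
      rw [e, hu0l, hxl]
      simp only [hi, Sum.elim_inl, one_smul]
    · have e : E.symm (i, s) = Sum.inr ((finCongr (show B = b * 2 by omega)).symm (finProdFinEquiv (j, s))) := by
        rw [Equiv.symm_apply_eq]
        simp only [E, Equiv.trans_apply, Equiv.sumCongr_apply, Sum.map_inr, Equiv.apply_symm_apply,
          Equiv.symm_apply_apply, Equiv.sumProdDistrib_symm_apply_right, Equiv.prodCongr_apply, Prod.map_apply,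
          Equiv.refl_apply, Prod.mk.injEq, and_true]
        rw [Equiv.symm_apply_eq] at hi
        exact hi
      rw [e, hu0r, hxr]
      simp only [hi, Sum.elim_inr, neg_one_smul]

/-- Planes for an isometry with square `-1`. -/
theorem exists_pairs_of_complex (hQ : (QuadraticMap.polarBilin Q).Nondegenerate) (h2 : (2 : F) ≠ 0)
    (x : V →ₗ[F] V) (hiso : ∀ a b, QuadraticMap.polarBilin Q (x a) (x b) = QuadraticMap.polarBilin Q a b)
    (hxx : ∀ v, x (x v) = -v) {d : ℕ} (hd : finrank F V = 2 * d) :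
    ∃ u : Module.Basis (Fin d × Fin 2) F V, OrthPairs Q u ∧
      ∀ i, x (u (i, 0)) = u (i, 1) ∧ x (u (i, 1)) = -u (i, 0) := by
  classical
  set β : LinearMap.BilinForm F V := QuadraticMap.polarBilin Q with hβ
  have hs : ∀ a b, β a b = β b a := fun a b => Forms.polarBilin_swap b a
  have hskew : ∀ a b, β (x a) b = -β a (x b) := fun a b => by
    rw [← hiso (x a) b, hxx, map_neg, LinearMap.neg_apply]
  have hself : ∀ a, β a (x a) = 0 := fun a => by
    have e := hskew a a
    rw [hs (x a) a] at e
    exact (mul_eq_zero.1 (show (2 : F) * β a (x a) = 0 by linear_combination e)).resolve_left h2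
  have main : ∀ k, k ≤ d → ∃ v : Fin k × Fin 2 → V, (∀ a b, a ≠ b → β (v a) (v b) = 0) ∧ (∀ a, Q (v a) ≠ 0) ∧
      ∀ i, v (i, 1) = x (v (i, 0)) := by
    intro k
    induction k with
    | zero => exact fun _ => ⟨fun a => a.1.elim0, fun a => a.1.elim0, fun a => a.1.elim0, fun i => i.elim0⟩
    | succ k ih =>
      intro hk
      obtain ⟨v, hv, hv0, hv1⟩ := ih (Nat.le_of_succ_le hk)
      set P := Submodule.span F (Set.range v)
      have hPo : ∀ y, (∀ a, β (v a) y = 0) → y ∈ LinearMap.BilinForm.orthogonal β P := fun y hy w hw => by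
        induction hw using Submodule.span_induction with
        | mem w hw => obtain ⟨a, rfl⟩ := hw; exact hy a
        | zero => exact LinearMap.BilinForm.zero_left _
        | add a b _ _ ha hb =>
          show β (a + b) y = 0
          rw [map_add, LinearMap.add_apply, show β a y = 0 from ha, show β b y = 0 from hb, add_zero]
        | smul c a _ ha =>
          show β (c • a) y = 0
          rw [map_smul, LinearMap.smul_apply, show β a y = 0 from ha, smul_zero]
      have hsep : (β.restrict P).Nondegenerate := by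
        have key : ∀ w : P, (∀ w' : P, β w.1 w'.1 = 0) → w = 0 := by
          intro w hw
          obtain ⟨c, hc⟩ := (Submodule.mem_span_range_iff_exists_fun F).1 w.2
          have hc0 : ∀ a, c a = 0 := fun a => by
            have h1 := hw ⟨v a, Submodule.subset_span ⟨a, rfl⟩⟩
            rw [← hc, map_sum, LinearMap.sum_apply, Finset.sum_eq_single a (fun b _ hb => by
              rw [map_smul, LinearMap.smul_apply, hv b a hb, smul_zero]) (fun h => absurd (Finset.mem_univ a) h),
              map_smul, LinearMap.smul_apply, hβ, Forms.polarBilin_self, smul_eq_mul] at h1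
            exact (mul_eq_zero.1 h1).resolve_right (mul_ne_zero h2 (hv0 a))
          exact Subtype.ext (by rw [← hc]; simp [hc0])
        exact ⟨key, fun w hw => key w fun w' => (hs _ _).trans (hw w')⟩
      have hcompl : IsCompl P (LinearMap.BilinForm.orthogonal β P) :=
        LinearMap.BilinForm.isCompl_orthogonal_of_restrict_nondegenerate (fun a b h => (hs b a).trans h) hsep
      obtain ⟨y, hy, hy0⟩ : ∃ y ∈ LinearMap.BilinForm.orthogonal β P, Q y ≠ 0 := by
        by_contra hno
        push Not at hno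
        have hPd : finrank F P ≤ 2 * k := (finrank_range_le_card v).trans (by simp; omega)
        have hne : LinearMap.BilinForm.orthogonal β P ≠ ⊥ := fun e => by
          have := Submodule.finrank_add_eq_of_isCompl hcompl
          rw [e, finrank_bot, hd] at this
          omega
        obtain ⟨a, ha, ha0⟩ := Submodule.exists_mem_ne_zero_of_ne_bot hne
        refine ha0 (hQ.1 a fun z => ?_)
        obtain ⟨z₁, hz₁, z₂, hz₂, rfl⟩ := Submodule.mem_sup.1 (show z ∈ P ⊔ LinearMap.BilinForm.orthogonal β P from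
          hcompl.sup_eq_top.symm ▸ Submodule.mem_top)
        have h3 := hno _ (Submodule.add_mem _ ha hz₂)
        rw [Forms.quadratic_map_add, hno a ha, hno z₂ hz₂, zero_add, zero_add, ← hβ] at h3
        rw [map_add, show β a z₁ = 0 from (hs _ _).trans (ha z₁ hz₁), h3, add_zero]
      have hy' : ∀ a, β (v a) y = 0 := fun a => hy _ (Submodule.subset_span ⟨a, rfl⟩)
      have hxy : ∀ a, β (v a) (x y) = 0 := by
        rintro ⟨i, s⟩
        have e : β (x (v (i, s))) y = 0 := by
          fin_cases s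
          · simpa [← hv1] using hy' (i, 1)
          · simpa [hv1, hxx] using hy' (i, 0)
        rw [hskew, neg_eq_zero] at e
        exact e
      have hQx : Q (x y) ≠ 0 := fun h0 => hy0 (by
        have e := hiso y y
        simp only [hβ, Forms.polarBilin_self, h0, mul_zero] at e
        exact (mul_eq_zero.1 e.symm).resolve_left h2)
      refine ⟨fun p => Fin.cases (if p.2 = 0 then y else x y) (fun i => v (i, p.2)) p.1, ?_, ?_, ?_⟩
      · rintro ⟨i, s⟩ ⟨j, t⟩ hne
        induction i using Fin.cases <;> induction j using Fin.cases <;> fin_cases s <;> fin_cases t <;>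
          simp only [Fin.zero_eta, Fin.mk_one, Fin.isValue, Fin.cases_zero, Fin.cases_succ, if_pos,
            one_ne_zero, if_false]
        all_goals first
          | exact absurd rfl hne
          | exact hself y
          | exact (hs _ _).trans (hself y)
          | exact hy' _
          | exact hxy _
          | exact (hs _ _).trans (hy' _)
          | exact (hs _ _).trans (hxy _)
          | exact hv _ _ fun h => hne (congrArg (fun p : Fin _ × Fin 2 => (p.1.succ, p.2)) h)
      · rintro ⟨i, s⟩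
        induction i using Fin.cases <;> fin_cases s <;>
          simp only [Fin.zero_eta, Fin.mk_one, Fin.isValue, Fin.cases_zero, Fin.cases_succ, if_pos,
            one_ne_zero, if_false]
        all_goals first
          | exact hy0
          | exact hQx
          | exact hv0 _
      · intro i
        induction i using Fin.cases with
        | zero => simp
        | succ i => simpa using hv1 i
  obtain ⟨v, hv, hv0, hv1⟩ := main d le_rfl
  have hli : LinearIndependent F v := LinearMap.linearIndependent_of_isOrthoᵢ (B := β) (fun a b h => hv a b h)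
    fun a h => hv0 a ((mul_eq_zero.1 ((Forms.polarBilin_self (Q := Q) (v a)).symm.trans h)).resolve_left h2)
  have hcard : Fintype.card (Fin d × Fin 2) = finrank F V := by simp [hd, mul_comm]
  rcases Nat.eq_zero_or_pos d with rfl | hd0
  · haveI : IsEmpty (Fin 0 × Fin 2) := ⟨fun a => a.1.elim0⟩
    haveI : Subsingleton V := Module.finrank_zero_iff.1 (by rw [hd])
    exact ⟨Module.Basis.empty V, ⟨fun a => a.1.elim0, fun a => a.1.elim0⟩, fun i => i.elim0⟩
  haveI : Nonempty (Fin d × Fin 2) := ⟨(⟨0, hd0⟩, 0)⟩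
  have hcoe := coe_basisOfLinearIndependentOfCardEqFinrank hli hcard
  refine ⟨basisOfLinearIndependentOfCardEqFinrank hli hcard, ⟨fun a b h => ?_, fun a => ?_⟩, fun i => ?_⟩
  · rw [hcoe]; exact hv a b h
  · rw [hcoe]; exact hv0 a
  · rw [hcoe]; exact ⟨(hv1 i).symm, by rw [hv1, hxx]⟩

end Planes

section Group

variable {ι : Type} [Fintype ι] [DecidableEq ι] {Q : QuadraticForm F (ι → F)}

open QForm (act act_refl)

/-- Two classes of reflections cover the quotient by `Omega`. -/
theorem exists_cover (hQ : (QuadraticMap.polarBilin Q).Nondegenerate) (h2 : (2 : F) ≠ 0)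
    {w₁ w₂ : ι → F} (h₁ : Q w₁ ≠ 0) (h₂ : Q w₂ ≠ 0) (hs₁ : IsSquare (Q w₁)) (hs₂ : ¬ IsSquare (Q w₂))
    (g : ↥(isometryGroup F ⇑Q)) :
    ∃ s, (s = 1 ∨ s = QForm.refl Q w₁ h₁ ∨ s = QForm.refl Q w₂ h₂ ∨
      s = QForm.refl Q w₁ h₁ * QForm.refl Q w₂ h₂) ∧ s * g ∈ Omega F ⇑Q := by
  classical
  set a := Abelianization.of (QForm.refl Q w₁ h₁)
  set b := Abelianization.of (QForm.refl Q w₂ h₂)
  have hF : Fintype.card F ≠ 2 := fun hc => h2 (by
    have : ((2 : ℕ) : F) = 0 := by rw [← hc, FiniteField.cast_card_eq_zero]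
    exact_mod_cast this)
  have haa : a * a = 1 := by rw [← map_mul, QForm.refl_mul_self, map_one]
  have hbb : b * b = 1 := by rw [← map_mul, QForm.refl_mul_self, map_one]
  have hcl : ∀ v (hv : Q v ≠ 0), Abelianization.of (QForm.refl Q v hv) = a ∨
      Abelianization.of (QForm.refl Q v hv) = b := by
    intro v hv
    by_cases hsq : IsSquare (Q v)
    · exact Or.inl (QForm.of_refl_eq hQ hv h₁ (hsq.mul hs₁))
    · refine Or.inr (QForm.of_refl_eq hQ hv h₂ ?_)
      rw [QForm.isSquare_mul_nonsquare_iff hv hs₂]; exact hsq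
  have key : ∀ (vs : List (ι → F)), (∀ v ∈ vs, Q v ≠ 0) → ∀ g : ↥(isometryGroup F ⇑Q),
      ((g : Matrix.GeneralLinearGroup ι F) : Matrix ι ι F) = (vs.map fun v => reflectionMatrix ⇑Q v).prod →
      Abelianization.of g = 1 ∨ Abelianization.of g = a ∨ Abelianization.of g = b ∨
        Abelianization.of g = a * b := by
    intro vs
    induction vs with
    | nil =>
      intro _ g hg
      obtain rfl : g = 1 := Subtype.ext (Units.ext hg)
      exact Or.inl (map_one _)
    | cons v vs ih =>
      intro hvs g hg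
      have hv := hvs v List.mem_cons_self
      obtain ⟨g', hg'⟩ := QForm.exists_prod_refl Q vs fun w hw => hvs w (List.mem_cons_of_mem _ hw)
      obtain rfl : g = QForm.refl Q v hv * g' := Subtype.ext (Units.ext (by
        rw [hg, List.map_cons, List.prod_cons, ← hg']; rfl))
      rw [map_mul]
      rcases hcl v hv with e | e <;>
        rcases ih (fun w hw => hvs w (List.mem_cons_of_mem _ hw)) g' hg' with e' | e' | e' | e' <;>
        rw [e, e']
      · exact Or.inr (Or.inl (mul_one a))
      · exact Or.inl haa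
      · exact Or.inr (Or.inr (Or.inr rfl))
      · exact Or.inr (Or.inr (Or.inl (by rw [← mul_assoc, haa, one_mul])))
      · exact Or.inr (Or.inr (Or.inl (mul_one b)))
      · exact Or.inr (Or.inr (Or.inr (mul_comm _ _)))
      · exact Or.inl hbb
      · exact Or.inr (Or.inl (by rw [mul_left_comm, hbb, mul_one]))
  obtain ⟨vs, hvs, hg⟩ := QForm.exists_list hQ (Or.inl hF) g
  rcases key vs hvs g hg with e | e | e | e
  · exact ⟨1, Or.inl rfl, by rwa [one_mul, QForm.mem_omega_iff_abelianization]⟩
  · exact ⟨_, Or.inr (Or.inl rfl), by rw [QForm.mem_omega_iff_abelianization, map_mul, e]; exact haa⟩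
  · exact ⟨_, Or.inr (Or.inr (Or.inl rfl)), by rw [QForm.mem_omega_iff_abelianization, map_mul, e]; exact hbb⟩
  · exact ⟨_, Or.inr (Or.inr (Or.inr rfl)), by
      rw [QForm.mem_omega_iff_abelianization, map_mul, map_mul, e, mul_mul_mul_comm, haa, hbb, one_mul]⟩

/-- For each coset of `Omega` some conjugate of `x` still commutes or anticommutes with the self-adjoint map. -/
theorem exists_compat_cover (hQ : (QuadraticMap.polarBilin Q).Nondegenerate) (h2 : (2 : F) ≠ 0) {δ : F}
    (hδ : δ ≠ 0) {d : ℕ} (hd0 : 1 ≤ d) (hι : Fintype.card ι = 2 * d) (x : ↥(isometryGroup F ⇑Q))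
    (hdet : ((x : GL ι F) : Matrix ι ι F).det = 1)
    (hxx : (∀ v, act Q x (act Q x v) = v) ∨ ∀ v, act Q x (act Q x v) = -v) :
    ∃ (G : (ι → F) →ₗ[F] (ι → F)), (∀ v, G (G v) = δ • v) ∧
      (∀ a b, QuadraticMap.polarBilin Q (G a) b = QuadraticMap.polarBilin Q a (G b)) ∧
      ∀ g : ↥(isometryGroup F ⇑Q), ∃ (s : ↥(isometryGroup F ⇑Q)) (τ : F), (τ = 1 ∨ τ = -1) ∧
        s * g ∈ Omega F ⇑Q ∧ ∀ v, act Q (s⁻¹ * x * s) (G v) = τ • G (act Q (s⁻¹ * x * s) v) := by
  classical
  set xl : (ι → F) →ₗ[F] (ι → F) := Matrix.toLin' ((x : GL ι F) : Matrix ι ι F) with hxl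
  have hact : ∀ v, act Q x v = xl v := fun v => (Matrix.toLin'_apply _ v).symm
  have hiso : ∀ a b, QuadraticMap.polarBilin Q (xl a) (xl b) = QuadraticMap.polarBilin Q a b := fun a b => by
    rw [← hact, ← hact]; exact QForm.act_polar Q x a b
  have hfr : finrank F (ι → F) = 2 * d := by rw [Module.finrank_fintype_fun_eq_card, hι]
  let i₀ : Fin d := ⟨0, hd0⟩
  have hchar : ringChar F ≠ 2 := fun hh => h2 (by
    have := ringChar.Nat.cast_ringChar (R := F); rw [hh] at this; exact_mod_cast this)
  obtain ⟨ν, hν⟩ := FiniteField.exists_nonsquare hchar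
  have hν0 : ν ≠ 0 := fun h => hν (h ▸ IsSquare.zero)
  have hrep : ∀ u : Module.Basis (Fin d × Fin 2) F (ι → F), OrthPairs Q u → ∀ c : F, c ≠ 0 →
      ∃ s t : F, Q (s • u (i₀, 0) + t • u (i₀, 1)) = c := fun u hu c hc => by
    obtain ⟨s, t, hst⟩ := QForm.exists_two_squares_eq_one h2
      (div_ne_zero (hu.aniso (i₀, 0)) hc) (div_ne_zero (hu.aniso (i₀, 1)) hc)
    refine ⟨s, t, ?_⟩
    rw [Forms.quadratic_map_add, QuadraticMap.map_smul, QuadraticMap.map_smul, map_smul, map_smul,
      LinearMap.smul_apply, hu.orth _ _ (by simp), smul_zero, smul_zero, add_zero, smul_eq_mul, smul_eq_mul]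
    field_simp at hst
    linear_combination hst
  rcases hxx with hxx | hxx
  · obtain ⟨u, σ, hu, hxu⟩ := exists_pairs_of_invol hQ h2 xl hiso (fun v => by rw [← hact, ← hact, hxx])
      (by rw [hxl, LinearMap.det_toLin', hdet]) hfr
    obtain ⟨G, a, b, hGG, hGs, hGu⟩ := exists_plane_map h2 hδ hu
    have hcom : ∀ v, xl (G v) = G (xl v) := fun v => by
      have : xl.comp G = G.comp xl := u.ext fun ⟨i, s⟩ => by
        fin_cases s
        · show xl (G (u (i, 0))) = G (xl (u (i, 0)))
          rw [hxu, map_smul, (hGu i).1, map_add, map_smul, map_smul, hxu, hxu]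
          module
        · show xl (G (u (i, 1))) = G (xl (u (i, 1)))
          rw [hxu, map_smul, (hGu i).2, map_sub, map_smul, map_smul, hxu, hxu]
          module
      exact LinearMap.congr_fun this v
    obtain ⟨s₁, t₁, e₁⟩ := hrep u hu 1 one_ne_zero
    obtain ⟨s₂, t₂, e₂⟩ := hrep u hu ν hν0
    have hcomm : ∀ (s t : F) (hw : Q (s • u (i₀, 0) + t • u (i₀, 1)) ≠ 0),
        x * QForm.refl Q (s • u (i₀, 0) + t • u (i₀, 1)) hw = QForm.refl Q (s • u (i₀, 0) + t • u (i₀, 1)) hw * x := by
      intro s t hw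
      have hxw : act Q x (s • u (i₀, 0) + t • u (i₀, 1)) = σ i₀ • (s • u (i₀, 0) + t • u (i₀, 1)) := by
        rw [hact, map_add, map_smul, map_smul, hxu, hxu]; module
      have h := QForm.conj_refl Q x _ hw
      rw [QForm.refl_congr Q hw _ hxw] at h
      rwa [mul_inv_eq_iff_eq_mul] at h
    refine ⟨G, hGG, hGs, fun g => ?_⟩
    obtain ⟨s, hs, hsg⟩ := exists_cover hQ h2 (w₁ := s₁ • u (i₀, 0) + t₁ • u (i₀, 1))
      (w₂ := s₂ • u (i₀, 0) + t₂ • u (i₀, 1)) (by rw [e₁]; exact one_ne_zero) (by rw [e₂]; exact hν0)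
      (by rw [e₁]; exact IsSquare.one) (by rw [e₂]; exact hν) g
    refine ⟨s, 1, Or.inl rfl, hsg, fun v => ?_⟩
    have hsx : Commute x s := by
      rcases hs with rfl | rfl | rfl | rfl
      · exact Commute.one_right x
      · exact hcomm _ _ _
      · exact hcomm _ _ _
      · exact Commute.mul_right (hcomm _ _ _) (hcomm _ _ _)
    rw [mul_assoc, hsx.eq, ← mul_assoc, inv_mul_cancel, one_mul, one_smul, hact, hact, hcom]
  · obtain ⟨u, hu, hxu⟩ := exists_pairs_of_complex hQ h2 xl hiso (fun v => by rw [← hact, ← hact, hxx]) hfr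
    obtain ⟨G, a, b, hGG, hGs, hGu⟩ := exists_plane_map h2 hδ hu
    have hg : ∀ i, Q (u (i, 1)) = Q (u (i, 0)) := fun i => by
      rw [← (hxu i).1, ← hact, QForm.act_map]
    have hcom : ∀ v, xl (G v) = -G (xl v) := fun v => by
      have : xl.comp G = -G.comp xl := u.ext fun ⟨i, s⟩ => by
        fin_cases s
        · show xl (G (u (i, 0))) = -G (xl (u (i, 0)))
          rw [(hxu i).1, (hGu i).1, (hGu i).2, map_add, map_smul, map_smul, (hxu i).1, (hxu i).2, hg]
          module
        · show xl (G (u (i, 1))) = -G (xl (u (i, 1)))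
          rw [(hxu i).2, map_neg, (hGu i).1, (hGu i).2, map_sub, map_smul, map_smul, (hxu i).1, (hxu i).2, hg]
          module
      exact LinearMap.congr_fun this v
    set u0 := u (i₀, 0) with hu0
    set u1 := u (i₀, 1) with hu1
    have h01 : QuadraticMap.polarBilin Q u0 u1 = 0 := hu.orth _ _ (by simp)
    have hq0 : Q u0 ≠ 0 := hu.aniso _
    have hq1 : Q u1 = Q u0 := hg i₀
    let T : ↥(isometryGroup F ⇑Q) := QForm.refl Q u1 (hu.aniso _) * QForm.refl Q u0 (hu.aniso _)
    -- the action of `T`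
    have hT : ∀ y, act Q T y = y - ((Q u0)⁻¹ * QuadraticMap.polar ⇑Q u1 y) • u1 -
        ((Q u0)⁻¹ * QuadraticMap.polar ⇑Q u0 y) • u0 := fun y => by
      rw [show act Q T y = act Q (QForm.refl Q u1 (hu.aniso _)) (act Q (QForm.refl Q u0 (hu.aniso _)) y) from
        QForm.act_mul Q _ _ y, act_refl, act_refl, hq1]
      simp only [← QuadraticMap.polarBilin_apply_apply, map_sub, map_smul,
        (Forms.polarBilin_swap u0 u1).trans h01, smul_zero, sub_zero]
      abel
    have hTG : ∀ y, act Q T (G y) = G (act Q T y) := by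
      intro y
      have : (Matrix.toLin' ((T : GL ι F) : Matrix ι ι F)).comp G =
          G.comp (Matrix.toLin' ((T : GL ι F) : Matrix ι ι F)) := u.ext fun ⟨i, s⟩ => by
        have hTu : ∀ p : Fin d × Fin 2, Matrix.toLin' ((T : GL ι F) : Matrix ι ι F) (u p) =
            (if p.1 = i₀ then (-1 : F) else 1) • u p := by
          rintro ⟨j, t⟩
          rw [Matrix.toLin'_apply, show ((T : GL ι F) : Matrix ι ι F) *ᵥ u (j, t) = act Q T (u (j, t)) from rfl, hT]
          simp only [← QuadraticMap.polarBilin_apply_apply]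
          by_cases hj : j = i₀
          · subst hj
            rw [if_pos rfl]
            fin_cases t <;> simp only [Fin.zero_eta, Fin.mk_one, Fin.isValue, ← hu0, ← hu1,
              Forms.polarBilin_self, h01, (Forms.polarBilin_swap u0 u1).trans h01, hq1, mul_zero, zero_smul,
              sub_zero] <;> (match_scalars <;> field_simp <;> ring)
          · rw [if_neg hj, hu0, hu1, hu.orth (i₀, 1) (j, t) (by simp [Ne.symm hj]),
              hu.orth (i₀, 0) (j, t) (by simp [Ne.symm hj])]
            simp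
        fin_cases s
        · show Matrix.toLin' _ (G (u (i, 0))) = G (Matrix.toLin' _ (u (i, 0)))
          rw [hTu, (hGu i).1, map_smul, map_add, map_smul, map_smul, hTu, hTu, (hGu i).1]
          module
        · show Matrix.toLin' _ (G (u (i, 1))) = G (Matrix.toLin' _ (u (i, 1)))
          rw [hTu, (hGu i).2, map_smul, map_sub, map_smul, map_smul, hTu, hTu, (hGu i).2]
          module
      have h := LinearMap.congr_fun this y
      rw [LinearMap.comp_apply, LinearMap.comp_apply, Matrix.toLin'_apply, Matrix.toLin'_apply] at h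
      exact h
    -- the reflections of the plane
    have hkey : ∀ (s t : F) (hw : Q (s • u0 + t • u1) ≠ 0),
        x * QForm.refl Q (s • u0 + t • u1) hw * x⁻¹ = T * QForm.refl Q (s • u0 + t • u1) hw ∧
        T * QForm.refl Q (s • u0 + t • u1) hw = QForm.refl Q (s • u0 + t • u1) hw * T := by
      intro s t hw
      set w := s • u0 + t • u1 with hwdef
      have hxw : act Q x w = -t • u0 + s • u1 := by
        rw [hwdef, hact, map_add, map_smul, map_smul, hu0, hu1, (hxu i₀).1, (hxu i₀).2]; module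
      have hQw : Q w = (s * s + t * t) * Q u0 := by
        rw [hwdef, Forms.quadratic_map_add, QuadraticMap.map_smul, QuadraticMap.map_smul, map_smul, map_smul,
          LinearMap.smul_apply, h01, hq1]
        simp only [smul_eq_mul, mul_zero, add_zero]; ring
      have hst : s * s + t * t ≠ 0 := fun h0 => hw (by rw [hQw, h0, zero_mul])
      have hst2 : s ^ 2 + t ^ 2 ≠ 0 := by rw [pow_two, pow_two]; exact hst
      have hst3 : t ^ 2 + s ^ 2 ≠ 0 := by rw [add_comm]; exact hst2
      have hxwQ : Q (act Q x w) ≠ 0 := by rw [QForm.act_map]; exact hw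
      have hperp : QuadraticMap.polarBilin Q (act Q x w) w = 0 := by
        rw [hxw, hwdef]
        simp only [map_add, map_smul, LinearMap.add_apply, LinearMap.smul_apply, h01,
          (Forms.polarBilin_swap u0 u1).trans h01, Forms.polarBilin_self, hq1, smul_eq_mul]
        ring
      have hprod : QForm.refl Q (act Q x w) hxwQ * QForm.refl Q w hw = T ∧
          QForm.refl Q w hw * QForm.refl Q (act Q x w) hxwQ = T := by
        constructor <;> refine QForm.isometry_ext Q fun y => ?_ <;>
          rw [QForm.act_mul, act_refl, act_refl, hT, QForm.act_map] <;>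
          simp only [← QuadraticMap.polarBilin_apply_apply, map_sub, map_smul, smul_eq_mul, hperp,
            (Forms.polarBilin_swap (act Q x w) w).trans hperp, mul_zero, sub_zero] <;>
          rw [hQw, hxw, hwdef] <;>
          simp only [map_add, map_smul, LinearMap.add_apply, LinearMap.smul_apply, smul_eq_mul] <;>
          match_scalars <;> field_simp [hq0, hst, hst2, hst3] <;> ring1
      have h := QForm.conj_refl Q x w hw
      have e1 : QForm.refl Q (act Q x w) hxwQ = T * QForm.refl Q w hw := by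
        rw [← hprod.1, mul_assoc, QForm.refl_mul_self, mul_one]
      have e2 : QForm.refl Q (act Q x w) hxwQ = QForm.refl Q w hw * T := by
        rw [← hprod.2, ← mul_assoc, QForm.refl_mul_self, one_mul]
      exact ⟨h.trans e1, e1.symm.trans e2⟩
    have hTT : T * T = 1 := by
      obtain ⟨-, h⟩ := hkey 1 0 (by simpa using hq0)
      simp only [one_smul, zero_smul, add_zero] at h
      calc T * T = T * (QForm.refl Q u1 (hu.aniso _) * QForm.refl Q u0 (hu.aniso _)) := rfl
        _ = 1 := by
          obtain ⟨-, h'⟩ := hkey 0 1 (by simpa [hq1] using hq0)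
          simp only [one_smul, zero_smul, zero_add] at h'
          rw [← mul_assoc, h', mul_assoc, h, ← mul_assoc,
            show QForm.refl Q u1 (hu.aniso _) * QForm.refl Q u0 (hu.aniso _) = T from rfl]
          show T * T = 1
          refine QForm.isometry_ext Q fun y => ?_
          rw [QForm.act_mul, QForm.act_one, hT, hT]
          simp only [← QuadraticMap.polarBilin_apply_apply, map_sub, map_smul, smul_eq_mul, h01,
            (Forms.polarBilin_swap u0 u1).trans h01, Forms.polarBilin_self, hq1]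
          match_scalars <;> field_simp <;> ring
    obtain ⟨s₁, t₁, e₁⟩ := hrep u hu 1 one_ne_zero
    obtain ⟨s₂, t₂, e₂⟩ := hrep u hu ν hν0
    refine ⟨G, hGG, hGs, fun g => ?_⟩
    obtain ⟨s, hs, hsg⟩ := exists_cover hQ h2 (w₁ := s₁ • u0 + t₁ • u1)
      (w₂ := s₂ • u0 + t₂ • u1) (by rw [e₁]; exact one_ne_zero) (by rw [e₂]; exact hν0)
      (by rw [e₁]; exact IsSquare.one) (by rw [e₂]; exact hν) g
    have hx' : s⁻¹ * x * s = x ∨ s⁻¹ * x * s = T * x := by
      have one : ∀ (p q : F) (hw : Q (p • u0 + q • u1) ≠ 0),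
          (QForm.refl Q (p • u0 + q • u1) hw)⁻¹ * x * QForm.refl Q (p • u0 + q • u1) hw = T * x := by
        intro p q hw
        obtain ⟨k1, k2⟩ := hkey p q hw
        rw [mul_inv_eq_iff_eq_mul] at k1
        rw [inv_eq_of_mul_eq_one_right (QForm.refl_mul_self Q _ hw), mul_assoc, k1, k2, ← mul_assoc,
          ← mul_assoc, QForm.refl_mul_self, one_mul]
      rcases hs with rfl | rfl | rfl | rfl
      · exact Or.inl (by rw [inv_one, one_mul, mul_one])
      · exact Or.inr (one _ _ _)
      · exact Or.inr (one _ _ _)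
      · refine Or.inl ?_
        set r₁ := QForm.refl Q (s₁ • u0 + t₁ • u1) (by rw [e₁]; exact one_ne_zero)
        set r₂ := QForm.refl Q (s₂ • u0 + t₂ • u1) (by rw [e₂]; exact hν0)
        have h1 : r₁⁻¹ * x * r₁ = T * x := one _ _ _
        have h2' : r₂⁻¹ * x * r₂ = T * x := one _ _ _
        have h3 : r₂⁻¹ * T * r₂ = T := by
          rw [mul_assoc, (hkey s₂ t₂ (by rw [e₂]; exact hν0)).2, ← mul_assoc, inv_mul_cancel, one_mul]
        calc (r₁ * r₂)⁻¹ * x * (r₁ * r₂) = r₂⁻¹ * (r₁⁻¹ * x * r₁) * r₂ := by group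
          _ = (r₂⁻¹ * T * r₂) * (r₂⁻¹ * x * r₂) := by rw [h1]; group
          _ = x := by rw [h3, h2', ← mul_assoc, hTT, one_mul]
    refine ⟨s, -1, Or.inr rfl, hsg, fun v => ?_⟩
    rcases hx' with e | e <;> rw [e, neg_one_smul]
    · rw [hact, hact, hcom]
    · rw [QForm.act_mul Q T x (G v), QForm.act_mul Q T x v, hact (G v), hact v, hcom, ← hTG]
      exact Matrix.mulVec_neg _ _

/-- Every element of `Omega` with scalar square is conjugate in `Omega` into the normaliser. -/
theorem SymGen.conj_of_two {K : Subalgebra F (Matrix ι ι F)} {ε : Matrix ι ι F} {δ : F} (h : SymGen Q K ε δ)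
    (hQ : (QuadraticMap.polarBilin Q).Nondegenerate) (h2 : (2 : F) ≠ 0) {d : ℕ} (hd0 : 1 ≤ d)
    (hι : Fintype.card ι = 2 * d) {x : GL ι F} (hx : x ∈ Geo.omegaGL ⇑Q) {z : F}
    (hz : ((x ^ 2 : GL ι F) : Matrix ι ι F) = z • (1 : Matrix ι ι F)) :
    ∃ g ∈ Geo.omegaGL ⇑Q, g⁻¹ * x * g ∈ Geo.subalgebraNormalizer K := by
  classical
  obtain ⟨x, hxΩ, rfl⟩ := hx
  have hz1 : z * z = 1 := by
    obtain ⟨v, hv⟩ := QForm.exists_ne_zero hQ (by omega)
    have e : Q (act Q (x ^ 2) v) = Q v := QForm.act_map Q _ v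
    rw [show act Q (x ^ 2) v = z • v by
      show (((x : GL ι F) ^ 2 : GL ι F) : Matrix ι ι F) *ᵥ v = z • v
      rw [show (isometryGroup F ⇑Q).subtype x = (x : GL ι F) from rfl] at hz
      rw [hz, Matrix.smul_mulVec, Matrix.one_mulVec], QuadraticMap.map_smul, smul_eq_mul] at e
    exact mul_right_cancel₀ hv (e.trans (one_mul _).symm)
  have hxx : (∀ v, act Q x (act Q x v) = v) ∨ ∀ v, act Q x (act Q x v) = -v := by
    have hx2 : ∀ v, act Q x (act Q x v) = z • v := fun v => by
      rw [← QForm.act_mul, ← pow_two]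
      show (((x : GL ι F) ^ 2 : GL ι F) : Matrix ι ι F) *ᵥ v = z • v
      rw [show (isometryGroup F ⇑Q).subtype x = (x : GL ι F) from rfl] at hz
      rw [hz, Matrix.smul_mulVec, Matrix.one_mulVec]
    rcases mul_self_eq_one_iff.1 hz1 with rfl | rfl
    · exact Or.inl fun v => by rw [hx2, one_smul]
    · exact Or.inr fun v => by rw [hx2, neg_one_smul]
  have hdet : ((x : GL ι F) : Matrix ι ι F).det = 1 := congrArg Units.val
    (QForm.omega_le_ker Q (Matrix.GeneralLinearGroup.det.comp (isometryGroup F ⇑Q).subtype) hxΩ)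
  obtain ⟨G', hG'G', hG's, hcov⟩ := exists_compat_cover hQ h2 h.delta_ne hd0 hι x hdet hxx
  obtain ⟨n, rfl⟩ : ∃ n, d = n + 1 := ⟨d - 1, by omega⟩
  obtain ⟨g₀, hg₀, hg₀G⟩ := exists_conj h.nonsq h2 hQ (G := Matrix.toLin' ε) (G' := G') (fun v => by
      rw [Matrix.toLin'_apply, Matrix.toLin'_apply, Matrix.mulVec_mulVec, h.sq, Matrix.smul_mulVec,
        Matrix.one_mulVec]) hG'G'
    (fun a b => by rw [Matrix.toLin'_apply, Matrix.toLin'_apply]; exact h.self a b) hG's (n := n)
    (by rw [Module.finrank_fintype_fun_eq_card, hι])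
  let g : ↥(isometryGroup F ⇑Q) := ⟨(Forms.glEquiv ι F).symm g₀, fun u _ => by
    show Q ((((Forms.glEquiv ι F).symm g₀) : GL ι F).1 *ᵥ u) = Q u
    rw [← Forms.glEquiv_apply, MulEquiv.apply_symm_apply]; exact hg₀ u⟩
  have hgact : ∀ v, act Q g v = g₀ v := fun v => by
    show (((Forms.glEquiv ι F).symm g₀) : GL ι F).1 *ᵥ v = g₀ v
    rw [← Forms.glEquiv_apply, MulEquiv.apply_symm_apply]
  obtain ⟨s, τ, hτ, hsg, hcomp⟩ := hcov g
  refine ⟨_, ⟨s * g, hsg, rfl⟩, h.mem_normalizer _ τ hτ (Matrix.ext_iff_mulVec.2 fun v => ?_)⟩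
  have hy : ((((isometryGroup F ⇑Q).subtype (s * g))⁻¹ * (isometryGroup F ⇑Q).subtype x *
      (isometryGroup F ⇑Q).subtype (s * g) : GL ι F) : Matrix ι ι F) =
      (((g⁻¹ * (s⁻¹ * x * s) * g : ↥(isometryGroup F ⇑Q)) : GL ι F) : Matrix ι ι F) := by
    rw [← map_inv, ← map_mul, ← map_mul, show (s * g)⁻¹ * x * (s * g) = g⁻¹ * (s⁻¹ * x * s) * g by group]
    rfl
  rw [hy, ← Matrix.mulVec_mulVec, Matrix.smul_mulVec, ← Matrix.mulVec_mulVec]
  show act Q (g⁻¹ * (s⁻¹ * x * s) * g) (ε *ᵥ v) = τ • (ε *ᵥ act Q (g⁻¹ * (s⁻¹ * x * s) * g) v)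
  refine QForm.act_injective g ?_
  have hgG : ∀ w, act Q g (ε *ᵥ w) = G' (act Q g w) := fun w => by
    rw [hgact, hgact, ← Matrix.toLin'_apply, hg₀G]
  have key : ∀ (y : ↥(isometryGroup F ⇑Q)) w, act Q g (act Q (g⁻¹ * y * g) w) = act Q y (act Q g w) := fun y w => by
    rw [← QForm.act_mul, ← QForm.act_mul, ← mul_assoc, ← mul_assoc, mul_inv_cancel, one_mul]
  calc act Q g (act Q (g⁻¹ * (s⁻¹ * x * s) * g) (ε *ᵥ v))
      = act Q (s⁻¹ * x * s) (G' (act Q g v)) := by rw [key, hgG]
    _ = τ • G' (act Q (s⁻¹ * x * s) (act Q g v)) := hcomp _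
    _ = τ • act Q g (ε *ᵥ act Q (g⁻¹ * (s⁻¹ * x * s) * g) v) := by rw [hgG, key]
    _ = act Q g (τ • (ε *ᵥ act Q (g⁻¹ * (s⁻¹ * x * s) * g) v)) := (Matrix.mulVec_smul _ _ _).symm

end Group

end Cfsg.Agent.Elusive.ExtField.Orth
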