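import Cfsg.Agent.Lib.Elusive.ExtField.SympModel
import Cfsg.Agent.Lib.GL.SympOrders

/-!
Elements of prime order of the symplectic group with prescribed rank of `x - 1`, and the arithmetic of the index.
-/

set_option autoImplicit false
set_option linter.unusedSectionVars false
set_option linter.style.haveILetI false

open scoped Matrix MatrixGroups

namespace Cfsg.Agent.Elusive.ExtField

open Module (finrank)
open Polynomial (aeval X)

variable {F : Type*} [Field F] [Fintype F] {d : ℕ}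

local notation "𝕍" => Fin d ⊕ Fin d → F
local notation "𝕄" => Matrix (Fin d ⊕ Fin d) (Fin d ⊕ Fin d) F

theorem not_scalar_of_rank {ι : Type} [Fintype ι] [DecidableEq ι] {x : Matrix ι ι F}
    (h0 : (x - 1).rank ≠ 0) (h1 : (x - 1).rank ≠ Fintype.card ι) (z : F) : x ≠ z • 1 := by
  intro h
  have e : x - 1 = Matrix.diagonal fun _ => z - 1 := by
    rw [h, Matrix.smul_one_eq_diagonal, ← Matrix.diagonal_one, Matrix.diagonal_sub]
  classical
  rw [e, Matrix.rank_diagonal] at h0 h1
  by_cases hz : z - 1 = 0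
  · simp [hz] at h0
  · simp [hz] at h1

/-- A symplectic transvection. -/
theorem exists_transvection (p : ℕ) [hp : Fact p.Prime] [CharP F p] (hd : 1 ≤ d) :
    ∃ x ∈ spGL d F, x ^ p = 1 ∧ (x.1 - 1).rank = 1 := by
  classical
  set v : 𝕍 := Pi.single (Sum.inl ⟨0, hd⟩) 1 with hv
  set J := Matrix.J (Fin d) F with hJ
  have hmem := ClassicalSimple.sympTransvection_mem (F := F) v 1
  have hN : sympTransvection d v 1 - 1 = Matrix.vecMulVec v (J *ᵥ v) := by
    rw [sympTransvection, one_smul, add_sub_cancel_left]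
  have hJv : J *ᵥ v ≠ 0 := fun h => by
    have := Matrix.mulVec_injective_iff_isUnit.2 ((Matrix.isUnit_iff_isUnit_det _).2
      (Matrix.isUnit_det_J _ _)) (h.trans (Matrix.mulVec_zero _).symm)
    simp [hv] at this
  let x : GL (Fin d ⊕ Fin d) F := ((Forms.spEquivPreserving d F) ⟨_, hmem⟩).1
  have hx : x.1 = sympTransvection d v 1 := rfl
  refine ⟨x, ((Forms.spEquivPreserving d F) ⟨_, hmem⟩).2, Units.ext ?_, ?_⟩
  · rw [Units.val_pow_eq_pow_val, hx, sympTransvection, one_smul, Units.val_one]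
    have hsq : Matrix.vecMulVec v (J *ᵥ v) * Matrix.vecMulVec v (J *ᵥ v) = 0 := by
      rw [Matrix.vecMulVec_mul_vecMulVec]
      have h0 : (J *ᵥ v) ⬝ᵥ v = 0 := by
        rw [dotProduct_comm]
        exact (Forms.sympB_apply v v).symm.trans (Forms.sympB_isAlt d v)
      simp [h0]
    haveI : Nonempty (Fin d ⊕ Fin d) := ⟨Sum.inl ⟨0, hd⟩⟩
    rw [add_pow_char_of_commute p (Commute.one_left _), one_pow,
      show p = 2 + (p - 2) by have := hp.out.two_le; omega, pow_add, sq, hsq, zero_mul, add_zero]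
  · rw [hx, hN]
    refine le_antisymm (Matrix.rank_vecMulVec_le _ _) (Nat.one_le_iff_ne_zero.2 fun h0 => hJv ?_)
    rw [rank_eq_finrank, Submodule.finrank_eq_zero, LinearMap.range_eq_bot] at h0
    funext j
    have := congrFun (LinearMap.congr_fun h0 (Pi.single j 1)) (Sum.inl ⟨0, hd⟩)
    simpa [Matrix.toLin'_apply, Matrix.vecMulVec, hv] using this

/-- The element `-1` on one hyperbolic plane. -/
theorem exists_rank_two (h2 : (2 : F) ≠ 0) (hd : 1 ≤ d) :
    ∃ x ∈ spGL d F, x ^ 2 = 1 ∧ (x.1 - 1).rank = 2 := by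
  classical
  set w : Fin d ⊕ Fin d → F := fun j => if (Sum.elim id id j : Fin d) = ⟨0, hd⟩ then -1 else 1 with hw
  have hww : ∀ j, w j * w j = 1 := fun j => by rw [hw]; dsimp only; split <;> simp
  let x : GL (Fin d ⊕ Fin d) F := ⟨Matrix.diagonal w, Matrix.diagonal w,
    by rw [Matrix.diagonal_mul_diagonal]; simp [hww], by rw [Matrix.diagonal_mul_diagonal]; simp [hww]⟩
  refine ⟨x, fun u v => ?_, Units.ext ?_, ?_⟩
  · show sympForm d F (Matrix.diagonal w *ᵥ u) (Matrix.diagonal w *ᵥ v) = sympForm d F u v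
    rw [Forms.sympForm_eq_sum, Forms.sympForm_eq_sum]
    refine Finset.sum_congr rfl fun i _ => ?_
    have e : w (Sum.inl i) = w (Sum.inr i) := rfl
    simp only [Matrix.mulVec_diagonal, e]
    linear_combination (u (Sum.inr i) * v (Sum.inl i) - u (Sum.inl i) * v (Sum.inr i)) * hww (Sum.inr i)
  · rw [Units.val_pow_eq_pow_val, sq, Units.val_one]
    exact x.val_inv
  · show (Matrix.diagonal w - 1).rank = 2
    rw [← Matrix.diagonal_one, Matrix.diagonal_sub, Matrix.rank_diagonal, Fintype.card_subtype]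
    have hne : (-1 : F) - 1 ≠ 0 := fun h => h2 (by linear_combination -h)
    have : (Finset.univ.filter fun j => w j - 1 ≠ 0) =
        {Sum.inl (⟨0, hd⟩ : Fin d), Sum.inr ⟨0, hd⟩} := by
      ext (i | i) <;> by_cases h : i = ⟨0, hd⟩ <;> simp [hw, h, hne]
    rw [this, Finset.card_insert_of_notMem (by simp), Finset.card_singleton]

section PrimeOrder

variable {ι : Type} [Fintype ι] [DecidableEq ι] {r : ℕ} [hrp : Fact r.Prime]

/-- The range of `x - 1`. -/
noncomputable def moved (x : Matrix ι ι F) : Submodule F (ι → F) := LinearMap.range (Matrix.toLin' (x - 1))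

theorem moved_inv (x : Matrix ι ι F) : Elusive.Inv (Matrix.toLin' x) (moved x) := by
  rintro _ ⟨v, rfl⟩
  exact ⟨x *ᵥ v, by simp only [Matrix.toLin'_apply, Matrix.mulVec_mulVec, Matrix.mul_sub, Matrix.sub_mul, mul_one, one_mul]⟩

theorem moved_ann {x : Matrix ι ι F} (hx : x ^ r = 1) :
    ∀ v ∈ moved x, aeval (Matrix.toLin' x) (∑ j ∈ Finset.range r, X ^ j : Polynomial F) v = 0 := by
  rintro _ ⟨w, rfl⟩
  have h1 : Matrix.toLin' (x - 1) = Matrix.toLin' x - 1 := by
    rw [map_sub, Matrix.toLin'_one]; rfl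
  have hf : (Matrix.toLin' x : Module.End F (ι → F)) ^ r = 1 := by
    rw [← Matrix.toLin'_pow, hx, Matrix.toLin'_one]; rfl
  have : aeval (Matrix.toLin' x : Module.End F (ι → F)) (∑ j ∈ Finset.range r, X ^ j : Polynomial F) *
      (Matrix.toLin' x - 1) = 0 := by
    rw [map_sum]
    simp only [map_pow, Polynomial.aeval_X]
    rw [geom_sum_mul, hf, sub_self]
  rw [h1]
  exact LinearMap.congr_fun this w

/-- An invariant subspace of the range of `x - 1` has dimension a multiple of the order of `q` modulo `r`. -/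
theorem dvd_of_le_moved (hr : (r : F) ≠ 0) {x : Matrix ι ι F} (hx : x ^ r = 1) {W : Submodule F (ι → F)}
    (hW : Elusive.Inv (Matrix.toLin' x) W) (hle : W ≤ moved x) :
    orderOf (Fintype.card F : ZMod r) ∣ finrank F W :=
  Elusive.dvd_finrank (Elusive.factorDeg_geom hr) hW fun v hv => moved_ann hx v (hle hv)

/-- The range of `x - 1` is non-degenerate for an invariant form. -/
theorem moved_nondeg (hr : (r : F) ≠ 0) (B : LinearMap.BilinForm F (ι → F))
    (hB : ∀ a, (∀ b, B a b = 0) → a = 0) {x : Matrix ι ι F} (hx : x ^ r = 1)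
    (hpres : ∀ a b, B (x *ᵥ a) (x *ᵥ b) = B a b) :
    ∀ a ∈ moved x, (∀ b ∈ moved x, B a b = 0) → a = 0 := by
  intro a ha hab
  refine hB a fun b => ?_
  have hf : (Matrix.toLin' x : Module.End F (ι → F)) ^ r = 1 := by
    rw [← Matrix.toLin'_pow, hx, Matrix.toLin'_one]; rfl
  have hc := Elusive.isCompl_parts hr hf
  have hle : moved x ≤ LinearMap.ker (aeval (Matrix.toLin' x) (∑ j ∈ Finset.range r, X ^ j : Polynomial F)) :=
    fun v hv => LinearMap.mem_ker.2 (moved_ann hx v hv)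
  have heq : moved x = LinearMap.ker (aeval (Matrix.toLin' x) (∑ j ∈ Finset.range r, X ^ j : Polynomial F)) := by
    refine Submodule.eq_of_le_of_finrank_eq hle ?_
    have h1 := Submodule.finrank_add_eq_of_isCompl hc
    have h2 : finrank F (moved x) + finrank F (LinearMap.ker (Matrix.toLin' (x - 1))) = finrank F (ι → F) :=
      LinearMap.finrank_range_add_finrank_ker _
    have h3 : LinearMap.ker ((Matrix.toLin' x : Module.End F (ι → F)) - 1) = LinearMap.ker (Matrix.toLin' (x - 1)) := by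
      rw [map_sub, Matrix.toLin'_one]; rfl
    rw [h3] at h1
    omega
  obtain ⟨c, hc1, w, hw, rfl⟩ := Submodule.mem_sup.1
    (show b ∈ _ ⊔ _ from hc.sup_eq_top.symm ▸ Submodule.mem_top)
  rw [← heq] at hw
  rw [map_add, hab w hw, add_zero]
  obtain ⟨y, rfl⟩ := ha
  have hxc : x *ᵥ c = c := by
    have : (Matrix.toLin' x : Module.End F (ι → F)) c - c = 0 := hc1
    rwa [sub_eq_zero] at this
  rw [Matrix.toLin'_apply, Matrix.sub_mulVec, Matrix.one_mulVec, map_sub, LinearMap.sub_apply]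
  conv_lhs => arg 1; rw [← hxc]
  rw [hpres, sub_self]

end PrimeOrder

theorem dvd_pow_sub_one_iff {q r n : ℕ} [Fact r.Prime] (hq : 0 < q) :
    r ∣ q ^ n - 1 ↔ orderOf (q : ZMod r) ∣ n := by
  rw [orderOf_dvd_iff_pow_eq_one, ← ZMod.natCast_eq_zero_iff, Nat.cast_sub (Nat.one_le_pow _ _ hq),
    Nat.cast_pow, Nat.cast_one, sub_eq_zero]

theorem cval_dvd {i j : ℕ} (h : i ∣ 2 * j) : (if Even i then i else 2 * i) ∣ 2 * j := by
  split
  · exact h
  · rename_i he
    exact Nat.mul_dvd_mul_left 2 ((Nat.Coprime.dvd_mul_left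
      (Nat.coprime_two_right.2 (Nat.not_even_iff_odd.1 he))).1 h)

theorem cast_ne_zero_of_ne (p : ℕ) [Fact p.Prime] [CharP F p] {r : ℕ} (hr : r.Prime) (hne : r ≠ p) :
    (r : F) ≠ 0 := fun h => hne ((Nat.prime_dvd_prime_iff_eq Fact.out hr).1 ((CharP.cast_eq_zero_iff F p r).1 h)).symm

theorem q_ne_zero_mod (p : ℕ) [hp : Fact p.Prime] [CharP F p] {r : ℕ} [hr : Fact r.Prime] (hne : r ≠ p) :
    (Fintype.card F : ZMod r) ≠ 0 := by
  obtain ⟨n, hpp, hn⟩ := FiniteField.card F p
  rw [hn, Nat.cast_pow]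
  refine pow_ne_zero _ fun h => hne ?_
  exact (Nat.prime_dvd_prime_iff_eq hr.out hp.out).1 ((ZMod.natCast_eq_zero_iff _ _).1 h)

theorem order_pos (p : ℕ) [Fact p.Prime] [CharP F p] {r : ℕ} [Fact r.Prime] (hne : r ≠ p) :
    0 < orderOf (Fintype.card F : ZMod r) :=
  Nat.pos_of_dvd_of_pos (ZMod.orderOf_dvd_card_sub_one (q_ne_zero_mod (F := F) p hne))
    (by have := (Fact.out : r.Prime).two_le; omega)

theorem order_cases {r : ℕ} [Fact r.Prime] (p : ℕ) [Fact p.Prime] [CharP F p] (hne : r ≠ p) (hr2 : r ≠ 2) :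
    (if Even (orderOf (Fintype.card F : ZMod r)) then orderOf (Fintype.card F : ZMod r)
      else 2 * orderOf (Fintype.card F : ZMod r)) ≤ r - 1 := by
  have h := ZMod.orderOf_dvd_card_sub_one (q_ne_zero_mod (F := F) p hne)
  have hr := (Fact.out : r.Prime)
  obtain ⟨m, hm⟩ := hr.even_sub_one hr2
  refine Nat.le_of_dvd (by have := hr.two_le; omega) ?_
  rw [show r - 1 = 2 * m by omega] at h ⊢
  exact cval_dvd h

/-- Some factor of the order formula detects `r`. -/
theorem exists_factor {q r n : ℕ} [Fact r.Prime] (hq : 0 < q) (hrq : ¬ r ∣ q) {a : ℕ}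
    (h : r ∣ q ^ a * ∏ l ∈ Finset.range n, (q ^ (2 * (l + 1)) - 1)) :
    ∃ j, 1 ≤ j ∧ j ≤ n ∧ orderOf (q : ZMod r) ∣ 2 * j := by
  rcases (Fact.out : r.Prime).dvd_mul.1 h with h | h
  · exact absurd ((Fact.out : r.Prime).dvd_of_dvd_pow h) hrq
  · obtain ⟨l, hl, hdvd⟩ := ((Fact.out : r.Prime).prime.dvd_finsetProd_iff _).1 h
    exact ⟨l + 1, by omega, Finset.mem_range.1 hl, (dvd_pow_sub_one_iff hq).1 hdvd⟩

/-- An element of order `r` with the least possible moved space. -/
theorem exists_minimal (p : ℕ) [Fact p.Prime] [CharP F p] {r : ℕ} [hr : Fact r.Prime] (hne : r ≠ p)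
    {c : ℕ} (hc : c = if Even (orderOf (Fintype.card F : ZMod r)) then orderOf (Fintype.card F : ZMod r)
      else 2 * orderOf (Fintype.card F : ZMod r)) (hcd : c ≤ 2 * d) :
    ∃ x ∈ spGL d F, x ^ r = 1 ∧ (x.1 - 1).rank = c ∧ 2 ∣ c ∧ 0 < c := by
  classical
  set q := Fintype.card F with hq
  set i := orderOf (q : ZMod r) with hi
  have hi0 : 0 < i := order_pos p hne
  have hc2 : 2 ∣ c ∧ 0 < c ∧ i ∣ c := by
    rw [hc]; split
    · rename_i he; exact ⟨even_iff_two_dvd.1 he, hi0, dvd_rfl⟩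
    · exact ⟨dvd_mul_right 2 i, by omega, dvd_mul_left i 2⟩
  obtain ⟨⟨e, he⟩, hc0, hic⟩ := hc2
  have hrdvd : r ∣ Nat.card (Matrix.symplecticGroup (Fin e) F) := by
    rw [Forms.card_symplecticGroup]
    have key : r ∣ q ^ (2 * (e - 1 + 1)) - 1 := by
      rw [dvd_pow_sub_one_iff Fintype.card_pos, show 2 * (e - 1 + 1) = c by omega]
      exact hic
    exact Dvd.dvd.mul_left (key.trans (Finset.dvd_prod_of_mem (fun l => q ^ (2 * (l + 1)) - 1)
      (Finset.mem_range.2 (show e - 1 < e by omega)))) _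
  obtain ⟨A, hA⟩ := exists_prime_orderOf_dvd_card' r hrdvd
  have hpres := GL.preserves_sympBlock (F := F) (show e + (d - e) = d by omega)
    (GL.mem_symplectic_iff_preserves.1 A.2)
    (GL.mem_symplectic_iff_preserves.1 (one_mem (Matrix.symplecticGroup (Fin (d - e)) F)))
  set M : 𝕄 := GL.sympBlock (show e + (d - e) = d by omega) ((A : Matrix _ _ F), 1) with hM
  let x₀ : Matrix.symplecticGroup (Fin d) F := ⟨M, GL.mem_symplectic_iff_preserves.2 hpres⟩
  set x : GL (Fin d ⊕ Fin d) F := ((Forms.spEquivPreserving d F) x₀).1 with hxdef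
  have hx : x.1 = M := rfl
  have hAr : (A : Matrix (Fin e ⊕ Fin e) (Fin e ⊕ Fin e) F) ^ r = 1 := by
    have := congrArg Subtype.val (hA ▸ pow_orderOf_eq_one A)
    simpa using this
  have hxr : x.1 ^ r = 1 := by rw [hx, hM, ← map_pow, Prod.pow_mk, hAr, one_pow, ← Prod.one_eq_mk, map_one]
  have hxne : x.1 ≠ 1 := fun h1 => by
    rw [hx, hM, ← one_smul F (1 : 𝕄), GL.sympBlock_eq_smul_one, one_smul] at h1
    have : A = 1 := Subtype.ext h1.1
    rw [this, orderOf_one] at hA
    exact hr.out.one_lt.ne hA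
  have hmem : x ∈ spGL d F := ((Forms.spEquivPreserving d F) x₀).2
  refine ⟨x, hmem, Units.ext (by rw [Units.val_pow_eq_pow_val, hxr, Units.val_one]), ?_, ⟨e, he⟩, hc0⟩
  have hr0 : (r : F) ≠ 0 := cast_ne_zero_of_ne p hr.out hne
  refine le_antisymm ?_ ?_
  · -- only `2 e` coordinates move
    refine le_trans ?_ he.ge
    rw [hx, hM]
    have e1 : GL.sympBlock (F := F) (show e + (d - e) = d by omega) ((A : Matrix _ _ F), 1) - 1 =
        Matrix.reindexAlgEquiv F F (GL.sympBlockEquiv (show e + (d - e) = d by omega))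
          (Matrix.fromBlocks ((A : Matrix (Fin e ⊕ Fin e) (Fin e ⊕ Fin e) F) - 1) 0 0
            (0 : Matrix (Fin (d - e) ⊕ Fin (d - e)) (Fin (d - e) ⊕ Fin (d - e)) F)) := by
      rw [← map_one (Matrix.reindexAlgEquiv F F (GL.sympBlockEquiv (show e + (d - e) = d by omega)))]
      show Matrix.reindexAlgEquiv F F _ _ - _ = _
      rw [← map_sub]
      congr 1
      ext (i | i) (j | j) <;> simp [Matrix.one_apply]
    rw [e1, Matrix.reindexAlgEquiv_apply, Matrix.rank_reindex,
      show Matrix.fromBlocks ((A : Matrix (Fin e ⊕ Fin e) (Fin e ⊕ Fin e) F) - 1) 0 0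
          (0 : Matrix (Fin (d - e) ⊕ Fin (d - e)) (Fin (d - e) ⊕ Fin (d - e)) F) =
        Matrix.fromRows ((A : Matrix (Fin e ⊕ Fin e) (Fin e ⊕ Fin e) F) - 1) 0 *
          Matrix.fromCols (1 : Matrix (Fin e ⊕ Fin e) (Fin e ⊕ Fin e) F) 0 by
        rw [Matrix.fromRows_mul_fromCols]; simp]
    refine ((Matrix.rank_mul_le_left _ _).trans (Matrix.rank_le_card_width _)).trans ?_
    simp [two_mul]
  · -- a non-zero non-degenerate invariant space
    have hdvd : i ∣ finrank F (moved x.1) := dvd_of_le_moved hr0 hxr (moved_inv _) le_rfl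
    have hnd := moved_nondeg hr0 (Forms.sympB d F) (Forms.sympB_nondegenerate d).1 hxr
      (fun a b => by rw [Forms.sympB_apply, Forms.sympB_apply]; exact hmem a b)
    have hbotK : Geo.IsFieldSubalgebra 1 (⊥ : Subalgebra F 𝕄) := by
      haveI : Nonempty (Fin d ⊕ Fin d) := ⟨Sum.inl ⟨0, by omega⟩⟩
      refine ⟨fun a ha b hb => ?_, fun a ha h0 => ?_, Subalgebra.finrank_bot⟩
      · obtain ⟨s, rfl⟩ := Algebra.mem_bot.1 ha
        exact Algebra.commutes s b
      · obtain ⟨s, rfl⟩ := Algebra.mem_bot.1 ha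
        refine ⟨algebraMap F 𝕄 s⁻¹, ⟨s⁻¹, rfl⟩, ?_⟩
        rw [← map_mul, mul_inv_cancel₀ fun hs => h0 (by rw [hs, map_zero]), map_one]
    have hSA : SelfAlt (Forms.sympB d F) (⊥ : Subalgebra F 𝕄) := by
      refine ⟨Forms.sympB_isAlt d, fun a ha u v => ?_, fun a ha v => ?_⟩ <;>
        obtain ⟨s, rfl⟩ := Algebra.mem_bot.1 ha <;>
        simp [Algebra.algebraMap_eq_smul_one, Matrix.smul_mulVec, show Forms.sympB d F _ _ = 0 from Forms.sympB_isAlt d _]
    have heven : 2 ∣ finrank F (moved x.1) := by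
      have := two_mul_dvd hbotK one_pos hSA (W := moved x.1) (fun a ha v hv => by
        obtain ⟨s, rfl⟩ := Algebra.mem_bot.1 ha
        rw [Algebra.algebraMap_eq_smul_one, Matrix.smul_mulVec, Matrix.one_mulVec]
        exact Submodule.smul_mem _ s hv) hnd
      simpa using this
    have hpos : finrank F (moved x.1) ≠ 0 := fun h0 => hxne (by
      rw [Submodule.finrank_eq_zero, moved, LinearMap.range_eq_bot, ← map_zero (Matrix.toLin' (R := F) (m := Fin d ⊕ Fin d) (n := Fin d ⊕ Fin d))] at h0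
      exact sub_eq_zero.1 (Matrix.toLin'.injective h0))
    show c ≤ finrank F (moved x.1)
    refine Nat.le_of_dvd (Nat.pos_of_ne_zero hpos) ?_
    rw [hc]
    split
    · exact hdvd
    · rename_i ho
      exact (Nat.coprime_two_left.2 (Nat.not_even_iff_odd.1 ho)).mul_dvd_of_dvd_of_dvd heven hdvd

end Cfsg.Agent.Elusive.ExtField
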