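import Cfsg.Agent.Lib.Elusive.ExtField.Frame
import Cfsg.Agent.Lib.Forms.Symp

/-!
Coordinates over a self-adjoint field subalgebra `K` for `sympForm`, the embedding of the symplectic group over
`K` into the normaliser, and the divisibility it gives.
-/

set_option autoImplicit false
set_option linter.unusedSectionVars false
set_option linter.style.haveILetI false

open scoped Matrix MatrixGroups

namespace Cfsg.Agent.Elusive.ExtField

open Module (finrank)

variable {F : Type*} [Field F] [Fintype F] {d k : ℕ}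
  {K : Subalgebra F (Matrix (Fin d ⊕ Fin d) (Fin d ⊕ Fin d) F)}

local notation "𝕍" => Fin d ⊕ Fin d → F
local notation "𝕄" => Matrix (Fin d ⊕ Fin d) (Fin d ⊕ Fin d) F

theorem selfAlt_symp (hKf : Geo.IsSelfAdjointFor (sympForm d F) K)
    (hKalt : ∀ a ∈ K, ∀ v : 𝕍, sympForm d F (a *ᵥ v) v = 0) : SelfAlt (Forms.sympB d F) K where
  alt := Forms.sympB_isAlt d
  self a ha u v := by simpa [Forms.sympB_apply] using hKf a ha u v
  kalt a ha v := by simpa [Forms.sympB_apply] using hKalt a ha v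

/-- The frame of the whole space. -/
theorem exists_full_frame (hK : Geo.IsFieldSubalgebra k K) (hk : 0 < k) (hB : SelfAlt (Forms.sympB d F) K)
    (θ : K →ₗ[F] F) (hθ : θ ≠ 0) :
    ∃ (m : ℕ) (u v : Fin m → 𝕍), d = k * m ∧ KFrame (Forms.sympB d F) θ u v := by
  obtain ⟨l, u, v, hl, -, hf⟩ := exists_kframe hK hk hB θ hθ ⊤ (fun _ _ _ _ => Submodule.mem_top)
    (fun x _ h => (Forms.sympB_nondegenerate d).1 x fun y => h y Submodule.mem_top)
  refine ⟨l, u, v, ?_, hf⟩
  rw [finrank_top, Module.finrank_fintype_fun_eq_card, Fintype.card_sum, Fintype.card_fin] at hl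
  rw [mul_assoc] at hl
  omega

variable {m : ℕ} {θ : K →ₗ[F] F}

/-- Coordinates from a frame. -/
noncomputable def coordMap (u v : Fin m → 𝕍) : (Fin m ⊕ Fin m → K) →ₗ[F] 𝕍 :=
  ∑ i, ((Aschbacher.evalAt K (u i)).comp (LinearMap.proj (Sum.inl i)) +
    (Aschbacher.evalAt K (v i)).comp (LinearMap.proj (Sum.inr i)))

theorem coordMap_apply (u v : Fin m → 𝕍) (z : Fin m ⊕ Fin m → K) :
    coordMap u v z = ∑ i, ((z (Sum.inl i) : 𝕄) *ᵥ u i + (z (Sum.inr i) : 𝕄) *ᵥ v i) := by
  simp only [coordMap, LinearMap.sum_apply, LinearMap.add_apply, LinearMap.comp_apply, LinearMap.proj_apply]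
  rfl

/-- The form over `K`. -/
def kForm (z z' : Fin m ⊕ Fin m → K) : K :=
  ∑ i, (z (Sum.inr i) * z' (Sum.inl i) - z (Sum.inl i) * z' (Sum.inr i))

theorem form_coordMap (hK : Geo.IsFieldSubalgebra k K) (hB : SelfAlt (Forms.sympB d F) K) {u v : Fin m → 𝕍}
    (hf : KFrame (Forms.sympB d F) θ u v) (z z' : Fin m ⊕ Fin m → K) :
    sympForm d F (coordMap u v z) (coordMap u v z') = -θ (kForm z z') := by
  rw [← Forms.sympB_apply, coordMap_apply, coordMap_apply]
  have hvu : ∀ (a : K) i j, Forms.sympB d F ((a : 𝕄) *ᵥ v i) (u j) = -(if j = i then θ a else 0) :=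
    fun a i j => by rw [hB.swapK a.2, hf.uv]
  have hcomm : ∀ a b : K, a * b = b * a := fun a b => Subtype.ext (hK.comm _ a.2 _ b.2)
  simp only [map_sum, map_add, LinearMap.sum_apply, LinearMap.add_apply, mulVec_pair hB, hf.uu, hf.vv, hf.uv, hvu,
    kForm, map_sub, add_zero, zero_add]
  simp only [Finset.sum_add_distrib, Finset.sum_ite_eq, Finset.sum_ite_eq', Finset.mem_univ, if_true,
    Finset.sum_neg_distrib, ite_neg, Finset.sum_sub_distrib]
  rw [Finset.sum_congr rfl fun i _ => congrArg θ (hcomm (z' (Sum.inr i)) (z (Sum.inl i))),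
    Finset.sum_congr rfl fun i _ => congrArg θ (hcomm (z' (Sum.inl i)) (z (Sum.inr i)))]
  ring

theorem mulVec_coordMap (hK : Geo.IsFieldSubalgebra k K) (u v : Fin m → 𝕍) (a : K)
    (z : Fin m ⊕ Fin m → K) : (a : 𝕄) *ᵥ coordMap u v z = coordMap u v (fun j => a * z j) := by
  simp only [coordMap_apply, Matrix.mulVec_sum, Matrix.mulVec_add, Matrix.mulVec_mulVec, Subalgebra.coe_mul]

theorem coordMap_bijective (hK : Geo.IsFieldSubalgebra k K) (hB : SelfAlt (Forms.sympB d F) K) (hθ : θ ≠ 0)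
    {u v : Fin m → 𝕍} (hf : KFrame (Forms.sympB d F) θ u v) (hd : d = k * m) :
    Function.Bijective (coordMap (K := K) u v) := by
  have hinj : Function.Injective (coordMap (K := K) u v) := by
    rw [injective_iff_map_eq_zero]
    intro z hz
    have h0 : ∀ z', θ (kForm z z') = 0 := fun z' => by
      have := form_coordMap hK hB hf z z'
      rw [hz, ← Forms.sympB_apply, map_zero, LinearMap.zero_apply] at this
      rw [← neg_eq_zero, ← this]
    have hθnd : ∀ e : K, (∀ a : K, θ (e * a) = 0) → e = 0 := fun e he => by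
      by_contra he0
      obtain ⟨b, hb⟩ := exists_mul_eq_one hK he0
      refine hθ (LinearMap.ext fun a => ?_)
      have := he (b * a)
      rwa [← mul_assoc, show e * b = 1 from (Subtype.ext (hK.comm _ e.2 _ b.2) : e * b = b * e).trans hb,
        one_mul] at this
    classical
    refine funext fun j => hθnd _ fun a => ?_
    rcases j with i | i
    · have := h0 (Pi.single (Sum.inr i) a)
      simpa [kForm, Pi.single_apply, Finset.sum_ite_eq', mul_ite] using this
    · have := h0 (Pi.single (Sum.inl i) a)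
      simpa [kForm, Pi.single_apply, Finset.sum_ite_eq', mul_ite] using this
  refine ⟨hinj, (LinearMap.injective_iff_surjective_of_finrank_eq_finrank ?_).1 hinj⟩
  rw [Module.finrank_pi_fintype, Finset.sum_const, Finset.card_univ, hK.finrank_eq,
    Module.finrank_fintype_fun_eq_card, Fintype.card_sum, Fintype.card_sum, Fintype.card_fin, Fintype.card_fin,
    smul_eq_mul, hd]
  ring

/-- Transport of a linear map of coordinates. -/
noncomputable def lift (E : (Fin m ⊕ Fin m → K) ≃ₗ[F] 𝕍) :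
    ((Fin m ⊕ Fin m → K) →ₗ[F] (Fin m ⊕ Fin m → K)) →* 𝕄 where
  toFun T := LinearMap.toMatrix' (E.toLinearMap ∘ₗ T ∘ₗ E.symm.toLinearMap)
  map_one' := by
    rw [← LinearMap.toMatrix'_id]
    congr 1
    exact LinearMap.ext fun x => E.apply_symm_apply x
  map_mul' S T := by
    rw [← LinearMap.toMatrix'_mul]
    congr 1
    exact LinearMap.ext fun x => by simp

theorem lift_mulVec (E : (Fin m ⊕ Fin m → K) ≃ₗ[F] 𝕍) (T : (Fin m ⊕ Fin m → K) →ₗ[F] (Fin m ⊕ Fin m → K))
    (z : Fin m ⊕ Fin m → K) : lift E T *ᵥ E z = E (T z) := by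
  show LinearMap.toMatrix' _ *ᵥ _ = _
  rw [LinearMap.toMatrix'_mulVec]
  simp

/-- An invertible coordinate map preserving `θ ∘ kForm` and semilinear for `σ` gives an element of the
normaliser in the symplectic group. -/
theorem lift_mem (hK : Geo.IsFieldSubalgebra k K) (hB : SelfAlt (Forms.sympB d F) K) {u v : Fin m → 𝕍}
    (hf : KFrame (Forms.sympB d F) θ u v) (E : (Fin m ⊕ Fin m → K) ≃ₗ[F] 𝕍) (hE : ∀ z, E z = coordMap u v z)
    (g : GL (Fin d ⊕ Fin d) F) (T : (Fin m ⊕ Fin m → K) →ₗ[F] (Fin m ⊕ Fin m → K)) (hg : g.1 = lift E T)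
    (hform : ∀ z z', θ (kForm (T z) (T z')) = θ (kForm z z')) (σ : K ≃ K)
    (hσ : ∀ (a : K) z, T (fun j => a * z j) = fun j => σ a * T z j) :
    g ∈ spGL d F ∧ g ∈ Geo.subalgebraNormalizer K := by
  refine ⟨fun x y => ?_, ?_⟩
  · show sympForm d F (g.1 *ᵥ x) (g.1 *ᵥ y) = sympForm d F x y
    obtain ⟨z, rfl⟩ := E.surjective x
    obtain ⟨z', rfl⟩ := E.surjective y
    rw [hg, lift_mulVec, lift_mulVec, hE, hE, hE, hE, form_coordMap hK hB hf, form_coordMap hK hB hf, hform]
  · have hc : ∀ a : K, g.1 * (a : 𝕄) = (σ a : 𝕄) * g.1 := fun a => by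
      refine Matrix.toLin'.injective (LinearMap.ext fun x => ?_)
      obtain ⟨z, rfl⟩ := E.surjective x
      simp only [Matrix.toLin'_apply, ← Matrix.mulVec_mulVec]
      rw [hg, hE z, mulVec_coordMap hK, ← hE, lift_mulVec, hσ, hE, ← hE z, lift_mulVec, hE,
        mulVec_coordMap hK]
    refine mem_normalizer_of_conj g (fun a ha => ?_) (fun a ha => ?_)
    · rw [hc ⟨a, ha⟩, mul_assoc, Units.mul_inv, mul_one]; exact (σ _).2
    · have h : (g⁻¹ : GL (Fin d ⊕ Fin d) F).1 * a * g.1 = (σ.symm ⟨a, ha⟩ : 𝕄) := by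
        have := hc (σ.symm ⟨a, ha⟩)
        rw [Equiv.apply_symm_apply] at this
        rw [mul_assoc, show a * g.1 = g.1 * (σ.symm ⟨a, ha⟩ : 𝕄) from this.symm, ← mul_assoc, Units.inv_mul,
          one_mul]
      rw [h]; exact (σ.symm ⟨a, ha⟩).2

/-- The order of the symplectic group over `K` divides that of the normaliser. -/
theorem card_dvd (hK : Geo.IsFieldSubalgebra k K) (hk : 0 < k) (hB : SelfAlt (Forms.sympB d F) K) :
    ∃ m, d = k * m ∧ (Fintype.card F ^ k) ^ (m ^ 2) *
      ∏ l ∈ Finset.range m, ((Fintype.card F ^ k) ^ (2 * (l + 1)) - 1) ∣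
        Nat.card ((Geo.subalgebraNormalizer K).subgroupOf (spGL d F)) := by
  classical
  haveI : Nontrivial K := Module.nontrivial_of_finrank_pos (R := F) (by rw [hK.finrank_eq]; exact hk)
  obtain ⟨θ, hθ⟩ := exists_ne (0 : K →ₗ[F] F)
  obtain ⟨m, u, v, hd, hf⟩ := exists_full_frame hK hk hB θ hθ
  letI : Field K := (isField hK hk).toField
  haveI : Finite K := Module.finite_of_finite F
  letI : Fintype K := Fintype.ofFinite K
  refine ⟨m, hd, ?_⟩
  have hcardK : Fintype.card K = Fintype.card F ^ k := by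
    rw [← hK.finrank_eq, ← Module.card_eq_pow_finrank]
  rw [← hcardK, ← Forms.card_spGL (F := K)]
  let E := LinearEquiv.ofBijective (coordMap (K := K) u v) (coordMap_bijective hK hB hθ hf hd)
  let T : spGL m K →* ((Fin m ⊕ Fin m → K) →ₗ[F] (Fin m ⊕ Fin m → K)) :=
    { toFun := fun A => (Matrix.mulVecLin (A.1 : Matrix (Fin m ⊕ Fin m) (Fin m ⊕ Fin m) K)).restrictScalars F
      map_one' := LinearMap.ext fun z => by simp
      map_mul' := fun A A' => LinearMap.ext fun z => by simp [Matrix.mulVec_mulVec] }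
  let φ : spGL m K →* GL (Fin d ⊕ Fin d) F := ((lift E).comp T).toHomUnits
  have hkF : ∀ z z', kForm z z' = sympForm m K z z' := fun z z' => (Forms.sympForm_eq_sum z z').symm
  have hφ : ∀ A, φ A ∈ spGL d F ∧ φ A ∈ Geo.subalgebraNormalizer K := fun A =>
    lift_mem hK hB hf E (fun z => rfl) (φ A) (T A) rfl
      (fun z z' => by rw [hkF, hkF]; exact congrArg θ (A.2 z z')) (Equiv.refl K)
      (fun a z => (Matrix.mulVec_smul _ a z).trans rfl)
  let ψ : spGL m K →* (Geo.subalgebraNormalizer K).subgroupOf (spGL d F) :=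
    (φ.codRestrict _ fun A => (hφ A).1).codRestrict _ fun A => (hφ A).2
  refine Subgroup.card_dvd_of_injective ψ fun A A' h => Subtype.ext (Units.ext ?_)
  have h2 : lift E (T A) = lift E (T A') := congrArg (fun g => g.1.1.1) h
  refine Matrix.toLin'.injective (LinearMap.ext fun z => ?_)
  have := congrArg (fun M => M *ᵥ E z) h2
  simp only [lift_mulVec] at this
  simp only [Matrix.toLin'_apply]
  exact E.injective this

end Cfsg.Agent.Elusive.ExtField
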