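import Cfsg.Agent.Lib.Elusive.ExtField.SympElements
import Cfsg.Agent.Lib.Forms.SympInvolution

/-!
Elements of prime order and the normaliser of a self-adjoint extension field in the symplectic group.
-/

set_option autoImplicit false
set_option linter.unusedSectionVars false
set_option linter.style.haveILetI false

open scoped Matrix MatrixGroups

namespace Cfsg.Agent.Elusive.ExtField

open Module (finrank)

variable {F : Type*} [Field F] [Fintype F] {d k : ℕ}
  {K : Subalgebra F (Matrix (Fin d ⊕ Fin d) (Fin d ⊕ Fin d) F)}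

local notation "𝕍" => Fin d ⊕ Fin d → F
local notation "𝕄" => Matrix (Fin d ⊕ Fin d) (Fin d ⊕ Fin d) F

/-- An element with a small moved space is not conjugate into the normaliser. -/
theorem not_conj (hK : Geo.IsFieldSubalgebra k K) (hk : k.Prime) (hB : SelfAlt (Forms.sympB d F) K) {r : ℕ}
    [Fact r.Prime] {x : GL (Fin d ⊕ Fin d) F} (hx : x ∈ spGL d F) (hxr : x ^ r = 1) {c : ℕ}
    (hc : (x.1 - 1).rank = c) (hc0 : 0 < c) (hlin : c < k ∨ ((r : F) ≠ 0 ∧ ¬ 2 * k ∣ c))
    (hsemi : r = k → 2 * d + k * c < k * (2 * d)) :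
    ¬ ∃ g ∈ spGL d F, g⁻¹ * x * g ∈ Geo.subalgebraNormalizer K := by
  rintro ⟨g, hg, hn⟩
  set y := g⁻¹ * x * g with hy
  have hyr : y ^ r = 1 := by
    rw [hy, show g⁻¹ * x * g = g⁻¹ * x * (g⁻¹)⁻¹ by rw [inv_inv], conj_pow, hxr, mul_one, mul_inv_cancel]
  have hyc : (y.1 - 1).rank = c := by rw [hy, rank_conj, hc]
  have hysp : y ∈ spGL d F := mul_mem (mul_mem (inv_mem hg) hx) hg
  by_cases hcomm : ∀ a ∈ K, y.1 * a = a * y.1
  · have hM : ∀ a ∈ K, (y.1 - 1) * a = a * (y.1 - 1) := fun a ha => by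
      rw [sub_mul, mul_sub, hcomm a ha, one_mul, mul_one]
    have hinv := kinv_range hM
    rcases hlin with hlt | ⟨hr, hnd⟩
    · have hne : moved y.1 ≠ ⊥ := fun h => by
        have : finrank F (moved y.1) = 0 := by rw [h, finrank_bot]
        exact hc0.ne' (hyc ▸ this)
      have : k ≤ c := hyc ▸ le_finrank_of_kinv hK hinv hne
      omega
    · refine hnd (hyc ▸ two_mul_dvd hK hk.pos hB hinv ?_)
      exact moved_nondeg hr (Forms.sympB d F) (Forms.sympB_nondegenerate d).1
        (by rw [← Units.val_pow_eq_pow_val, hyr, Units.val_one])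
        (fun a b => by rw [Forms.sympB_apply, Forms.sympB_apply]; exact hysp a b)
  · have hrk : r = k := (commute_or_eq hK hk y hn hyr).resolve_left hcomm
    have := rank_semilinear hK hk y hn hcomm
    rw [hyc, Fintype.card_sum, Fintype.card_fin, ← two_mul] at this
    have := hsemi hrk
    omega

/-- If `2 k` divides the least moved dimension, the index is prime to `r`. -/
theorem not_dvd_index (hK : Geo.IsFieldSubalgebra k K) (hk : 0 < k) (hB : SelfAlt (Forms.sympB d F) K) (p : ℕ)
    [Fact p.Prime] [CharP F p] {r : ℕ} [hr : Fact r.Prime] (hne : r ≠ p) {c : ℕ}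
    (hc : c = if Even (orderOf (Fintype.card F : ZMod r)) then orderOf (Fintype.card F : ZMod r)
      else 2 * orderOf (Fintype.card F : ZMod r)) (hdvd : 2 * k ∣ c) :
    ¬ r ∣ (Geo.subalgebraNormalizer K).relIndex (spGL d F) := by
  classical
  obtain ⟨m, hd, hm⟩ := card_dvd hK hk hB
  set q := Fintype.card F with hq
  intro h
  set f : ℕ → ℕ := fun l => q ^ (2 * (l + 1)) - 1 with hf
  set R := ∏ l ∈ (Finset.range d).filter (fun l => ¬ k ∣ l + 1), f l with hR
  have hmult : ∏ l ∈ (Finset.range d).filter (fun l => k ∣ l + 1), f l =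
      ∏ l ∈ Finset.range m, ((q ^ k) ^ (2 * (l + 1)) - 1) := by
    refine (Finset.prod_nbij (fun l => k * (l + 1) - 1) (fun l hl => ?_) (fun l _ l' _ e => ?_)
      (fun j hj => ?_) (fun l _ => ?_)).symm
    · have h1 : k * (l + 1) ≤ k * m := Nat.mul_le_mul_left k (Finset.mem_range.1 hl)
      have h2 : 0 < k * (l + 1) := Nat.mul_pos hk (Nat.succ_pos l)
      simp only [Finset.mem_coe, Finset.mem_filter, Finset.mem_range]
      exact ⟨by omega, by rw [Nat.sub_add_cancel h2]; exact dvd_mul_right _ _⟩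
    · have h2 : 0 < k * (l + 1) := Nat.mul_pos hk (Nat.succ_pos l)
      have h3 : 0 < k * (l' + 1) := Nat.mul_pos hk (Nat.succ_pos l')
      have : k * (l + 1) = k * (l' + 1) := by simp only at e; omega
      have := Nat.eq_of_mul_eq_mul_left hk this
      omega
    · simp only [Finset.mem_coe, Finset.mem_filter, Finset.mem_range] at hj
      obtain ⟨l, hl⟩ := hj.2
      rcases l with _ | l
      · simp at hl
      · refine ⟨l, Finset.mem_coe.2 (Finset.mem_range.2 (Nat.lt_of_succ_le (Nat.le_of_mul_le_mul_left ?_ hk))),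
          by simp only; omega⟩
        show k * (l + 1) ≤ k * m
        omega
    · have h2 : 0 < k * (l + 1) := Nat.mul_pos hk (Nat.succ_pos l)
      rw [hf]; simp only [Nat.sub_add_cancel h2, ← pow_mul]
      congr 2; ring
  set N := (Geo.subalgebraNormalizer K).subgroupOf (spGL d F) with hN
  obtain ⟨t, ht⟩ := (Dvd.intro_left _ rfl).trans hm
  have hP : 0 < ∏ l ∈ Finset.range m, ((q ^ k) ^ (2 * (l + 1)) - 1) :=
    Finset.prod_pos fun l _ => Nat.sub_pos_of_lt
      (Nat.one_lt_pow (by omega) (Nat.one_lt_pow (by omega) Fintype.one_lt_card))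
  have hcard : N.index * Nat.card N = q ^ d ^ 2 * ((∏ l ∈ Finset.range m, ((q ^ k) ^ (2 * (l + 1)) - 1)) * R) := by
    rw [N.index_mul_card, Forms.card_spGL, ← hmult, hR, Finset.prod_filter_mul_prod_filter_not]
  rw [ht] at hcard
  have hit : N.index * t = q ^ d ^ 2 * R := Nat.eq_of_mul_eq_mul_left hP (by linear_combination hcard)
  have hrd : r ∣ q ^ d ^ 2 * R := hit ▸ Dvd.dvd.mul_right h t
  rcases hr.out.dvd_mul.1 hrd with h1 | h1
  · exact q_ne_zero_mod (F := F) p hne ((ZMod.natCast_eq_zero_iff _ _).2 (hr.out.dvd_of_dvd_pow h1))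
  · obtain ⟨l, hl, hdl⟩ := (hr.out.prime.dvd_finsetProd_iff _).1 h1
    refine (Finset.mem_filter.1 hl).2 ?_
    have hcl : c ∣ 2 * (l + 1) := hc ▸ cval_dvd ((dvd_pow_sub_one_iff Fintype.card_pos).1 hdl)
    exact (Nat.mul_dvd_mul_iff_left two_pos).1 (hdvd.trans hcl)

/-- In dimension four over an odd field, every element of order two modulo scalars is conjugate into the
normaliser of a self-adjoint quadratic extension. -/
theorem conj_of_two {K : Subalgebra F (Matrix (Fin 2 ⊕ Fin 2) (Fin 2 ⊕ Fin 2) F)}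
    (hK : Geo.IsFieldSubalgebra 2 K) (hB : SelfAlt (Forms.sympB 2 F) K) (h2 : (2 : F) ≠ 0)
    {x : GL (Fin 2 ⊕ Fin 2) F} (hx : x ∈ spGL 2 F) {z : F}
    (hz : ((x ^ 2 : GL (Fin 2 ⊕ Fin 2) F) : Matrix (Fin 2 ⊕ Fin 2) (Fin 2 ⊕ Fin 2) F) = z • 1)
    (hns : ∀ s : F, x.1 ≠ s • 1) :
    ∃ g ∈ spGL 2 F, g⁻¹ * x * g ∈ Geo.subalgebraNormalizer K := by
  classical
  letI : Field K := (isField hK two_pos).toField
  haveI : Finite K := Module.finite_of_finite F
  haveI : Module.Finite F K := Module.Finite.of_finite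
  have hθ : Algebra.trace F K ≠ 0 := Algebra.trace_ne_zero F K
  obtain ⟨m, u, v, hd, hf⟩ := exists_full_frame hK two_pos hB (Algebra.trace F K) hθ
  let E := LinearEquiv.ofBijective (coordMap (K := K) u v) (coordMap_bijective hK hB hθ hf hd)
  obtain ⟨σ, hσ⟩ : ∃ σ : K ≃ₐ[F] K, σ ≠ 1 := by
    haveI : Fintype (K ≃ₐ[F] K) := Fintype.ofFinite _
    haveI : Nontrivial (K ≃ₐ[F] K) := Fintype.one_lt_card_iff_nontrivial.1 (by
      rw [← Nat.card_eq_fintype_card, card_aut hK two_pos]; norm_num)
    exact exists_ne 1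
  set f := Forms.glEquiv (Fin 2 ⊕ Fin 2) F with hfdef
  have hVd : finrank F (Fin 2 ⊕ Fin 2 → F) = 2 * 2 := by simp
  have hA := Forms.sympB_isAlt (F := F) 2
  have hN := Forms.sympB_nondegenerate (F := F) 2
  have hpres : ∀ {g : GL (Fin 2 ⊕ Fin 2) F}, g ∈ spGL 2 F → ∀ a b,
      Forms.sympB 2 F (f g a) (f g b) = Forms.sympB 2 F a b := fun {g} hg a b => by
    rw [hfdef, Forms.glEquiv_apply, Forms.glEquiv_apply, Forms.sympB_apply, Forms.sympB_apply]; exact hg a b
  -- transfer a conjugating isometry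
  have hfin : ∀ y : GL (Fin 2 ⊕ Fin 2) F, y ∈ Geo.subalgebraNormalizer K →
      (∃ g : (Fin 2 ⊕ Fin 2 → F) ≃ₗ[F] (Fin 2 ⊕ Fin 2 → F),
        (∀ a b, Forms.sympB 2 F (g a) (g b) = Forms.sympB 2 F a b) ∧ ∀ a, g (f y a) = f x (g a)) →
      ∃ g ∈ spGL 2 F, g⁻¹ * x * g ∈ Geo.subalgebraNormalizer K := by
    rintro y hy ⟨g, hgB, hgx⟩
    obtain ⟨G, rfl⟩ := f.surjective g
    refine ⟨G, fun a b => ?_, ?_⟩
    · have := hgB a b
      rw [hfdef, Forms.glEquiv_apply, Forms.glEquiv_apply, Forms.sympB_apply, Forms.sympB_apply] at this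
      exact this
    · have hGy : G * y = x * G := Units.ext (Matrix.toLin'.injective (LinearMap.ext fun a => by
        have := hgx a
        simp only [hfdef, Forms.glEquiv_apply, Matrix.mulVec_mulVec] at this
        simpa using this))
      rwa [mul_assoc, ← hGy, inv_mul_cancel_left]
  have hz' : ∀ a, f x (f x a) = z • a := fun a => by
    rw [hfdef, Forms.glEquiv_apply, Forms.glEquiv_apply, Matrix.mulVec_mulVec, ← Units.val_mul, ← sq, hz,
      Matrix.smul_mulVec, Matrix.one_mulVec]
  have hzz : z * z = 1 := GL.symp_scalar_sq two_pos (c := z) (fun a b => by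
    rw [← hz]; exact (pow_mem hx 2 : x ^ 2 ∈ spGL 2 F) a b)
  rcases mul_self_eq_one_iff.1 hzz with rfl | rfl
  · -- an involution: conjugation on the coordinates
    let T : (Fin m ⊕ Fin m → K) →ₗ[F] (Fin m ⊕ Fin m → K) := σ.toLinearMap.compLeft _
    have hT : T * T = 1 := LinearMap.ext fun w => funext fun j => by
      show σ (σ (w j)) = w j
      have h1 : σ ^ Nat.card (K ≃ₐ[F] K) = 1 := pow_card_eq_one'
      rw [card_aut hK two_pos, sq] at h1
      exact AlgEquiv.congr_fun h1 (w j)
    let y : GL (Fin 2 ⊕ Fin 2) F :=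
      ⟨lift E T, lift E T, by rw [← map_mul, hT, map_one], by rw [← map_mul, hT, map_one]⟩
    have hy := lift_mem hK hB hf E (fun w => rfl) y T rfl (fun w w' => by
        have : kForm (T w) (T w') = σ (kForm w w') := by
          show ∑ i, (σ (w (Sum.inr i)) * σ (w' (Sum.inl i)) - σ (w (Sum.inl i)) * σ (w' (Sum.inr i))) =
            σ (∑ i, (w (Sum.inr i) * w' (Sum.inl i) - w (Sum.inl i) * w' (Sum.inr i)))
          simp [map_sum]
        rw [this]
        exact Algebra.trace_eq_of_algEquiv σ _) σ.toEquiv (fun a w => funext fun j => map_mul σ a (w j))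
    have hyns : ∀ s : F, y.1 ≠ s • 1 := fun s h => by
      obtain ⟨a, ha⟩ : ∃ a : K, σ a ≠ a := by
        by_contra hc; push Not at hc; exact hσ (AlgEquiv.ext hc)
      have hm : 0 < m := by omega
      have key : ∀ b : K, σ b = s • b := fun b => by
        have h1 := lift_mulVec E T (fun _ => b)
        rw [show lift E T = s • 1 from h, Matrix.smul_mulVec, Matrix.one_mulVec, ← map_smul] at h1
        exact (congrFun (E.injective h1) (Sum.inl ⟨0, hm⟩)).symm
      have hs : s = 1 := by
        have := key 1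
        rw [map_one, eq_comm, ← one_smul F (1 : K), smul_smul, mul_one] at this
        exact smul_left_injective F (one_ne_zero : (1 : K) ≠ 0) this
      exact ha (by rw [key, hs, one_smul])
    obtain ⟨u₁, v₁, s₁, hf₁, hs₁⟩ := Forms.SympInvolution.exists_frame_involution hVd hA hN h2 (f y)
      (hpres hy.1) (fun a => by
        rw [hfdef, Forms.glEquiv_apply, Forms.glEquiv_apply, Matrix.mulVec_mulVec, ← Units.val_mul,
          show y * y = 1 from Units.ext y.val_inv, Units.val_one, Matrix.one_mulVec]) 2 le_rfl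
    obtain ⟨u₂, v₂, s₂, hf₂, hs₂⟩ := Forms.SympInvolution.exists_frame_involution hVd hA hN h2 (f x)
      (hpres hx) (fun a => by rw [hz', one_smul]) 2 le_rfl
    have hcnt : ∀ (w : GL (Fin 2 ⊕ Fin 2) F) (u v : Fin 2 → (Fin 2 ⊕ Fin 2 → F)) (s : Fin 2 → Bool),
        Forms.SympInvolution.IsFrame (Forms.sympB 2 F) u v → (∀ i, f w (u i) = (if s i then (1 : F) else -1) • u i ∧
          f w (v i) = (if s i then (1 : F) else -1) • v i) → (∀ t : F, w.1 ≠ t • 1) →
        Fintype.card {i // s i = true} = 1 := by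
      intro w u v s hfr hs hw
      have hne : s 0 ≠ s 1 := fun he => hw (if s 0 then 1 else -1) (Matrix.toLin'.injective
        ((hfr.basis hA hVd two_pos).ext fun i => by
          have hall : ∀ i, s i = s 0 := Fin.forall_fin_two.2 ⟨rfl, he.symm⟩
          rw [hfr.basis_apply hVd hA two_pos, Matrix.toLin'_apply, map_smul, Matrix.toLin'_one,
            LinearMap.smul_apply, LinearMap.id_apply]
          rcases i with i | i
          · have := (hs i).1; rw [hfdef, Forms.glEquiv_apply, hall] at this; exact this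
          · have := (hs i).2; rw [hfdef, Forms.glEquiv_apply, hall] at this; exact this))
      have key : ∀ s : Fin 2 → Bool, s 0 ≠ s 1 → Fintype.card {i // s i = true} = 1 := by decide
      exact key s hne
    refine hfin y hy.2 (Forms.SympInvolution.exists_conj_of_frames hVd hA two_pos (f y) (f x) hf₁ hf₂ hs₁ hs₂ ?_)
    rw [hcnt y u₁ v₁ s₁ hf₁ hs₁ hyns, hcnt x u₂ v₂ s₂ hf₂ hs₂ hns]
  · -- square minus one: a quarter turn over `K`
    let T : (Fin m ⊕ Fin m → K) →ₗ[F] (Fin m ⊕ Fin m → K) :=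
      { toFun := fun w => Sum.elim (fun i => -w (Sum.inr i)) (fun i => w (Sum.inl i))
        map_add' := fun a b => funext fun j => by rcases j with i | i <;> simp [add_comm]
        map_smul' := fun s a => funext fun j => by rcases j with i | i <;> simp }
    have hT : T * T = -1 := LinearMap.ext fun w => funext fun j => by rcases j with i | i <;> simp [T]
    have hT' : T * -T = 1 := LinearMap.ext fun w => funext fun j => by rcases j with i | i <;> simp [T]
    have hT'' : -T * T = 1 := LinearMap.ext fun w => funext fun j => by rcases j with i | i <;> simp [T]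
    let y : GL (Fin 2 ⊕ Fin 2) F :=
      ⟨lift E T, lift E (-T), by rw [← map_mul, hT', map_one], by rw [← map_mul, hT'', map_one]⟩
    have hy := lift_mem hK hB hf E (fun w => rfl) y T rfl (fun w w' => by
        refine congrArg _ (Finset.sum_congr rfl fun i _ => ?_)
        simp [T]; ring) (Equiv.refl K) (fun a w => funext fun j => by rcases j with i | i <;> simp [T])
    refine hfin y hy.2 (Forms.SympInvolution.exists_conj_of_sq_eq_neg hVd hA hN h2 two_pos (f y) (f x)
      (hpres hy.1) (hpres hx) (fun a => ?_) (fun a => by rw [hz', neg_one_smul]))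
    rw [hfdef, Forms.glEquiv_apply, Forms.glEquiv_apply]
    obtain ⟨w, rfl⟩ := E.surjective a
    show lift E T *ᵥ (lift E T *ᵥ E w) = -E w
    rw [lift_mulVec, lift_mulVec, ← map_neg]
    congr 1
    exact LinearMap.congr_fun hT w

end Cfsg.Agent.Elusive.ExtField
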